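import Mathlib
import Cfsg.Agent.H863.BTI
import Cfsg.Agent.FastGrp
import Cfsg.Agent.Prune
set_option linter.all false
prune_inst 0x7ffffffffbfcfddfdfff7e7fafdedffdffbb3fffe6fffdcb7fe0ebff7b9f7f88cfe5fbaf8fe890fc5ff6e21490fa7b53ffffffffe26ffc7ffffdfff41ffbffdffdf7b50851fe9cb41fbc2fff03f0778e7f3fffffffffffffffffffffffffffbeffbfffffffff
open scoped Cfsg.Agent.FastGrp

-- part: H863/BData
section
/-!
# The data of the routes (helper863; generated)
-/

set_option autoImplicit false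
set_option maxRecDepth 20000

namespace Cfsg.Agent.H863.BData

open Cfsg.Agent.BabyM.Conc Cfsg.Agent.BabyM.KTab Cfsg.Agent.H863.BCheck

/-- The numbers of the base nodes of the lanes. -/
def FT : ℕ := 0x6667676666766677666766000000000066676766667666776667660000000000000000000000000000000000000000000000000111111111111111133333333333333333333333333333333222222222222222211111111111111112222222222222222222222222222222233333333333333331111111111111111333333333333333322222222222222223333333333333333111111111111111111111111111111113333333333333333111111111111111144444444444444441111111111111111333333333333333333333333333333331111111111111111111111111111111122222222222222222222222222222222222222222222222233333333333333331111111111111111444444444444444411111111111111113333333333333333444444444444444422222222222222221111111111111111333333333333333311111111111111111111111111111111222222222222222222222222222222222222222222222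22211111111111111112222222222222222111111111111111122222222222222222222222222222222333333333333333311111111111111114444444444444444111111111111111111111111111111114444444444444444333333333333333311111111111111111111111111111111111111111111111111111111111111111111111111111111222222222222222222222222222222222222222222222222222222222222222211111111111111112222222222222222111111111111111155555555555555553333333333333333333333333333333311111111111111114444444444444444111111111111111111111111111111111111111111111111333333333333333311111111111111114444444444444444222222222222222244444444444444441111111111111111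

/-- The codes of the base nodes. -/
def LT : ℕ := 0xafe551d78980001fe00024f00020800035a000127000400

/-- The code of the base node number `k`. -/
noncomputable def Lc (k : ℕ) : ℕ := fld LT 24 0x3fffff k

/-- The number of the base node of a lane. -/
noncomputable def ft (i : ℕ) : ℕ := fld FT 4 7 i

/-- The words of the base nodes. -/
def Lw : ℕ → List Ltr
  | 0 => []
  | 1 => [.xi, .y2, .h, .xi, .y5, .xi, .h, .xi, .y1]
  | 2 => [.xi, .y2, .p, .h, .p, .h, .p, .h, .p]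
  | 3 => [.xi, .y2, .h, .xi, .y1, .xi, .h, .p]
  | 4 => [.xi, .h, .xi, .y4, .y6, .xi]
  | 5 => [.xi, .y2, .p, .p, .xi, .y3, .xi]
  | 6 => [.xi, .p, .xi, .y1, .p, .xi, .y3, .y10, .xi, .h]
  | 7 => [.xi, .p, .xi, .p, .p, .y2, .h]
  | _ => []

/-- The routes of the letter `y1`. -/
def R_y1 : RTab :=
  .cons 0 0x400 .nil <|
  .cons 9 0x527 (.cons 0x127 [.p, .p, .p, .p, .p, .h, .p, .p, .p, .h, .p, .p, .h, .xi, .y2, .h, .xi, .y5, .xi, .h, .xi] .nil) <|
  .cons 18 0x35a .nil <|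
  .cons 27 0x208 .nil <|
  .cons 36 0x64f (.cons 0x24f [.y2, .xi, .h, .xi, .y1, .y10, .xi] .nil) <|
  .cons 54 0x1d783e (.cons 0x1d7965 [.p, .h, .p, .p, .p, .h, .p, .p, .p, .p, .h, .p, .xi, .p, .xi, .y2, .p, .xi, .y3, .y10, .xi, .h] (.cons 0x1d7898 [.y2, .p, .p, .p, .p, .p, .h, .p, .p, .p, .p, .p, .xi, .p, .xi, .y10, .h, .xi, .y1, .y10, .xi, .h] .nil)) <|
  .cons 45 0x1fe .nil <|
  .cons 63 0xafb93 (.cons 0xaf880 [.y2, .p, .p, .p, .p, .p, .h, .p, .p, .p, .h, .p, .p, .xi, .p, .xi, .p, .p, .y3, .h] (.cons 0xafe55 [.y2, .h, .p, .p, .p, .p, .h, .p, .p, .p, .h, .p, .p, .xi, .y2, .p, .xi, .y3, .p, .p, .h] .nil)) <|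
  .nil

/-- The routes of the letter `y2`. -/
def R_y2 : RTab :=
  .cons 0 0x400 .nil <|
  .cons 9 0x527 (.cons 0x127 [.p, .p, .p, .p, .p, .h, .p, .p, .p, .h, .p, .p, .h, .xi, .y2, .h, .xi, .y5, .xi, .h, .xi] .nil) <|
  .cons 18 0x75a (.cons 0x35a [.y2, .xi, .p, .h, .p, .h, .p, .h, .p] .nil) <|
  .cons 27 0x208 .nil <|
  .cons 36 0x64f (.cons 0x24f [.y2, .xi, .h, .xi, .y1, .y10, .xi] .nil) <|
  .cons 54 0x1d7be9 (.cons 0x1d786e [.y2, .p, .p, .p, .p, .p, .p, .p, .p, .p, .p, .h, .xi, .y2, .p, .xi, .h, .xi, .y1, .y10, .xi, .h] (.cons 0x1d7898 [.p, .h, .p, .p, .p, .h, .p, .p, .p, .p, .h, .p, .xi, .p, .xi, .y1, .p, .xi, .y10, .xi, .p, .p] .nil)) <|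
  .cons 45 0x5fe (.cons 0x1fe [.y2, .xi, .p, .p, .xi, .y3, .xi] .nil) <|
  .cons 63 0xafc80 (.cons 0xaf913 [.h, .xi, .p, .xi, .p, .p, .h] (.cons 0xafe55 [.y2, .p, .p, .p, .p, .p, .h, .p, .p, .p, .h, .p, .p, .h, .xi, .h, .xi, .p, .p, .p, .h] .nil)) <|
  .nil

/-- The routes of the letter `y3`. -/
def R_y3 : RTab :=
  .cons 0 0x400 .nil <|
  .cons 9 0x527 (.cons 0x127 [.p, .p, .p, .p, .p, .h, .p, .p, .p, .h, .p, .p, .h, .xi, .y2, .h, .xi, .y5, .xi, .h, .xi] .nil) <|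
  .cons 18 0x35a .nil <|
  .cons 27 0x208 .nil <|
  .cons 36 0x64f (.cons 0x24f [.y2, .xi, .h, .xi, .y1, .y10, .xi] .nil) <|
  .cons 54 0x1d7fb9 (.cons 0x1d786e [.p, .h, .p, .p, .h, .p, .p, .p, .h, .xi, .p, .h, .xi, .h, .xi, .y10, .xi, .p, .p] (.cons 0x1d7898 [.p, .h, .p, .p, .p, .h, .p, .p, .p, .p, .h, .p, .xi, .p, .xi, .y1, .p, .xi, .y10, .xi, .p, .p] .nil)) <|
  .cons 45 0x5fe (.cons 0x1fe [.y2, .xi, .p, .p, .xi, .y3, .xi] .nil) <|
  .cons 63 0xafd46 (.cons 0xaf880 [.y2, .xi, .p, .xi, .y3, .p, .p, .h] (.cons 0xafe55 [.y2, .h, .p, .p, .p, .p, .h, .p, .p, .p, .h, .p, .p, .xi, .y2, .p, .xi, .y3, .p, .p, .h] .nil)) <|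
  .nil

/-- The routes of the letter `y4`. -/
def R_y4 : RTab :=
  .cons 0 0x400 .nil <|
  .cons 9 0x127 .nil <|
  .cons 18 0x75a (.cons 0x35a [.y2, .xi, .p, .h, .p, .h, .p, .h, .p] .nil) <|
  .cons 27 0x608 (.cons 0x208 [.y2, .xi, .h, .xi, .y1, .xi, .h, .p] .nil) <|
  .cons 36 0x64f (.cons 0x24f [.y2, .xi, .h, .xi, .y1, .y10, .xi] .nil) <|
  .cons 54 0x1d7cc8 (.cons 0x1d7898 [.y2, .p, .p, .p, .p, .p, .h, .p, .p, .p, .p, .p, .xi, .p, .xi, .y4, .p, .xi, .y3, .y10, .xi, .h] .nil) <|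
  .cons 45 0x5fe (.cons 0x1fe [.y2, .xi, .p, .p, .xi, .y3, .xi] .nil) <|
  .cons 63 0xafe55 .nil <|
  .nil

/-- The routes of the letter `y5`. -/
def R_y5 : RTab :=
  .cons 0 0x400 .nil <|
  .cons 9 0x127 .nil <|
  .cons 18 0x75a (.cons 0x35a [.y2, .xi, .p, .h, .p, .h, .p, .h, .p] .nil) <|
  .cons 27 0x208 .nil <|
  .cons 36 0x24f .nil <|
  .cons 54 0x1d7eb2 (.cons 0x1d786e [.h, .p, .p, .p, .h, .p, .xi, .p, .xi, .p, .xi, .y9, .p, .xi, .h] (.cons 0x1d7898 [.p, .h, .p, .p, .p, .h, .p, .p, .p, .p, .h, .p, .xi, .p, .xi, .y1, .p, .xi, .y10, .xi, .p, .p] .nil)) <|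
  .cons 45 0x5fe (.cons 0x1fe [.y2, .xi, .p, .p, .xi, .y3, .xi] .nil) <|
  .cons 63 0xafb93 (.cons 0xaf880 [.y2, .p, .p, .p, .p, .p, .h, .p, .p, .p, .h, .p, .p, .xi, .p, .xi, .p, .p, .y3, .h] (.cons 0xafe55 [.y2, .h, .p, .p, .p, .p, .h, .p, .p, .p, .h, .p, .p, .xi, .y2, .p, .xi, .y3, .p, .p, .h] .nil)) <|
  .nil

/-- The routes of the letter `y6`. -/
def R_y6 : RTab :=
  .cons 0 0x400 .nil <|
  .cons 9 0x527 (.cons 0x127 [.p, .p, .p, .p, .p, .h, .p, .p, .p, .h, .p, .p, .h, .xi, .y2, .h, .xi, .y5, .xi, .h, .xi] .nil) <|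
  .cons 18 0x35a .nil <|
  .cons 27 0x208 .nil <|
  .cons 36 0x24f .nil <|
  .cons 54 0x1d7f4f (.cons 0x1d786e [.h, .p, .p, .p, .p, .h, .p, .p, .p, .p, .p, .xi, .p, .xi, .p, .y5, .xi, .y10, .xi, .p, .p] (.cons 0x1d7898 [.p, .h, .p, .p, .p, .h, .p, .p, .p, .p, .h, .p, .xi, .p, .xi, .y1, .p, .xi, .y10, .xi, .p, .p] .nil)) <|
  .cons 45 0x5fe (.cons 0x1fe [.y2, .xi, .p, .p, .xi, .y3, .xi] .nil) <|
  .cons 63 0xaf8d5 (.cons 0xafe55 [.y2, .p, .h, .p, .p, .h, .p, .p, .p, .p, .h, .p, .p, .xi, .p, .xi, .y4, .p, .p, .h] .nil) <|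
  .nil

/-- The routes of the letter `y7`. -/
def R_y7 : RTab :=
  .cons 0 0x400 .nil <|
  .cons 9 0x127 .nil <|
  .cons 18 0x75a (.cons 0x35a [.y2, .xi, .p, .h, .p, .h, .p, .h, .p] .nil) <|
  .cons 27 0x208 .nil <|
  .cons 36 0x64f (.cons 0x24f [.y2, .xi, .h, .xi, .y1, .y10, .xi] .nil) <|
  .cons 54 0x1d7ab2 (.cons 0x1d7898 [.p, .h, .p, .p, .h, .p, .p, .xi, .p, .xi, .p, .p, .p, .xi, .h, .y8, .xi] .nil) <|
  .cons 45 0x5fe (.cons 0x1fe [.y2, .xi, .p, .p, .xi, .y3, .xi] .nil) <|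
  .cons 63 0xafd46 (.cons 0xaf880 [.y2, .xi, .p, .xi, .y3, .p, .p, .h] (.cons 0xafe55 [.y2, .h, .p, .p, .p, .p, .h, .p, .p, .p, .h, .p, .p, .xi, .y2, .p, .xi, .y3, .p, .p, .h] .nil)) <|
  .nil

/-- The routes of the letter `y8`. -/
def R_y8 : RTab :=
  .cons 0 0x400 .nil <|
  .cons 9 0x127 .nil <|
  .cons 18 0x35a .nil <|
  .cons 27 0x208 .nil <|
  .cons 36 0x24f .nil <|
  .cons 54 0x1d7fb9 (.cons 0x1d786e [.p, .h, .p, .p, .h, .p, .p, .p, .h, .xi, .p, .h, .xi, .h, .xi, .y10, .xi, .p, .p] (.cons 0x1d7898 [.p, .h, .p, .p, .p, .h, .p, .p, .p, .p, .h, .p, .xi, .p, .xi, .y1, .p, .xi, .y10, .xi, .p, .p] .nil)) <|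
  .cons 45 0x5fe (.cons 0x1fe [.y2, .xi, .p, .p, .xi, .y3, .xi] .nil) <|
  .cons 63 0xaff66 (.cons 0xaf880 [.y2, .p, .h, .p, .p, .h, .p, .p, .p, .p, .p, .p, .xi, .p, .xi, .y1, .y3, .p, .p, .h] (.cons 0xafe55 [.y2, .h, .p, .p, .p, .p, .h, .p, .p, .p, .h, .p, .p, .xi, .y2, .p, .xi, .y3, .p, .p, .h] .nil)) <|
  .nil

/-- The routes of the letter `y9`. -/
def R_y9 : RTab :=
  .cons 0 0x400 .nil <|
  .cons 9 0x527 (.cons 0x127 [.p, .p, .p, .p, .p, .h, .p, .p, .p, .h, .p, .p, .h, .xi, .y2, .h, .xi, .y5, .xi, .h, .xi] .nil) <|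
  .cons 18 0x75a (.cons 0x35a [.y2, .xi, .p, .h, .p, .h, .p, .h, .p] .nil) <|
  .cons 27 0x208 .nil <|
  .cons 36 0x24f .nil <|
  .cons 54 0x1d783e (.cons 0x1d7965 [.p, .h, .p, .p, .p, .h, .p, .p, .p, .p, .h, .p, .xi, .p, .xi, .y2, .p, .xi, .y3, .y10, .xi, .h] (.cons 0x1d7898 [.y2, .p, .p, .p, .p, .p, .h, .p, .p, .p, .p, .p, .xi, .p, .xi, .y10, .h, .xi, .y1, .y10, .xi, .h] .nil)) <|
  .cons 45 0x5fe (.cons 0x1fe [.y2, .xi, .p, .p, .xi, .y3, .xi] .nil) <|
  .cons 63 0xafc80 (.cons 0xaf913 [.h, .xi, .p, .xi, .p, .p, .h] (.cons 0xafe55 [.y2, .p, .p, .p, .p, .p, .h, .p, .p, .p, .h, .p, .p, .h, .xi, .h, .xi, .p, .p, .p, .h] .nil)) <|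
  .nil

/-- The routes of the letter `y10`. -/
def R_y10 : RTab :=
  .cons 0 0x400 .nil <|
  .cons 9 0x127 .nil <|
  .cons 18 0x75a (.cons 0x35a [.y2, .xi, .p, .h, .p, .h, .p, .h, .p] .nil) <|
  .cons 27 0x608 (.cons 0x208 [.y2, .xi, .h, .xi, .y1, .xi, .h, .p] .nil) <|
  .cons 36 0x64f (.cons 0x24f [.y2, .xi, .h, .xi, .y1, .y10, .xi] .nil) <|
  .cons 54 0x1d7c6e (.cons 0x1d7a44 [.y2, .p, .h, .p, .p, .h, .p, .p, .p, .p, .h, .p, .p, .xi, .p, .xi, .p, .y2, .xi, .y3, .y10, .xi, .h] (.cons 0x1d7898 [.p, .p, .p, .p, .p, .h, .p, .p, .p, .p, .p, .h, .xi, .p, .xi, .p, .xi, .y3, .y10, .xi, .h] .nil)) <|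
  .cons 45 0x1fe .nil <|
  .cons 63 0xaff33 (.cons 0xaf880 [.y2, .h, .p, .p, .p, .p, .h, .p, .p, .p, .p, .p, .xi, .y2, .p, .xi, .p, .y4, .p, .h] (.cons 0xafe55 [.y2, .h, .p, .p, .p, .p, .h, .p, .p, .p, .h, .p, .p, .xi, .y2, .p, .xi, .y3, .p, .p, .h] .nil)) <|
  .nil

/-- The routes of the letter `p`. -/
def R_p : RTab :=
  .cons 0 0x400 .nil <|
  .cons 9 0x275 (.cons 0x133 [.h, .p, .h, .p, .p, .p, .h, .p, .p, .p, .xi, .h, .xi, .y4, .p, .xi] (.cons 0x127 [.h, .p, .h, .p, .p, .p, .p, .p, .p, .p, .xi, .y2, .h, .p, .h] .nil)) <|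
  .cons 9 0x275 (.cons 0x2eb [.y2, .h, .xi, .h, .xi, .y4, .p, .xi] (.cons 0x127 [.h, .p, .h, .p, .p, .p, .p, .p, .p, .p, .xi, .y2, .h, .p] .nil)) <|
  .cons 17 0x30 (.cons 0x41 [.y2, .p, .h, .p, .p, .p, .h, .p, .p, .p, .p, .h, .p, .xi, .p, .xi, .y3, .xi, .h, .xi, .y5, .xi] (.cons 0x127 [.p, .h, .p, .h, .p, .h, .p, .h, .p, .p, .p, .p, .xi, .h, .p, .xi, .y1, .h] .nil)) <|
  .cons 17 0x30 (.cons 0x2f [.y2, .h, .p, .h, .p, .p, .p, .h, .p, .p, .p, .p, .xi, .p, .xi, .y3, .xi, .h, .xi, .y5, .xi] (.cons 0x127 [.y2, .h, .p, .p, .p, .h, .p, .h, .p, .h, .p, .xi, .h, .p, .h, .xi, .y10, .xi, .h] .nil)) <|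
  .cons 11 0x275 (.cons 0x9e [.h, .xi, .h, .xi, .y4, .p, .xi] (.cons 0x208 [.p, .p, .p, .p, .p, .h, .p, .p, .p, .p, .p, .h, .xi, .h, .xi, .y5, .xi, .p] .nil)) <|
  .cons 11 0x275 (.cons 0x27c [.y2, .p, .p, .p, .p, .p, .h, .p, .p, .p, .h, .p, .p, .h, .xi, .h, .xi, .y4, .p, .xi] (.cons 0x208 [.y2, .p, .p, .p, .p, .p, .h, .p, .p, .p, .p, .p, .h, .xi, .y2, .p] .nil)) <|
  .cons 12 0x275 (.cons 0x104 [.y2, .p, .h, .p, .p, .h, .p, .p, .p, .p, .p, .xi, .h, .xi, .y4, .p, .xi] (.cons 0x24f [.y2, .h, .p, .p, .p, .p, .h, .p, .xi, .p, .h, .p, .p, .p, .h, .xi, .y5, .xi] .nil)) <|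
  .cons 12 0x275 (.cons 0x4b [.p, .h, .p, .p, .h, .p, .p, .p, .h, .p, .p, .xi, .h, .xi, .y4, .p, .xi] (.cons 0x24f [.y2, .p, .p, .p, .p, .h, .p, .p, .p, .p, .xi, .h, .p, .xi, .y1, .p] .nil)) <|
  .cons 26 0x2da (.cons 0x60 [.y2, .h, .p, .h, .p, .h, .p, .h, .xi, .y2, .h, .xi, .y1, .xi, .h, .p, .p] (.cons 0x35a [.p, .h, .p, .h, .p, .xi, .p, .p, .xi, .y10, .xi, .h] .nil)) <|
  .cons 26 0x2da (.cons 0x5b2 [.y2, .h, .p, .h, .p, .h, .p, .p, .h, .xi, .y2, .h, .xi, .y1, .xi, .h, .p, .p] (.cons 0x1aa [.y2, .p, .h, .p, .h, .p, .h, .p, .h, .p, .p, .p, .p, .xi, .y2, .h, .xi, .y10, .xi, .p, .h] (.cons 0x35a [.y2, .h, .p, .h, .p, .p, .h, .p, .h, .p, .p, .h, .xi, .h, .p, .h, .xi, .y9, .xi, .p] .nil))) <|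
  .cons 26 0x2da (.cons 0x21a [.h, .p, .h, .p, .p, .h, .p, .p, .p, .h, .xi, .y2, .h, .xi, .y1, .xi, .h, .p, .p] (.cons 0x35a [.p, .h, .p, .h, .p, .h, .p, .xi, .h, .xi, .y1, .xi, .h, .xi, .y2] .nil)) <|
  .cons 18 0x30 (.cons 0xa [.y2, .p, .h, .p, .h, .p, .h, .p, .h, .p, .p, .p, .h, .xi, .p, .xi, .y3, .xi, .h, .xi, .y5, .xi] (.cons 0x35a [.h, .p, .p, .p, .h, .p, .h, .p, .p, .h, .xi, .p, .h, .p, .p, .p, .xi, .y9, .xi] .nil)) <|
  .cons 18 0x30 (.cons 0x71 [.p, .h, .p, .p, .p, .h, .p, .p, .p, .p, .h, .p, .xi, .p, .xi, .y3, .xi, .h, .xi, .y5, .xi] (.cons 0x35a [.h, .p, .p, .p, .h, .p, .p, .p, .h, .xi, .p, .p, .p, .h, .xi, .y9, .xi] .nil)) <|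
  .cons 25 0x2da (.cons 0x14 [.y2, .p, .p, .h, .p, .p, .h, .p, .xi, .y2, .h, .xi, .y1, .xi, .h, .p, .p] (.cons 0x127 [.y2, .h, .p, .p, .p, .h, .p, .h, .p, .h, .p, .xi, .h, .p, .h, .xi, .y5, .xi] .nil)) <|
  .cons 25 0x2da (.cons 0x166 [.p, .h, .p, .p, .p, .p, .p, .h, .p, .h, .p, .xi, .y2, .h, .xi, .y1, .xi, .h, .p, .p] (.cons 0x127 [.y2, .p, .h, .p, .p, .h, .p, .p, .h, .p, .xi, .h, .p, .xi, .y1, .p, .p, .h] .nil)) <|
  .cons 10 0x275 (.cons 0x2eb [.y2, .h, .xi, .h, .xi, .y4, .p, .xi] (.cons 0x35a [.y2, .p, .h, .p, .h, .p, .xi, .y2, .h, .p] .nil)) <|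
  .cons 19 0x30 (.cons 0x208 [.y2, .h, .p, .h, .p, .h, .p, .h, .xi, .p, .xi, .y3, .xi, .h, .xi, .y5, .xi] .nil) <|
  .cons 33 0xea (.cons 0x127 [.p, .p, .p, .p, .p, .h, .p, .p, .p, .h, .p, .p, .h, .xi, .y2] .nil) <|
  .cons 27 0x2da (.cons 0x208 [.h, .p, .h, .p, .p, .p, .h, .p, .p, .p, .p, .xi, .y2, .h, .xi, .y1, .xi, .h, .p, .p] .nil) <|
  .cons 34 0xea (.cons 0x35a [.h, .p, .h, .p, .p, .h, .p, .h, .p, .p, .h, .xi, .y2] .nil) <|
  .cons 54 0x1f8a59 (.cons 0xa0a2a [.y2, .h, .p, .h, .p, .h, .xi, .p, .xi, .y4, .h, .p, .p, .h] (.cons 0x19592d [.p, .p, .p, .p, .h, .p, .h, .p, .p, .p, .h, .xi, .p, .p, .xi, .h, .p, .h] (.cons 0x1d7898 [.y2, .h, .p, .p, .p, .h, .p, .h, .p, .p, .p, .xi, .p, .p, .xi, .y1, .p, .xi, .y5, .xi] .nil))) <|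
  .cons 54 0x1f8a59 (.cons 0x158713 [.y2, .p, .p, .p, .p, .h, .p, .h, .p, .p, .p, .xi, .p, .xi, .y4, .h, .p, .p, .h] (.cons 0x1150a8 [.p, .h, .p, .h, .p, .h, .p, .h, .p, .h, .xi, .p, .p, .xi, .p, .y2, .xi, .p, .xi, .p, .y1] (.cons 0x1d7898 [.h, .p, .p, .p, .p, .p, .p, .p, .p, .xi, .p, .h, .p, .xi, .y2, .p, .y4, .xi, .h] .nil))) <|
  .cons 54 0x1f8a59 (.cons 0x48dab [.h, .p, .h, .p, .h, .p, .h, .xi, .p, .xi, .y4, .h, .p, .p, .h] (.cons 0xc2d2b [.h, .p, .h, .p, .p, .p, .p, .p, .xi, .p, .xi, .p, .p, .y3, .xi, .p, .y4, .h] (.cons 0x1d7898 [.p, .p, .h, .p, .p, .p, .h, .p, .p, .xi, .y2, .p, .xi, .p, .p, .xi, .h, .p, .h] .nil))) <|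
  .cons 13 0x275 (.cons 0x1ef [.y2, .p, .p, .p, .h, .p, .p, .h, .p, .h, .xi, .h, .xi, .y4, .p, .xi] (.cons 0x1fe [.y2, .h, .p, .h, .p, .p, .h, .p, .h, .p, .p, .h, .xi, .p, .p, .xi, .y1, .y10, .xi, .p, .h] .nil)) <|
  .cons 35 0xea (.cons 0x208 [.y2, .h, .p, .h, .p, .h, .p, .h, .xi, .y2] .nil) <|
  .cons 44 0x3ed (.cons 0x1bb [.y2, .p, .p, .p, .h, .p, .p, .h, .p, .h, .p, .xi, .y2, .p, .p, .xi, .y3, .xi, .p] (.cons 0x24f [.p, .p, .p, .p, .p, .h, .p, .p, .p, .p, .p, .h, .xi, .y2, .p, .p, .h, .p, .p, .h] .nil)) <|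
  .cons 55 0x1f8a59 (.cons 0x88aa [.y2, .h, .p, .h, .xi, .p, .xi, .y4, .h, .p, .p, .h] (.cons 0xafe55 [.p, .h, .p, .h, .p, .p, .p, .p, .h, .xi, .p, .p, .xi, .y10, .p, .xi, .h, .y5, .xi, .p] .nil)) <|
  .cons 55 0x1f8a59 (.cons 0xa0a2a [.y2, .h, .p, .h, .p, .h, .xi, .p, .xi, .y4, .h, .p, .p, .h] (.cons 0xafe55 [.y2, .p, .h, .p, .p, .h, .p, .p, .p, .p, .p, .p, .xi, .p, .p, .xi, .h, .p, .h] .nil)) <|
  .cons 62 0x1775a1 (.cons 0x42103 [.y2, .h, .p, .p, .p, .h, .p, .h, .p, .p, .h, .xi, .p, .xi, .p, .p, .y2, .h, .p] (.cons 0x1d7898 [.p, .p, .p, .p, .p, .h, .p, .h, .p, .xi, .p, .p, .xi, .p, .y2, .xi, .h, .p, .xi, .p] .nil)) <|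
  .cons 62 0x1775a1 (.cons 0x157406 [.y2, .h, .p, .p, .p, .h, .p, .h, .p, .p, .xi, .p, .xi, .p, .p, .y2, .h, .p] (.cons 0x1d7898 [.p, .p, .p, .p, .p, .h, .p, .p, .p, .p, .p, .xi, .h, .p, .h, .xi, .y8, .p, .h, .xi, .h] .nil)) <|
  .nil

/-- The routes of the letter `h`. -/
def R_h : RTab :=
  .cons 0 0x400 .nil <|
  .cons 9 0x127 .nil <|
  .cons 18 0xa (.cons 0x35a [.h, .p, .p, .p, .h, .p, .h, .p, .p, .h, .xi, .p, .h, .p, .p, .p, .xi, .y9, .xi] .nil) <|
  .cons 19 0xa (.cons 0x578 [.y2, .h, .p, .h, .p, .h, .p, .h, .p, .h, .xi, .p, .h, .p, .p, .p, .xi, .y9, .xi] (.cons 0x2e2 [.y2, .p, .p, .p, .p, .p, .p, .p, .p, .p, .p, .h, .xi, .y2, .h, .p, .h, .xi, .y10, .xi, .p] (.cons 0x208 [.p, .p, .p, .p, .p, .h, .p, .p, .p, .p, .p, .h, .xi, .h, .xi, .y10, .xi, .p] .nil))) <|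
  .cons 19 0xa (.cons 0x30 [.y2, .p, .h, .p, .p, .p, .h, .p, .p, .p, .p, .h, .p, .xi, .p, .h, .p, .p, .p, .xi, .y9, .xi] (.cons 0x208 [.y2, .h, .p, .h, .p, .h, .p, .h, .xi, .p, .xi, .y3, .xi, .h, .xi, .y5, .xi] .nil)) <|
  .cons 26 0xc0 (.cons 0x120 [.y2, .h, .p, .h, .p, .h, .p, .h, .xi, .y2, .h, .p, .h, .p, .h, .p] (.cons 0x35a [.y2, .p, .p, .h, .p, .p, .h, .p, .xi, .y2, .p, .h, .p, .xi, .y10, .xi, .p] .nil)) <|
  .cons 26 0xc0 (.cons 0x10f8be [.p, .p, .p, .p, .p, .h, .p, .p, .p, .h, .p, .p, .p, .xi, .y2, .h, .p, .h, .p, .h, .p] (.cons 0x35a [.y2, .p, .p, .p, .p, .p, .h, .p, .p, .p, .p, .p, .xi, .y2, .p, .xi, .y3, .h, .p, .p, .p, .h] .nil)) <|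
  .cons 26 0xc0 (.cons 0x10fe64 [.p, .p, .p, .p, .h, .p, .h, .p, .h, .xi, .y2, .h, .p, .h, .p, .h, .p] (.cons 0x460 [.y2, .h, .xi, .p, .xi, .y10, .h, .p, .p, .p, .h] (.cons 0x35a [.y2, .p, .p, .p, .p, .h, .p, .p, .p, .h, .p, .xi, .y2, .p, .p, .xi, .y10, .xi, .h] .nil))) <|
  .cons 26 0xc0 (.cons 0x21a [.y2, .h, .p, .h, .p, .p, .h, .p, .p, .p, .h, .xi, .y2, .h, .p, .h, .p, .h, .p] (.cons 0x35a [.p, .h, .p, .h, .p, .h, .p, .xi, .h, .xi, .y1, .xi, .h, .xi, .y2] .nil)) <|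
  .cons 27 0xc0 (.cons 0x208 [.h, .p, .h, .p, .h, .p, .p, .h, .xi, .y2, .h, .p, .h, .p, .h, .p] .nil) <|
  .cons 20 0xa (.cons 0x4b [.y2, .p, .p, .p, .p, .h, .p, .p, .p, .h, .p, .xi, .p, .h, .p, .p, .p, .xi, .y9, .xi] (.cons 0x24f [.y2, .p, .p, .p, .p, .h, .p, .p, .p, .p, .xi, .h, .p, .xi, .y1, .p] .nil)) <|
  .cons 20 0xa (.cons 0x139 [.y2, .h, .p, .p, .p, .h, .p, .p, .p, .h, .xi, .p, .h, .p, .p, .p, .xi, .y9, .xi] (.cons 0x24f [.y2, .h, .p, .h, .p, .p, .p, .h, .p, .p, .p, .xi, .h, .xi, .p, .y2, .xi, .p] .nil)) <|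
  .cons 28 0xc0 (.cons 0x172 [.h, .p, .h, .p, .p, .h, .p, .h, .p, .p, .h, .xi, .y2, .h, .p, .h, .p, .h, .p] (.cons 0x24f [.p, .h, .p, .p, .p, .h, .p, .p, .p, .p, .h, .p, .xi, .y2, .h] .nil)) <|
  .cons 28 0xc0 (.cons 0x204 [.y2, .h, .p, .h, .p, .p, .p, .h, .xi, .y2, .h, .p, .h, .p, .h, .p] (.cons 0x24f [.p, .h, .p, .p, .h, .p, .p, .p, .p, .h, .p, .p, .xi, .p, .p, .p, .xi, .y1, .xi, .h, .p] .nil)) <|
  .cons 34 0x3d7 (.cons 0xea [.p, .h, .p, .p, .p, .h, .p, .p, .p, .p, .h, .p, .xi, .h, .xi, .y4, .y6, .xi, .h] (.cons 0x35a [.h, .p, .h, .p, .p, .h, .p, .h, .p, .p, .h, .xi, .y2] .nil)) <|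
  .cons 34 0x3d7 (.cons 0x15b [.p, .h, .p, .h, .p, .h, .p, .h, .p, .p, .p, .h, .xi, .h, .xi, .y4, .y6, .xi, .h] (.cons 0x35a [.p, .p, .h, .p, .p, .p, .h, .p, .p, .h, .xi, .h, .p, .xi, .y1, .p, .h] .nil)) <|
  .cons 35 0x3d7 (.cons 0xea [.p, .h, .p, .p, .p, .h, .p, .p, .p, .p, .h, .p, .xi, .h, .xi, .y4, .y6, .xi, .h] (.cons 0x208 [.y2, .h, .p, .h, .p, .h, .p, .h, .xi, .y2] .nil)) <|
  .cons 35 0x3d7 (.cons 0x266 [.p, .h, .p, .h, .p, .xi, .h, .xi, .y4, .y6, .xi, .h] (.cons 0x208 [.y2, .p, .p, .p, .p, .h, .p, .p, .p, .h, .p, .xi, .y2, .p, .p, .xi, .y1, .xi, .p, .p] .nil)) <|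
  .cons 36 0x3d7 (.cons 0x787 [.y2, .h, .p, .xi, .h, .xi, .y4, .y6, .xi, .h] (.cons 0x585 [.y2, .p, .h, .p, .h, .p, .h, .p, .h, .p, .p, .p, .xi, .h, .p, .xi, .h, .p, .h] (.cons 0x24f [.h, .p, .h, .p, .p, .h, .p, .h, .p, .p, .h, .xi, .p, .h, .xi, .y9, .xi, .p] .nil))) <|
  .cons 54 0x7da50 (.cons 0x4501f [.y2, .p, .p, .p, .p, .p, .h, .p, .xi, .p, .xi, .y1, .p, .xi, .y3, .y10, .xi] (.cons 0x1d7898 [.y2, .p, .h, .p, .h, .p, .h, .p, .p, .p, .xi, .p, .p, .xi, .y2, .p, .xi, .y7, .p, .y4, .xi] .nil)) <|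
  .cons 54 0x7da50 (.cons 0x11aad [.p, .p, .p, .p, .p, .p, .p, .xi, .p, .xi, .y1, .p, .xi, .y3, .y10, .xi] (.cons 0x1d7898 [.y2, .p, .p, .h, .p, .xi, .h, .p, .h, .p, .xi, .p, .xi, .h, .xi, .y5] .nil)) <|
  .cons 45 0x2ae (.cons 0x32b [.h, .p, .h, .p, .p, .p, .p, .p, .p, .p, .xi, .y2, .p, .p, .xi, .y3, .xi, .h] (.cons 0x1fe [.p, .p, .p, .p, .p, .h, .p, .p, .p, .h, .p, .p, .h, .xi, .y2, .p, .p, .h, .p] .nil)) <|
  .cons 55 0x7da50 (.cons 0x297ad [.y2, .h, .p, .h, .p, .p, .p, .h, .xi, .p, .xi, .y1, .p, .xi, .y3, .y10, .xi] (.cons 0xafaa0 [.y2, .p, .h, .p, .p, .h, .p, .p, .p, .h, .p, .xi, .p, .p, .xi, .p, .y5, .xi, .y6, .h, .xi, .h] (.cons 0xafe55 [.p, .xi, .p, .h, .xi, .y4, .h, .p, .h] .nil))) <|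
  .cons 62 0x1cbea5 (.cons 0x18339e [.h, .p, .h, .p, .h, .p, .xi, .p, .xi, .p, .p, .y2] (.cons 0x1d7993 [.h, .p, .h, .p, .p, .p, .p, .xi, .p, .p, .xi, .p, .y5, .xi, .y6, .h, .xi, .y9] (.cons 0x1d7898 [.y2, .p, .h, .p, .p, .h, .p, .p, .p, .p, .p, .p, .xi, .p, .xi, .y3, .h, .xi, .y4, .y6, .xi, .h] .nil))) <|
  .cons 63 0x1cbea5 (.cons 0x8a34c [.y2, .p, .p, .p, .p, .h, .p, .h, .p, .p, .p, .h, .xi, .p, .xi, .p, .p, .y2] (.cons 0xafe55 [.y2, .p, .h, .p, .p, .h, .xi, .p, .h, .p, .xi, .p, .xi, .y5] .nil)) <|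
  .nil

/-- The routes of the letter `xi`. -/
def R_xi : RTab :=
  .cons 0 0x4ea (.cons 0x400 [.xi] .nil) <|
  .cons 1 0x4ea (.cons 0x127 [.y2, .p, .h, .p, .p, .h, .p, .p, .p, .p, .h, .p, .p, .xi] .nil) <|
  .cons 8 0x127 (.cons 0x400 [.y2, .p, .p, .p, .p, .p, .h, .p, .p, .p, .h, .p, .p, .h, .xi, .y2, .h, .xi, .y5, .xi, .h, .xi, .y1] .nil) <|
  .cons 9 0x127 .nil <|
  .cons 18 0x35a .nil <|
  .cons 27 0x208 .nil <|
  .cons 2 0x4ea (.cons 0x35a [.y2, .p, .h, .p, .h, .p, .h, .p, .xi] .nil) <|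
  .cons 16 0x35a (.cons 0x400 [.xi, .y2, .p, .h, .p, .h, .p, .h, .p] .nil) <|
  .cons 3 0x4ea (.cons 0x208 [.y2, .h, .p, .h, .p, .h, .p, .h, .xi] .nil) <|
  .cons 4 0x4ea (.cons 0x1cd [.y2, .p, .p, .p, .p, .p, .h, .p, .p, .p, .h, .p, .p, .h, .xi] (.cons 0x24f [.p, .p, .p, .p, .p, .p, .p, .p, .p, .p, .h, .xi, .h, .xi, .y5, .xi, .h] .nil)) <|
  .cons 24 0x208 (.cons 0x400 [.xi, .y2, .h, .xi, .y1, .xi, .h, .p] .nil) <|
  .cons 32 0x1eff03 (.cons 0x1cd [.p, .p, .p, .p, .p, .h, .p, .p, .p, .h, .p, .p, .h, .xi, .h, .xi, .y4, .y6] (.cons 0x400 [.xi, .h, .xi, .y5, .xi, .h] .nil)) <|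
  .cons 36 0x1eff03 (.cons 0x1ef8d4 [.y2, .p, .p, .p, .p, .p, .p, .p, .p, .p, .p, .h, .xi, .h, .xi, .y4, .y6] (.cons 0x24f [.y2, .p, .p, .p, .p, .p, .p, .p, .p, .p, .p, .xi, .h, .xi] .nil)) <|
  .cons 38 0x1eff03 (.cons 0x8786c [.y2, .h, .p, .p, .p, .p, .xi, .h, .xi, .y4, .y6] (.cons 0x1d7965 [.h, .p, .p, .p, .p, .h, .p, .h, .p, .xi, .h, .p, .xi, .p, .xi, .h, .y10, .xi] (.cons 0x1d7898 [.y2, .p, .p, .p, .p, .p, .h, .p, .p, .p, .p, .p, .xi, .p, .xi, .y10, .h, .xi, .y1, .y10, .xi, .h] .nil))) <|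
  .cons 38 0x1eff03 (.cons 0x146b34 [.h, .p, .p, .p, .h, .p, .h, .p, .h, .p, .xi, .h, .xi, .y4, .y6] (.cons 0x1d7ab2 [.y2, .p, .h, .p, .h, .p, .p, .h, .p, .h, .xi, .p, .p, .h, .p, .p, .xi, .y1] (.cons 0x1d7898 [.p, .h, .p, .p, .h, .p, .p, .xi, .p, .xi, .p, .p, .p, .xi, .h, .y8, .xi] .nil))) <|
  .cons 52 0x3853e (.cons 0x885b1 [.y2, .h, .p, .p, .p, .p, .h, .p, .p, .p, .p, .xi, .p, .p, .xi, .y2, .h, .xi, .y1, .y10, .xi, .h] (.cons 0x18a5f9 [.p, .p, .h, .p, .p, .h, .xi, .p, .xi, .y1, .p, .xi, .y10, .xi, .p, .p, .xi] (.cons 0x24f [.y2, .p, .h, .p, .p, .h, .p, .h, .p, .p, .p, .xi, .h, .p, .xi, .p, .xi, .h, .y10] .nil))) <|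
  .cons 52 0x3853e (.cons 0x210cf [.y2, .p, .p, .h, .xi, .p, .p, .xi, .y2, .h, .xi, .y1, .y10, .xi, .h] (.cons 0x7bc [.p, .h, .p, .p, .h, .p, .p, .p, .p, .h, .p, .p, .xi, .p, .xi, .p, .y2, .p, .p, .xi, .h] (.cons 0x24f [.y2, .p, .h, .p, .h, .p, .h, .p, .h, .p, .p, .p, .h, .xi, .p, .h, .p, .h, .p, .h] .nil))) <|
  .cons 39 0x1eff03 (.cons 0x2edb6 [.y2, .p, .h, .p, .p, .p, .h, .p, .xi, .h, .xi, .y4, .y6] (.cons 0xafe55 [.y2, .p, .p, .p, .p, .p, .p, .p, .xi, .y2, .p, .h, .p, .xi, .y1, .y3, .h, .xi] .nil)) <|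
  .cons 45 0x114e08 (.cons 0x60028 [.y2, .h, .p, .h, .p, .p, .p, .p, .xi, .y2, .p, .p, .xi, .y3] (.cons 0x1fe [.y2, .h, .p, .h, .p, .p, .p, .h, .p, .xi, .p, .xi, .y3, .h, .p, .h, .xi, .y2] .nil)) <|
  .cons 60 0x2b6ed5 (.cons 0x18a28f [.y2, .p, .p, .p, .h, .p, .p, .h, .p, .h, .p, .xi, .p, .xi, .y3, .h, .xi, .y4, .y7] (.cons 0x24f [.y2, .p, .h, .p, .p, .p, .h, .p, .p, .p, .p, .p, .h, .xi, .p, .h, .p, .xi, .h, .y4, .xi, .y5] .nil)) <|
  .cons 46 0x114e08 (.cons 0xb07a9 [.p, .p, .p, .p, .p, .h, .p, .h, .xi, .y2, .p, .p, .xi, .y3] (.cons 0x96505 [.y2, .p, .p, .p, .p, .h, .p, .h, .xi, .h, .p, .xi, .p, .p, .h, .p, .xi] (.cons 0x1d7898 [.y2, .p, .p, .p, .h, .p, .p, .p, .h, .p, .p, .p, .xi, .h, .p, .h, .xi, .p, .y5, .h] .nil))) <|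
  .cons 47 0x114e08 (.cons 0x24d51 [.y2, .h, .p, .h, .p, .p, .h, .p, .xi, .y2, .p, .p, .xi, .y3] (.cons 0x8dc7f [.h, .p, .h, .p, .p, .h, .p, .h, .p, .xi, .p, .h, .p, .xi, .p, .y4, .p, .xi, .y9] (.cons 0xafe55 [.p, .p, .p, .h, .p, .p, .h, .p, .xi, .p, .h, .p, .xi, .p, .y8, .p, .xi, .y2] .nil))) <|
  .cons 53 0x3853e (.cons 0x21318 [.p, .h, .xi, .p, .p, .xi, .y2, .h, .xi, .y1, .y10, .xi, .h] (.cons 0xedc61 [.y2, .h, .p, .h, .p, .p, .p, .h, .p, .p, .p, .xi, .p, .h, .xi, .p, .y2, .p, .xi, .y2, .h] (.cons 0x1fe [.h, .xi, .y2, .p, .xi, .p, .p, .p, .xi, .y1, .xi] .nil))) <|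
  .cons 54 0x3853e (.cons 0x21c867 [.y2, .p, .p, .h, .p, .p, .p, .h, .xi, .p, .p, .xi, .y2, .h, .xi, .y1, .y10, .xi, .h] (.cons 0x1d7898 [.y2, .h, .p, .p, .p, .p, .h, .p, .p, .p, .h, .p, .p, .xi, .p, .p, .xi, .y2, .y7, .h, .xi, .y8, .h] .nil)) <|
  .cons 54 0x3853e (.cons 0x27e1f3 [.y2, .p, .h, .p, .p, .p, .p, .h, .xi, .p, .p, .xi, .y2, .h, .xi, .y1, .y10, .xi, .h] (.cons 0x80d23 [.p, .h, .p, .p, .h, .p, .h, .p, .p, .h, .p, .xi, .p, .p, .xi, .p, .p, .h, .xi, .y10, .p] (.cons 0x1d7898 [.p, .p, .h, .p, .p, .p, .h, .p, .p, .p, .xi, .p, .p, .xi, .h, .xi, .y1, .xi, .h, .y9, .p] .nil))) <|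
  .cons 61 0x2b6ed5 (.cons 0x24de1a [.y2, .p, .p, .p, .p, .p, .h, .p, .p, .p, .h, .p, .p, .xi, .p, .xi, .y3, .h, .xi, .y4, .y7] (.cons 0x8daaa [.y2, .h, .p, .p, .p, .h, .p, .h, .p, .h, .xi, .y2, .p, .xi, .p, .p, .h, .y10, .xi] (.cons 0x1fe [.p, .p, .p, .p, .p, .h, .p, .p, .p, .h, .p, .p, .xi, .p, .h, .p, .xi, .y4, .p, .p, .xi, .y10] .nil))) <|
  .nil

end Cfsg.Agent.H863.BData
end

-- part: fast lane check
section
set_option autoImplicit false

namespace Cfsg.Agent.H863.BChkY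

open Cfsg.Agent.BabyM.Conc Cfsg.Agent.BabyM.KTab Cfsg.Agent.BabyM.KRowData
open Cfsg.Agent.H863.BCheck Cfsg.Agent.H863.BCode Cfsg.Agent.H863.BData
open Cfsg.Agent.BabyM.KRow (PT im pos)
open Cfsg.Agent.Lib.PermNet (seq seq_eq)

private noncomputable def frn (x : ℕ) (f : ℕ → ℕ) : ℕ := Nat.rec (f 0) (fun m _ => f (Nat.succ m)) x

private theorem frn_eq (x : ℕ) (f : ℕ → ℕ) : frn x f = f x := by cases x <;> rfl

private theorem lnf_cons (img : ℕ → ℕ) (m k : ℕ) (l : List ℕ) (acc : ℕ) :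
    lnf img m (k :: l) acc = lnf img m l (Bool.rec acc (Nat.xor acc (img k)) (Cfsg.Agent.BabyM.KRow.tb m k)) := seq_eq _ _

private theorem lnf_acc (img : ℕ → ℕ) (m : ℕ) (l : List ℕ) (a b : ℕ) :
    lnf img m l (a ^^^ b) = a ^^^ lnf img m l b := by
  induction l generalizing b with
  | nil => rfl
  | cons k l ih =>
    rw [lnf_cons, lnf_cons, ← ih]
    cases Cfsg.Agent.BabyM.KRow.tb m k
    · rfl
    · exact congrArg _ (Nat.xor_assoc _ _ _)

private theorem lnf_append (img : ℕ → ℕ) (m : ℕ) (l l' : List ℕ) (acc : ℕ) :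
    lnf img m (l ++ l') acc = lnf img m l acc ^^^ lnf img m l' 0 := by
  induction l generalizing acc with
  | nil => exact (congrArg _ (Nat.xor_zero acc).symm).trans (lnf_acc img m l' acc 0)
  | cons k l ih => rw [List.cons_append, lnf_cons, lnf_cons, ih]

private theorem lnf_msk (img : ℕ → ℕ) (m M : ℕ) (l : List ℕ) (h : ∀ k ∈ l, M.testBit k = true) (acc : ℕ) :
    lnf img m l acc = lnf img (Nat.land m M) l acc := by
  induction l generalizing acc with
  | nil => rfl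
  | cons k l ih =>
    have e : Cfsg.Agent.BabyM.KRow.tb (Nat.land m M) k = Cfsg.Agent.BabyM.KRow.tb m k := by
      rw [Cfsg.Agent.BabyM.KRow.tb_eq, Cfsg.Agent.BabyM.KRow.tb_eq]
      exact (Nat.testBit_and m M k).trans (by rw [h k List.mem_cons_self, Bool.and_true])
    rw [lnf_cons, lnf_cons, e, ih fun k hk => h k (List.mem_cons_of_mem _ hk)]

private noncomputable def lnF (I x : ℕ) : ℕ :=
  frn (Nat.land x 0x7f800) fun a => frn (Nat.land x 0x38000f) fun b => frn (Nat.land x 0x7f0) fun c =>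
    Nat.land (Nat.xor (lnf (im I) a [11, 12, 13, 14, 15, 16, 17, 18] 0)
      (Nat.xor (lnf (im I) b [19, 20, 21, 0, 1, 2, 3] 0) (lnf (im I) c [4, 5, 6, 7, 8, 9, 10] 0))) 0x3fffff

private theorem ln_eqF (I x : ℕ) : ln I x = lnF I x := by
  have e : pos = [11, 12, 13, 14, 15, 16, 17, 18] ++ ([19, 20, 21, 0, 1, 2, 3] ++ [4, 5, 6, 7, 8, 9, 10]) := rfl
  delta ln lnF
  rw [frn_eq, frn_eq, frn_eq, e, lnf_append, lnf_append, lnf_msk _ x 0x7f800 [11, 12, 13, 14, 15, 16, 17, 18] (by decide),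
    lnf_msk _ x 0x38000f [19, 20, 21, 0, 1, 2, 3] (by decide), lnf_msk _ x 0x7f0 [4, 5, 6, 7, 8, 9, 10] (by decide)]
  rfl

private noncomputable def lwF (v : List Ltr) : ℕ → ℕ :=
  List.rec (motive := fun _ => ℕ → ℕ) (fun x => x) (fun l _ ih x => frn (lnF (Ic l) x) ih) v

private theorem lw_eqF : lw = lwF := by
  funext v x
  induction v generalizing x with
  | nil => rfl
  | cons l v ih =>
    show seq (ln (Ic l) x) (lw v) = frn (lnF (Ic l) x) (lwF v)
    rw [seq_eq, frn_eq, ln_eqF, ih]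


private noncomputable def frc (x : ℕ) (f : ℕ → Bool) : Bool := Nat.rec (f 0) (fun m _ => f (Nat.succ m)) x

private theorem frc_eq (x : ℕ) (f : ℕ → Bool) : frc x f = f x := by cases x <;> rfl

private noncomputable def fmF (x y : ℕ) : Bool :=
  Bool.rec (Nat.beq (Nat.land (Nat.shiftRight PT (Nat.land (Nat.land y 0x7ff) (Nat.shiftRight x 11))) 1) 1)
    (Bool.rec true false (Nat.beq (Nat.land (Nat.shiftRight PT (Nat.land (Nat.land y 0x7ff) (Nat.shiftRight x 11))) 1) 1))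
    (Nat.beq (Nat.land (Nat.shiftRight PT (Nat.land (Nat.land x 0x7ff) (Nat.shiftRight y 11))) 1) 1)

private theorem xor_rec (a b : Bool) : xor a b = Bool.rec b (Bool.rec true false b) a := by
  cases a <;> cases b <;> rfl

private theorem fm_eqF (x y : ℕ) : fm x y = fmF x y := xor_rec _ _

private noncomputable def covF (κ : ℕ) (s : St) : Bool :=
  St.rec (motive := fun _ => Bool) true (fun q _ _ ih => Bool.rec false ih (fmF q κ)) s

private theorem cov_eqF (κ : ℕ) (s : St) : cov κ s = covF κ s := by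
  induction s with
  | nil => rfl
  | cons q w r ih =>
    show and (fm q κ) (cov κ r) = Bool.rec false (covF κ r) (fmF q κ)
    rw [fm_eqF, ih]
    cases fmF q κ <;> rfl

private noncomputable def findF (tag κ : ℕ) (R : RTab) : Bool :=
  RTab.rec (motive := fun _ => Bool) false
    (fun t y s _ ih => Bool.rec ih (Bool.rec ih (Bool.rec ih true (covF κ s)) (fmF y κ)) (Nat.beq tag t)) R

private theorem find_eqF (tag κ : ℕ) (R : RTab) : findR tag κ R = findF tag κ R := by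
  induction R with
  | nil => rfl
  | cons t y s R ih =>
    show or (and (Nat.beq tag t) (and (fm y κ) (cov κ s))) (findR tag κ R) =
      Bool.rec (findF tag κ R) (Bool.rec (findF tag κ R) (Bool.rec (findF tag κ R) true (covF κ s)) (fmF y κ))
        (Nat.beq tag t)
    rw [fm_eqF, cov_eqF, ih]
    cases Nat.beq tag t <;> cases fmF y κ <;> cases covF κ s <;> rfl

private noncomputable def sub (tag : ℕ) (R : RTab) : RTab :=
  RTab.rec (motive := fun _ => RTab) .nil (fun t y s _ ih => Bool.rec ih (.cons t y s ih) (Nat.beq tag t)) R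

private noncomputable def find1 (κ : ℕ) (R : RTab) : Bool :=
  RTab.rec (motive := fun _ => Bool) false
    (fun _ y s _ ih => Bool.rec ih (Bool.rec ih true (covF κ s)) (fmF y κ)) R

private theorem find_eq1 (tag κ : ℕ) (R : RTab) : findF tag κ R = find1 κ (sub tag R) := by
  induction R with
  | nil => rfl
  | cons t y s R ih =>
    show (Bool.rec (findF tag κ R) (Bool.rec (findF tag κ R) (Bool.rec (findF tag κ R) true (covF κ s)) (fmF y κ))
        (Nat.beq tag t) : Bool) = find1 κ (Bool.rec (sub tag R) (.cons t y s (sub tag R)) (Nat.beq tag t))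
    rw [ih]
    cases Nat.beq tag t <;> rfl

private noncomputable def allL (L : List (ℕ × RTab)) (i f : ℕ) : Bool :=
  List.rec (motive := fun _ => Bool) true (fun p _ ih => Bool.rec false ih
    (Prod.rec (motive := fun _ => Bool) (fun T R =>
      frc (Nat.land (Nat.land (Nat.shiftRight T (Nat.mul 16 i)) 0xffff) 0xfff) fun j => frc (Nat.add f (ft j)) fun tag =>
        frc (cd j) fun κ => find1 κ (sub tag R)) p)) L

private theorem allL_spec {L : List (ℕ × RTab)} {i : ℕ} (h : allL L i (Nat.mul (ft i) 8) = true) :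
    ∀ p ∈ L, laneOK ft p.1 p.2 i = true := by
  induction L with
  | nil => intro p hp; exact absurd hp List.not_mem_nil
  | cons q L ih =>
    obtain ⟨T, R⟩ := q
    have h' : (Bool.rec false (allL L i (Nat.mul (ft i) 8)) (frc (Nat.land (fld T 16 0xffff i) 0xfff) fun j =>
      frc (Nat.add (Nat.mul (ft i) 8) (ft j)) fun tag => frc (cd j) fun κ => find1 κ (sub tag R)) : Bool) = true := h
    rw [frc_eq, frc_eq, frc_eq, ← find_eq1, ← find_eqF] at h'
    have h1 : (Bool.rec false (allL L i (Nat.mul (ft i) 8)) (laneOK ft T R i) : Bool) = true := h'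
    cases h2 : laneOK ft T R i
    · rw [h2] at h1
      exact absurd h1 Bool.false_ne_true
    · rw [h2] at h1
      intro p hp
      rcases List.mem_cons.1 hp with rfl | hp
      · exact h2
      · exact ih h1 p hp

private theorem allN_mono {n : ℕ} {p q : ℕ → Bool} (hpq : ∀ i, p i = true → q i = true) {a : ℕ}
    (h : allN n p a = true) : allN n q a = true := by
  induction n generalizing a with
  | zero => exact hpq a h
  | succ n ih =>
    have h' : and (allN n p a) (allN n p (Nat.add a (Nat.pow 2 n))) = true := h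
    show and (allN n q a) (allN n q (Nat.add a (Nat.pow 2 n))) = true
    rw [Bool.and_eq_true] at h' ⊢
    exact ⟨ih h'.1, ih h'.2⟩

private theorem lanes_of {L : List (ℕ × RTab)}
    (h : allN 12 (fun i => frc i fun i => Bool.rec true (Bool.rec (frc (Nat.mul (ft i) 8) (allL L i)) true
      (Nat.beq (cd i) 0)) (Cfsg.Agent.BabyM.KRow.tb _root_.Cfsg.Agent.BabyM.Conc.U i)) 0 = true) :
    ∀ p ∈ L, lanesOK ft p.1 p.2 = true := fun p hp => by
  refine allN_mono (fun i hi => ?_) h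
  rw [frc_eq, frc_eq] at hi
  revert hi
  cases Cfsg.Agent.BabyM.KRow.tb _root_.Cfsg.Agent.BabyM.Conc.U i
  · exact fun _ => rfl
  · cases Nat.beq (cd i) 0
    · exact fun hi => allL_spec hi p hp
    · exact fun _ => rfl

private theorem lanes_all : ∀ p ∈ [(T_y1, R_y1), (T_y2, R_y2), (T_y3, R_y3), (T_y4, R_y4), (T_y5, R_y5), (T_y6, R_y6), (T_y7, R_y7), (T_y8, R_y8), (T_y9, R_y9), (T_y10, R_y10), (T_p, R_p), (T_h, R_h), (T_xi, R_xi)], lanesOK ft p.1 p.2 = true :=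
  lanes_of (by decide +kernel)

private theorem stat_all : ([(Ic .y1, R_y1), (Ic .y2, R_y2), (Ic .y3, R_y3), (Ic .y4, R_y4), (Ic .y5, R_y5), (Ic .y6, R_y6), (Ic .y7, R_y7), (Ic .y8, R_y8), (Ic .y9, R_y9), (Ic .y10, R_y10), (Ic .p, R_p), (Ic .h, R_h), (Ic .xi, R_xi)].all fun p => stat Lc p.1 p.2) = true := by
  delta stat chk
  rewrite [lw_eqF]
  decide +kernel

end Cfsg.Agent.H863.BChkY
end

-- part: H863/BChkY
section
/-! Kernel checks of the routes (helper863). -/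

set_option autoImplicit false

namespace Cfsg.Agent.H863.BChkY

open Cfsg.Agent.BabyM.Conc Cfsg.Agent.BabyM.KTab Cfsg.Agent.BabyM.KRowData
open Cfsg.Agent.H863.BCheck Cfsg.Agent.H863.BCode Cfsg.Agent.H863.BData

theorem stat_y1 : stat Lc (Ic .y1) R_y1 = true :=
  List.all_eq_true.1 Cfsg.Agent.H863.BChkY.stat_all (Ic .y1, R_y1) (List.mem_cons_self)

theorem lanes_y1 : lanesOK ft T_y1 R_y1 = true :=
  Cfsg.Agent.H863.BChkY.lanes_all (T_y1, R_y1) (List.mem_cons_self)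

theorem stat_y2 : stat Lc (Ic .y2) R_y2 = true :=
  List.all_eq_true.1 Cfsg.Agent.H863.BChkY.stat_all (Ic .y2, R_y2) (List.mem_cons_of_mem _ (List.mem_cons_self))

theorem lanes_y2 : lanesOK ft T_y2 R_y2 = true :=
  Cfsg.Agent.H863.BChkY.lanes_all (T_y2, R_y2) (List.mem_cons_of_mem _ (List.mem_cons_self))

theorem stat_y3 : stat Lc (Ic .y3) R_y3 = true :=
  List.all_eq_true.1 Cfsg.Agent.H863.BChkY.stat_all (Ic .y3, R_y3) (List.mem_cons_of_mem _ (List.mem_cons_of_mem _ (List.mem_cons_self)))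

theorem lanes_y3 : lanesOK ft T_y3 R_y3 = true :=
  Cfsg.Agent.H863.BChkY.lanes_all (T_y3, R_y3) (List.mem_cons_of_mem _ (List.mem_cons_of_mem _ (List.mem_cons_self)))

theorem stat_y4 : stat Lc (Ic .y4) R_y4 = true :=
  List.all_eq_true.1 Cfsg.Agent.H863.BChkY.stat_all (Ic .y4, R_y4) (List.mem_cons_of_mem _ (List.mem_cons_of_mem _ (List.mem_cons_of_mem _ (List.mem_cons_self))))

theorem lanes_y4 : lanesOK ft T_y4 R_y4 = true :=
  Cfsg.Agent.H863.BChkY.lanes_all (T_y4, R_y4) (List.mem_cons_of_mem _ (List.mem_cons_of_mem _ (List.mem_cons_of_mem _ (List.mem_cons_self))))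

theorem stat_y5 : stat Lc (Ic .y5) R_y5 = true :=
  List.all_eq_true.1 Cfsg.Agent.H863.BChkY.stat_all (Ic .y5, R_y5) (List.mem_cons_of_mem _ (List.mem_cons_of_mem _ (List.mem_cons_of_mem _ (List.mem_cons_of_mem _ (List.mem_cons_self)))))

theorem lanes_y5 : lanesOK ft T_y5 R_y5 = true :=
  Cfsg.Agent.H863.BChkY.lanes_all (T_y5, R_y5) (List.mem_cons_of_mem _ (List.mem_cons_of_mem _ (List.mem_cons_of_mem _ (List.mem_cons_of_mem _ (List.mem_cons_self)))))

theorem stat_y6 : stat Lc (Ic .y6) R_y6 = true :=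
  List.all_eq_true.1 Cfsg.Agent.H863.BChkY.stat_all (Ic .y6, R_y6) (List.mem_cons_of_mem _ (List.mem_cons_of_mem _ (List.mem_cons_of_mem _ (List.mem_cons_of_mem _ (List.mem_cons_of_mem _ (List.mem_cons_self))))))

theorem lanes_y6 : lanesOK ft T_y6 R_y6 = true :=
  Cfsg.Agent.H863.BChkY.lanes_all (T_y6, R_y6) (List.mem_cons_of_mem _ (List.mem_cons_of_mem _ (List.mem_cons_of_mem _ (List.mem_cons_of_mem _ (List.mem_cons_of_mem _ (List.mem_cons_self))))))

theorem stat_y7 : stat Lc (Ic .y7) R_y7 = true :=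
  List.all_eq_true.1 Cfsg.Agent.H863.BChkY.stat_all (Ic .y7, R_y7) (List.mem_cons_of_mem _ (List.mem_cons_of_mem _ (List.mem_cons_of_mem _ (List.mem_cons_of_mem _ (List.mem_cons_of_mem _ (List.mem_cons_of_mem _ (List.mem_cons_self)))))))

theorem lanes_y7 : lanesOK ft T_y7 R_y7 = true :=
  Cfsg.Agent.H863.BChkY.lanes_all (T_y7, R_y7) (List.mem_cons_of_mem _ (List.mem_cons_of_mem _ (List.mem_cons_of_mem _ (List.mem_cons_of_mem _ (List.mem_cons_of_mem _ (List.mem_cons_of_mem _ (List.mem_cons_self)))))))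

theorem stat_y8 : stat Lc (Ic .y8) R_y8 = true :=
  List.all_eq_true.1 Cfsg.Agent.H863.BChkY.stat_all (Ic .y8, R_y8) (List.mem_cons_of_mem _ (List.mem_cons_of_mem _ (List.mem_cons_of_mem _ (List.mem_cons_of_mem _ (List.mem_cons_of_mem _ (List.mem_cons_of_mem _ (List.mem_cons_of_mem _ (List.mem_cons_self))))))))

theorem lanes_y8 : lanesOK ft T_y8 R_y8 = true :=
  Cfsg.Agent.H863.BChkY.lanes_all (T_y8, R_y8) (List.mem_cons_of_mem _ (List.mem_cons_of_mem _ (List.mem_cons_of_mem _ (List.mem_cons_of_mem _ (List.mem_cons_of_mem _ (List.mem_cons_of_mem _ (List.mem_cons_of_mem _ (List.mem_cons_self))))))))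

theorem stat_y9 : stat Lc (Ic .y9) R_y9 = true :=
  List.all_eq_true.1 Cfsg.Agent.H863.BChkY.stat_all (Ic .y9, R_y9) (List.mem_cons_of_mem _ (List.mem_cons_of_mem _ (List.mem_cons_of_mem _ (List.mem_cons_of_mem _ (List.mem_cons_of_mem _ (List.mem_cons_of_mem _ (List.mem_cons_of_mem _ (List.mem_cons_of_mem _ (List.mem_cons_self)))))))))

theorem lanes_y9 : lanesOK ft T_y9 R_y9 = true :=
  Cfsg.Agent.H863.BChkY.lanes_all (T_y9, R_y9) (List.mem_cons_of_mem _ (List.mem_cons_of_mem _ (List.mem_cons_of_mem _ (List.mem_cons_of_mem _ (List.mem_cons_of_mem _ (List.mem_cons_of_mem _ (List.mem_cons_of_mem _ (List.mem_cons_of_mem _ (List.mem_cons_self)))))))))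

theorem stat_y10 : stat Lc (Ic .y10) R_y10 = true :=
  List.all_eq_true.1 Cfsg.Agent.H863.BChkY.stat_all (Ic .y10, R_y10) (List.mem_cons_of_mem _ (List.mem_cons_of_mem _ (List.mem_cons_of_mem _ (List.mem_cons_of_mem _ (List.mem_cons_of_mem _ (List.mem_cons_of_mem _ (List.mem_cons_of_mem _ (List.mem_cons_of_mem _ (List.mem_cons_of_mem _ (List.mem_cons_self))))))))))

theorem lanes_y10 : lanesOK ft T_y10 R_y10 = true :=
  Cfsg.Agent.H863.BChkY.lanes_all (T_y10, R_y10) (List.mem_cons_of_mem _ (List.mem_cons_of_mem _ (List.mem_cons_of_mem _ (List.mem_cons_of_mem _ (List.mem_cons_of_mem _ (List.mem_cons_of_mem _ (List.mem_cons_of_mem _ (List.mem_cons_of_mem _ (List.mem_cons_of_mem _ (List.mem_cons_self))))))))))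

end Cfsg.Agent.H863.BChkY
end

-- part: H863/BChkX
section
/-! Kernel checks of the routes (helper863). -/

set_option autoImplicit false

namespace Cfsg.Agent.H863.BChkX

open Cfsg.Agent.BabyM.Conc Cfsg.Agent.BabyM.KTab Cfsg.Agent.BabyM.KRowData
open Cfsg.Agent.H863.BCheck Cfsg.Agent.H863.BCode Cfsg.Agent.H863.BData

theorem stat_p : stat Lc (Ic .p) R_p = true :=
  List.all_eq_true.1 Cfsg.Agent.H863.BChkY.stat_all (Ic .p, R_p) (List.mem_cons_of_mem _ (List.mem_cons_of_mem _ (List.mem_cons_of_mem _ (List.mem_cons_of_mem _ (List.mem_cons_of_mem _ (List.mem_cons_of_mem _ (List.mem_cons_of_mem _ (List.mem_cons_of_mem _ (List.mem_cons_of_mem _ (List.mem_cons_of_mem _ (List.mem_cons_self)))))))))))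

theorem lanes_p : lanesOK ft T_p R_p = true :=
  Cfsg.Agent.H863.BChkY.lanes_all (T_p, R_p) (List.mem_cons_of_mem _ (List.mem_cons_of_mem _ (List.mem_cons_of_mem _ (List.mem_cons_of_mem _ (List.mem_cons_of_mem _ (List.mem_cons_of_mem _ (List.mem_cons_of_mem _ (List.mem_cons_of_mem _ (List.mem_cons_of_mem _ (List.mem_cons_of_mem _ (List.mem_cons_self)))))))))))

theorem stat_h : stat Lc (Ic .h) R_h = true :=
  List.all_eq_true.1 Cfsg.Agent.H863.BChkY.stat_all (Ic .h, R_h) (List.mem_cons_of_mem _ (List.mem_cons_of_mem _ (List.mem_cons_of_mem _ (List.mem_cons_of_mem _ (List.mem_cons_of_mem _ (List.mem_cons_of_mem _ (List.mem_cons_of_mem _ (List.mem_cons_of_mem _ (List.mem_cons_of_mem _ (List.mem_cons_of_mem _ (List.mem_cons_of_mem _ (List.mem_cons_self))))))))))))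

theorem lanes_h : lanesOK ft T_h R_h = true :=
  Cfsg.Agent.H863.BChkY.lanes_all (T_h, R_h) (List.mem_cons_of_mem _ (List.mem_cons_of_mem _ (List.mem_cons_of_mem _ (List.mem_cons_of_mem _ (List.mem_cons_of_mem _ (List.mem_cons_of_mem _ (List.mem_cons_of_mem _ (List.mem_cons_of_mem _ (List.mem_cons_of_mem _ (List.mem_cons_of_mem _ (List.mem_cons_of_mem _ (List.mem_cons_self))))))))))))

theorem stat_xi : stat Lc (Ic .xi) R_xi = true :=
  List.all_eq_true.1 Cfsg.Agent.H863.BChkY.stat_all (Ic .xi, R_xi) (List.mem_cons_of_mem _ (List.mem_cons_of_mem _ (List.mem_cons_of_mem _ (List.mem_cons_of_mem _ (List.mem_cons_of_mem _ (List.mem_cons_of_mem _ (List.mem_cons_of_mem _ (List.mem_cons_of_mem _ (List.mem_cons_of_mem _ (List.mem_cons_of_mem _ (List.mem_cons_of_mem _ (List.mem_cons_of_mem _ (List.mem_cons_self)))))))))))))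

theorem lanes_xi : lanesOK ft T_xi R_xi = true :=
  Cfsg.Agent.H863.BChkY.lanes_all (T_xi, R_xi) (List.mem_cons_of_mem _ (List.mem_cons_of_mem _ (List.mem_cons_of_mem _ (List.mem_cons_of_mem _ (List.mem_cons_of_mem _ (List.mem_cons_of_mem _ (List.mem_cons_of_mem _ (List.mem_cons_of_mem _ (List.mem_cons_of_mem _ (List.mem_cons_of_mem _ (List.mem_cons_of_mem _ (List.mem_cons_of_mem _ (List.mem_cons_self)))))))))))))

end Cfsg.Agent.H863.BChkX
end

-- part: H863/BCert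
section
/-!
# The certificate for the lanes (helper863)
-/

set_option autoImplicit false

namespace Cfsg.Agent.H863.BCert

open Cfsg.Agent.Lib.PermNet hiding tb tb_eq
open Cfsg.Agent.Monster Cfsg.Agent.Monster.VecEngine Cfsg.Agent.Monster.VecSpace
open Cfsg.Agent.Monster.PauliBasic Cfsg.Agent.Monster.PauliRep Cfsg.Agent.Monster.PauliClif Cfsg.Agent.Monster.PauliBits
open Cfsg.Agent.BabyM.KTabData Cfsg.Agent.BabyM.QAct Cfsg.Agent.BabyM.QData Cfsg.Agent.BabyM.QData.Good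
open Cfsg.Agent.BabyM.Conc Cfsg.Agent.BabyM.KTab Cfsg.Agent.BabyM.KRow Cfsg.Agent.BabyM.KRowData Cfsg.Agent.BabyM.KQ
open Cfsg.Agent.BabyM
open Cfsg.Agent.H863.BRed Cfsg.Agent.H863.BRep Cfsg.Agent.H863.BCode Cfsg.Agent.H863.BStage Cfsg.Agent.H863.BGrp
open Cfsg.Agent.H863.BMdl Cfsg.Agent.H863.BE Cfsg.Agent.H863.BInst Cfsg.Agent.H863.BCheck Cfsg.Agent.H863.BData
open Cfsg.Agent.H863.BChkY Cfsg.Agent.H863.BChkX

theorem ft_lt (i : ℕ) : ft i < 8 := by
  unfold ft fld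
  have : Nat.land (Nat.shiftRight FT (Nat.mul 4 i)) 7 ≤ 7 := Nat.and_le_right
  omega

/-- The words of the base nodes. -/
theorem Lw_ok : ∀ k < 8, allW (Lw k) = true ∧ lw (Lw k) 0x400 = Lc k := by
  intro k hk
  interval_cases k
  · exact ⟨rfl, by decide +kernel⟩
  · exact ⟨rfl, by decide +kernel⟩
  · exact ⟨rfl, by decide +kernel⟩
  · exact ⟨rfl, by decide +kernel⟩
  · exact ⟨rfl, by decide +kernel⟩
  · exact ⟨rfl, by decide +kernel⟩
  · exact ⟨rfl, by decide +kernel⟩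
  · exact ⟨rfl, by decide +kernel⟩

/-- The base nodes are odd with the codes of the lanes. -/
theorem base_check : allN 12 (fun i => Bool.rec true (Bool.rec
    (and (fm (Lc (ft i)) (cd i)) (Bool.rec true (Nat.beq (ft i) 0) (fm 0x400 (cd i)))) true (Nat.beq (cd i) 0))
    (tb _root_.Cfsg.Agent.BabyM.Conc.U i)) 0 = true := by
  decide +kernel

theorem base {i : Lane _root_.Cfsg.Agent.BabyM.Conc.U} (hi : Cd.isX i) :
    fm (Lc (ft i.1)) (cd i.1) = true ∧ (fm 0x400 (cd i.1) = true → ft i.1 = 0) := by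
  have hlt := lt_of_isX hi
  rw [isX_iff] at hi
  have h1 := allN_spec base_check (Nat.zero_le i.1) (by omega)
  simp only [tb_eq, i.2] at h1
  have h0 : Nat.beq (cd i.1) 0 = false := by
    rw [Bool.eq_false_iff]
    intro hh
    exact hi.2 (Nat.eq_of_beq_eq_true hh)
  rw [h0] at h1
  have h3 : and (fm (Lc (ft i.1)) (cd i.1)) (Bool.rec true (Nat.beq (ft i.1) 0) (fm 0x400 (cd i.1))) = true := h1
  rw [Bool.and_eq_true] at h3
  refine ⟨h3.1, fun h4 => ?_⟩
  have h5 := h3.2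
  rw [h4] at h5
  exact Nat.eq_of_beq_eq_true h5

section

variable {F : Type*} [Field F] (h2 : (2 : F) ≠ 0)

/-- The route field for a letter. -/
theorem route_l {l : Ltr} (hl : inW l = true) {i : Lane _root_.Cfsg.Agent.BabyM.Conc.U} (hi : Cd.isX i) {j : Lane _root_.Cfsg.Agent.BabyM.Conc.U} (hj : Cd.isX j)
    {s : ZMod 2} (h : (M h2).σ (gE l) (Pi.single i 1) = sg F s • (Pi.single j 1 : Lane _root_.Cfsg.Agent.BabyM.Conc.U → F)) :
    ∃ y, Γ.Nd y (gE l * gW (Lw (ft i.1))) ∧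
      Relation.ReflTransGen (Edge (M h2).σ (M h2).Γ (M h2).S (Pi.single j 1 : Lane _root_.Cfsg.Agent.BabyM.Conc.U → F)) y
        (r (dec 11 (Lc (ft j.1)))) := by
  cases l
  case y1 => exact route h2 hl KRow_y1.rows ft_lt Lw_ok stat_y1 lanes_y1 hi hj h
  case y2 => exact route h2 hl KRow_y2.rows ft_lt Lw_ok stat_y2 lanes_y2 hi hj h
  case y3 => exact route h2 hl KRow_y3.rows ft_lt Lw_ok stat_y3 lanes_y3 hi hj h
  case y4 => exact route h2 hl KRow_y4.rows ft_lt Lw_ok stat_y4 lanes_y4 hi hj h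
  case y5 => exact route h2 hl KRow_y5.rows ft_lt Lw_ok stat_y5 lanes_y5 hi hj h
  case y6 => exact route h2 hl KRow_y6.rows ft_lt Lw_ok stat_y6 lanes_y6 hi hj h
  case y7 => exact route h2 hl KRow_y7.rows ft_lt Lw_ok stat_y7 lanes_y7 hi hj h
  case y8 => exact route h2 hl KRow_y8.rows ft_lt Lw_ok stat_y8 lanes_y8 hi hj h
  case y9 => exact route h2 hl KRow_y9.rows ft_lt Lw_ok stat_y9 lanes_y9 hi hj h
  case y10 => exact route h2 hl KRow_y10.rows ft_lt Lw_ok stat_y10 lanes_y10 hi hj h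
  case p => exact route h2 hl KRow_p.rows ft_lt Lw_ok stat_p lanes_p hi hj h
  case h => exact route h2 hl KRow_h.rows ft_lt Lw_ok stat_h lanes_h hi hj h
  case xi => exact route h2 hl KRow_xi.rows ft_lt Lw_ok stat_xi lanes_xi hi hj h
  all_goals exact absurd (show false = true from hl) (by simp)

/-- The certificate. -/
noncomputable def A : Cert (M h2) where
  nc i := gW (Lw (ft i.1))
  nx i := dec 11 (Lc (ft i.1))
  nd i _ := by
    obtain ⟨h3, h4⟩ := Lw_ok _ (ft_lt i.1)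
    exact nd_word h3 (by rw [h4])
  form _ hi := form_of_fm (base hi).1
  first i hi h := by
    have h3 : fm 0x400 (cd i.1) = true := by
      apply fm_of_form
      have h4 : (M h2).z1 = dec 11 0x400 := (dec_pure _ (by norm_num)).symm
      rw [h4] at h
      exact h
    show gW (Lw (ft i.1)) = 1
    rw [(base hi).2 h3]
    rfl
  gen := _root_.Cfsg.Agent.H863.BCheck.gen
  gen_mem := gen_mem
  gen_top := gen_top
  route := by
    rintro _ ⟨l, hl, rfl⟩ i hi j hj s h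
    exact route_l h2 hl hi hj h

end

end Cfsg.Agent.H863.BCert
end

-- part: H863/BT2
section
/-!
# The second stage (helper863)
-/

set_option autoImplicit false

namespace Cfsg.Agent.H863.BT2

open Cfsg.Agent.Monster.PauliBasic Cfsg.Agent.Monster.PauliRep Cfsg.Agent.Monster.PauliClif
open Cfsg.Agent.BabyM.QAct Cfsg.Agent.H863.BStage Cfsg.Agent.H863.BMdl Cfsg.Agent.H863.BPauli Cfsg.Agent.H863.BOne
open Cfsg.Agent.H863.BE Cfsg.Agent.H863.BT

variable {n : ℕ} {ι : Type} [Fintype ι] [DecidableEq ι] {K : Coord n ι} {F : Type*} [Field F]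
  {G : Type*} [Group G] {M : Mdl K F G} {A : Cert M} {W : Type*} [AddCommGroup W] [Module F W]
  {ρ : G →* Module.End F W} {φ : (ι → F) →ₗ[F] W} {J : Type} {T : TDat M J}

/-- abbreviations for the unit vectors -/
abbrev vB (T : TDat M J) (j : J) : ι → F := Pi.single (T.bB j) 1

abbrev vC (T : TDat M J) (j : J) : ι → F := Pi.single (T.bC j) 1

abbrev vA (T : TDat M J) (j : J) : ι → F := Pi.single (T.bA j) 1

theorem vB_self (j : J) : vB T j (T.bB j) = 1 := Pi.single_eq_same _ _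

theorem vC_self (j : J) : vC T j (T.bC j) = 1 := Pi.single_eq_same _ _

theorem vA_self (j : J) : vA T j (T.bA j) = 1 := Pi.single_eq_same _ _

theorem vB_ne {j : J} {i : ι} (h : i ≠ T.bB j) : vB T j i = 0 := Pi.single_eq_of_ne h _

theorem vC_ne {j : J} {i : ι} (h : i ≠ T.bC j) : vC T j i = 0 := Pi.single_eq_of_ne h _

theorem vA_ne {j : J} {i : ι} (h : i ≠ T.bA j) : vA T j i = 0 := Pi.single_eq_of_ne h _

theorem r_comm_z1 {x : Pauli n} (h : Pauli.form x M.z1 = 0) : M.r x * M.Γ.z1 = M.Γ.z1 * M.r x := by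
  rw [hz1', ← map_mul, ← map_mul, (Pauli.commute_iff _ _).2 h]

theorem tinv_BC (j : J) : M.σ M.Γ.t⁻¹ (vB T j - vC T j) = vB T j + vC T j := by
  rw [← T.t_BC j, M.app, inv_mul_cancel, map_one]; rfl

theorem tinv_A (j : J) : M.σ M.Γ.t⁻¹ (vA T j) = -(vB T j - vC T j) := by
  have h := T.t_CA j
  have h2 : vA T j = M.σ M.Γ.t (-(vB T j - vC T j)) := by rw [map_neg, h, neg_neg]
  rw [h2, M.app, inv_mul_cancel, map_one]; rfl

theorem e_BpC (j : J) : M.σ M.Γ.e (vB T j + vC T j) = vB T j - vC T j := by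
  rw [map_add, e_B, e_C]; abel

theorem e_BmC (j : J) : M.σ M.Γ.e (vB T j - vC T j) = vB T j + vC T j := by
  rw [map_sub, e_B, e_C]; abel

theorem r_BmC {x : Pauli n} (h : Pauli.form x M.z1 = 0) (j : J) :
    M.σ (M.r x) (vB T j - vC T j) = sg F (Pauli.form x (K.c (T.bB j))) • (vB T j - vC T j) := by
  rw [map_sub, r_B, r_C, h, sg_zero, mul_one, smul_sub]

/-- Conjugating an element commuting with `z₁` through `t`. -/
theorem conj_t {c : G} (h1 : c * M.Γ.z1 = M.Γ.z1 * c) (O : _root_.Cfsg.Agent.H863.BT.One M ρ φ) (m : ι → F) :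
    ρ c (ρ M.Γ.t (phiY A ρ φ m)) = ρ M.Γ.t (phiY A ρ φ (M.σ M.Γ.t⁻¹ (M.σ c (M.σ M.Γ.t m)))) := by
  have h2 : c * M.Γ.t = M.Γ.t * (M.Γ.t⁻¹ * c * M.Γ.t) := by group
  rw [rapp, h2, ← rapp, phiY_C' O (M.Γ.conj_mem h1), M.app, M.app]

/-- The relation of a Pauli element with `e`. -/
theorem r_e (x : Pauli n) : M.r x * M.Γ.e = M.Γ.e * M.r x ∨ M.r x * M.Γ.e = M.Γ.e * M.r x * M.Γ.z := by
  rw [M.he, M.hz]
  rcases zmod2_cases (Pauli.form x M.e1) with h | h
  · left; rw [← map_mul, ← map_mul, (Pauli.commute_iff _ _).2 h]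
  · right
    rw [← map_mul, ← map_mul, ← map_mul, Pauli.mul_eq_mul_mul_form, h, Pauli.mul_z, ← Pauli.z_mul]
    rfl

/-- A vector on which the elements commuting with `z₁` act by a character `k`, and `e` by `s`. -/
theorem weight_of {k : Pauli n} {v : W} (h0 : ∀ x, Pauli.form x M.z1 = 0 → ρ (M.r x) v = sg F (Pauli.form x k) • v)
    (he : ρ M.Γ.e v = sg F (Pauli.form M.e1 k) • v) (x : Pauli n) : ρ (M.r x) v = sg F (Pauli.form x k) • v := by
  rcases zmod2_cases (Pauli.form x M.z1) with h | h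
  · exact h0 x h
  · have h1 : Pauli.form (x * M.e1⁻¹) M.z1 = 0 := by
      have h2 : Pauli.form M.e1⁻¹ M.z1 = Pauli.form M.e1 M.z1 := rfl
      rw [form_mul_left, h, h2, show Pauli.form M.e1 M.z1 = 1 from M.form_e]
      decide
    have h2 : M.r x = M.r (x * M.e1⁻¹) * M.Γ.e := by
      rw [M.he, ← map_mul, inv_mul_cancel_right]
    have h3 : Pauli.form M.e1⁻¹ k = Pauli.form M.e1 k := rfl
    rw [h2, ← rapp, he, map_smul, h0 _ h1, smul_smul, ← sg_add, form_mul_left, h3]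
    congr 2
    have := zmod2_add_self (Pauli.form M.e1 k)
    linear_combination this

variable (O : _root_.Cfsg.Agent.H863.BT.One M ρ φ) (j : J)

include O

theorem phiY_BpC_ne : phiY A ρ φ (vB T j + vC T j) ≠ 0 := by
  intro h
  have h1 : phiY A ρ φ (vB T j - vC T j) = 0 := by
    rw [← e_BpC, ← phiY_C' O M.Γ.e_mem, h, map_zero]
  have h2 : phiY A ρ φ ((2 : F) • vB T j) = 0 := by
    have : (2 : F) • vB T j = (vB T j + vC T j) + (vB T j - vC T j) := by rw [two_smul]; abel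
    rw [this, map_add, h, h1, add_zero]
  rw [map_smul] at h2
  exact phiY_ne O (T.hB j) ((smul_eq_zero.1 h2).resolve_left M.two)

theorem phiY_BmC_ne : phiY A ρ φ (vB T j - vC T j) ≠ 0 := by
  intro h
  apply phiY_BpC_ne (A := A) (T := T) O j
  rw [← e_BmC, ← phiY_C' O M.Γ.e_mem, h, map_zero]

/-- The image of `B + C` under `t` is a multiple of `B - C`. -/
theorem exists_q : ∃ q : F, ρ M.Γ.t (phiY A ρ φ (vB T j + vC T j)) = q • phiY A ρ φ (vB T j - vC T j) := by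
  set v := ρ M.Γ.t (phiY A ρ φ (vB T j + vC T j)) with hv
  set k := K.c (T.bB j) with hk
  have ha : ∀ x, Pauli.form x M.z1 = 0 → ρ (M.r x) v = sg F (Pauli.form x k) • v := by
    intro x hx
    rw [hv, conj_t (r_comm_z1 hx) O, T.t_BC, r_BmC hx, map_smul, tinv_BC, map_smul, map_smul]
  have hzv : ρ M.Γ.z v = v := by
    rw [M.hz, ha _ (form_z_left _), form_z_left, sg_zero, one_smul]
  have hee : ρ M.Γ.e (ρ M.Γ.e v) = v := by
    rw [rapp, M.he, ← map_mul, Pauli.sq_eq]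
    rcases zmod2_cases (M.e1.b ⬝ᵥ M.e1.a) with h | h
    · rw [h, show (⟨0, 0, 0⟩ : Pauli n) = 1 from rfl, map_one, map_one]; rfl
    · rw [h, show (⟨1, 0, 0⟩ : Pauli n) = Pauli.z n from rfl, ← M.hz, hzv]
  have hb : ∀ x, Pauli.form x M.z1 = 0 → ρ (M.r x) (ρ M.Γ.e v) = sg F (Pauli.form x k) • ρ M.Γ.e v := by
    intro x hx
    rw [rapp]
    rcases r_e (M := M) x with h | h
    · rw [h, ← rapp, ha x hx, map_smul]
    · rw [h, ← rapp, hzv, ← rapp, ha x hx, map_smul]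
  have hzero : ∀ x, Pauli.form x M.z1 = 0 → Pauli.form x (k * M.z1) = Pauli.form x k := by
    intro x hx
    rw [BT.form_mul_right, hx, add_zero]
  have hp : ∀ x, ρ (M.r x) (v + ρ M.Γ.e v) = sg F (Pauli.form x k) • (v + ρ M.Γ.e v) := by
    apply weight_of
    · intro x hx
      rw [map_add, ha x hx, hb x hx, smul_add]
    · rw [map_add, hee, T.fe, sg_zero, one_smul, add_comm]
  have hm : ∀ x, ρ (M.r x) (v - ρ M.Γ.e v) = sg F (Pauli.form x (k * M.z1)) • (v - ρ M.Γ.e v) := by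
    apply weight_of
    · intro x hx
      rw [map_sub, ha x hx, hb x hx, hzero x hx, smul_sub]
    · rw [map_sub, hee, BT.form_mul_right, T.fe, show Pauli.form M.e1 M.z1 = 1 from M.form_e, zero_add, sg_one,
        neg_one_smul]
      abel
  obtain ⟨m1, h1, h1'⟩ := weight (A := A) O (A.nd _ (T.hB j)) (A.form _ (T.hB j)) hp
  obtain ⟨m2, h2, h2'⟩ := weight (A := A) O (A.nd _ (T.hC j)) (k := k * M.z1) (by
    have h3 := A.form _ (T.hC j)
    rw [form_C] at h3
    rw [BT.form_mul_right]; exact h3) hm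
  have e1 : m1 = m1 (T.bB j) • vB T j := by
    funext i
    rw [Pi.smul_apply, smul_eq_mul]
    by_cases hi : i = T.bB j
    · rw [hi, vB_self, mul_one]
    · rw [vB_ne hi, mul_zero]
      apply h1'
      rintro ⟨h3, h4⟩
      exact hi (T.c_inj _ _ h3 (T.hB j) h4)
  have e2 : m2 = m2 (T.bC j) • vC T j := by
    funext i
    rw [Pi.smul_apply, smul_eq_mul]
    by_cases hi : i = T.bC j
    · rw [hi, vC_self, mul_one]
    · rw [vC_ne hi, mul_zero]
      apply h2'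
      rintro ⟨h3, h4⟩
      apply hi
      apply T.c_inj _ _ h3 (T.hC j)
      rw [h4, T.cC]
      rfl
  -- the value of `v`
  have hv2 : (2 : F) • v = phiY A ρ φ (m1 (T.bB j) • vB T j + m2 (T.bC j) • vC T j) := by
    rw [← e1, ← e2, map_add, ← h1, ← h2, two_smul]; abel
  set p := (m1 (T.bB j) + m2 (T.bC j)) * (2 : F)⁻¹ with hp'
  set q := (m1 (T.bB j) - m2 (T.bC j)) * (2 : F)⁻¹ with hq'
  have h22 := M.two
  have hdec : m1 (T.bB j) • vB T j + m2 (T.bC j) • vC T j = p • (vB T j + vC T j) + q • (vB T j - vC T j) := by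
    have e3 : m1 (T.bB j) = p + q := by rw [hp', hq']; field_simp; ring
    have e4 : m2 (T.bC j) = p - q := by rw [hp', hq']; field_simp; ring
    rw [e3, e4, add_smul, sub_smul, smul_add, smul_sub]; abel
  rw [hdec] at hv2
  obtain ⟨a, ha1, ha2, ha0⟩ := T.s_B j
  have hs : ρ (T.s j) v = a • v := by
    rw [hv, conj_t (T.s_z1 j) O, T.t_BC, ha1, map_smul, tinv_BC, map_smul, map_smul]
  have h5 : ρ (T.s j) ((2 : F) • v) = a • (2 : F) • v := by rw [map_smul, hs, smul_comm]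
  rw [hv2, phiY_C' O (T.s_mem j), map_add, map_smul, map_smul, ha1, ha2, ← map_smul] at h5
  have h6 : phiY A ρ φ ((-(2 * a * p)) • (vB T j + vC T j)) = 0 := by
    have h7 := sub_eq_zero.2 h5
    rw [← map_sub] at h7
    rw [← h7]
    congr 1
    module
  rw [map_smul] at h6
  have h7 := (smul_eq_zero.1 h6).resolve_right (phiY_BpC_ne O j)
  have hp0 : p = 0 := by
    have h8 : (2 * a) * p = 0 := by linear_combination -h7
    exact (mul_eq_zero.1 h8).resolve_left (mul_ne_zero h22 ha0)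
  rw [hp0, zero_smul, zero_add, map_smul] at hv2
  refine ⟨q * (2 : F)⁻¹, ?_⟩
  rw [mul_comm, mul_smul, ← hv2, smul_smul, inv_mul_cancel₀ h22, one_smul]

/-- **The part `T₂`.** -/
theorem tau_T2 : ρ M.Γ.t (phiY A ρ φ (vB T j + vC T j)) = phiY A ρ φ (vB T j - vC T j) := by
  obtain ⟨q, hq⟩ := exists_q (A := A) (T := T) O j
  have hne := phiY_BmC_ne (A := A) (T := T) O j
  -- the relation with `e`
  have h1 : ρ M.Γ.t⁻¹ (phiY A ρ φ (vB T j - vC T j)) = q • phiY A ρ φ (vB T j + vC T j) := by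
    have h2 : ρ M.Γ.e (ρ M.Γ.t (phiY A ρ φ (vB T j + vC T j))) = ρ M.Γ.t⁻¹ (phiY A ρ φ (vB T j - vC T j)) := by
      rw [rapp, M.Γ.te, ← rapp, phiY_C' O M.Γ.e_mem, e_BpC]
    rw [← h2, hq, map_smul, phiY_C' O M.Γ.e_mem, e_BmC]
  have h2 : phiY A ρ φ (vB T j - vC T j) = (q * q) • phiY A ρ φ (vB T j - vC T j) := by
    have h3 := congrArg (ρ M.Γ.t) h1
    rw [rapp, mul_inv_cancel, map_one, map_smul, hq, smul_smul] at h3
    exact h3
  have h3 : q * q = 1 := by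
    have h4 : (1 : F) • phiY A ρ φ (vB T j - vC T j) = (q * q) • phiY A ρ φ (vB T j - vC T j) := by
      rw [one_smul]; exact h2
    exact (smul_left_injective F hne h4).symm
  have h4 : (q - 1) * (q + 1) = 0 := by linear_combination h3
  rcases mul_eq_zero.1 h4 with h5 | h5
  · rw [hq, sub_eq_zero.1 h5, one_smul]
  · exfalso
    have hq1 : q = -1 := eq_neg_of_add_eq_zero_left h5
    rw [hq1, neg_one_smul] at hq h1
    set α := ρ M.Γ.t (phiY A ρ φ (vB T j - vC T j)) with hα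
    have he : ρ M.Γ.e α = - α := by
      rw [hα, rapp, M.Γ.te, ← rapp, phiY_C' O M.Γ.e_mem, e_BmC]
      have h6 : phiY A ρ φ (vB T j + vC T j) = - ρ M.Γ.t⁻¹ (phiY A ρ φ (vB T j - vC T j)) := by
        rw [h1, neg_neg]
      have h7 : M.Γ.t⁻¹ * M.Γ.t⁻¹ = M.Γ.t := by
        have := M.Γ.t3
        rw [← mul_inv_rev, inv_eq_iff_mul_eq_one]; exact this
      rw [h6, map_neg, rapp, h7]
    have hw : ∀ x, ρ (M.r x) α = sg F (Pauli.form x M.z1) • α := by
      apply weight_of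
      · intro x hx
        have h6 : M.σ (M.r x) (vA T j) = vA T j := r_U M (T.hA j) x
        rw [hα, conj_t (r_comm_z1 hx) O, T.t_CA, map_neg, h6, map_neg, tinv_A, neg_neg, hx, sg_zero, one_smul]
      · rw [he, show Pauli.form M.e1 M.z1 = 1 from M.form_e, sg_one, neg_one_smul]
    obtain ⟨c, y, hc, hy⟩ := T.w0
    obtain ⟨m, hm, hm'⟩ := weight (A := A) O hc hy hw
    have hm0 : m = 0 := by
      funext i
      exact hm' i (fun h => T.z1_not i h.1 h.2)
    rw [hm0, map_zero] at hm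
    exact hne (rinj (ρ := ρ) M.Γ.t (hm.trans (map_zero _).symm))

/-- The defect of compatibility. -/
noncomputable def Del (A : Cert M) (ρ : G →* Module.End F W) (φ : (ι → F) →ₗ[F] W) : (ι → F) →ₗ[F] W :=
  ρ M.Γ.t ∘ₗ phiY A ρ φ - phiY A ρ φ ∘ₗ M.σ M.Γ.t

omit O in
theorem Del_apply (m : ι → F) :
    Del A ρ φ m = ρ M.Γ.t (phiY A ρ φ m) - phiY A ρ φ (M.σ M.Γ.t m) := rfl

/-- The unit vectors outside `B`, `C` and the `23`-part. -/
theorem good_cases {i : ι} (hU : ¬ K.isU i) : (∃ k, i = T.bB k) ∨ (∃ k, i = T.bC k) ∨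
    (Del A ρ φ (Pi.single i 1) = 0 ∧ ∀ u, K.isU u → M.σ M.Γ.t (Pi.single i 1) u = 0) := by
  rcases K.cases i with hi | hi | hi
  · right; right
    have hS : (Pi.single i 1 : ι → F) ∈ M.S := M.mem_S.2 (M.z_q hi)
    constructor
    · rw [Del_apply, sub_eq_zero]
      have h1 : M.σ M.Γ.z1 (Pi.single i 1) = sg F (M.uz ⬝ᵥ K.qb i) • Pi.single i 1 := by
        rw [M.hz1]
        conv_lhs => rw [← K.ql_qb i hi]
        rw [M.σ_q]
        simp only [zero_add, add_zero, K.ql_qb i hi]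
      rcases sg_eq_or F (M.uz ⬝ᵥ K.qb i) with h | h
      · rw [h, one_smul] at h1; exact tau_X2 O hS h1
      · rw [h, neg_one_smul] at h1; exact tau_X3 O hS h1
    · intro u hu
      have h1 : M.σ (M.r M.z1) (M.σ M.Γ.t (Pi.single i 1)) = - M.σ M.Γ.t (Pi.single i 1) := by
        rw [← hz1', M.app, ← M.Γ.tz, ← M.app, M.z_q hi, map_neg]
      exact U_zero h1 hu
  · rcases T.X_cases i hi with h | h | h | ⟨c, hc, x, h1, h2, h3⟩
    · right; right
      have hN : InN (M := M) (Pi.single i 1) :=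
        ⟨M.z_l hi.1, by rw [hz1', M.σ_l _ _ hi.1, h, sg_one, neg_one_smul]⟩
      constructor
      · rw [Del_apply, sub_eq_zero]; exact tau_X1 O hN
      · intro u hu
        exact hN.t u hu.1
    · left; exact h
    · right; left; exact h
    · right; right
      rcases zmod2_cases (Pauli.form M.z1 (K.c i)) with h0 | h0
      · constructor
        · rw [Del_apply, sub_eq_zero]; exact tau_E O hi h0 hc h1 h2 h3
        · intro u hu
          have h4 : M.σ (M.r x) (M.σ M.Γ.t (Pi.single i 1)) = - M.σ M.Γ.t (Pi.single i 1) := by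
            rw [M.app, ← h2, ← M.app, M.σ_l _ _ hi.1, h3, sg_one, neg_one_smul, map_neg]
          exact U_zero h4 hu
      · have hN : InN (M := M) (Pi.single i 1) :=
          ⟨M.z_l hi.1, by rw [hz1', M.σ_l _ _ hi.1, h0, sg_one, neg_one_smul]⟩
        constructor
        · rw [Del_apply, sub_eq_zero]; exact tau_X1 O hN
        · intro u hu
          exact hN.t u hu.1
  · exact absurd hi hU

theorem Del_BC : Del A ρ φ (vB T j + vC T j) = 0 := by
  rw [Del_apply, tau_T2 O, T.t_BC, sub_self]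

omit [Fintype ι] [DecidableEq ι] O in
theorem half (h : (2 : F) ≠ 0) (a b : ι → F) : a = (2 : F)⁻¹ • ((a + b) + (a - b)) := by
  have : (a + b) + (a - b) = (2 : F) • a := by rw [two_smul]; abel
  rw [this, smul_smul, inv_mul_cancel₀ h, one_smul]

omit [Fintype ι] [DecidableEq ι] O in
theorem half' (h : (2 : F) ≠ 0) (a b : ι → F) : b = (2 : F)⁻¹ • ((a + b) - (a - b)) := by
  have : (a + b) - (a - b) = (2 : F) • b := by rw [two_smul]; abel
  rw [this, smul_smul, inv_mul_cancel₀ h, one_smul]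

omit O in
theorem t_vB : M.σ M.Γ.t (vB T j) = (2 : F)⁻¹ • ((vB T j - vC T j) - vA T j) := by
  conv_lhs => rw [half M.two (vB T j) (vC T j)]
  rw [map_smul, map_add, T.t_BC, T.t_CA, ← sub_eq_add_neg]

omit O in
theorem t_vC : M.σ M.Γ.t (vC T j) = (2 : F)⁻¹ • ((vB T j - vC T j) + vA T j) := by
  conv_lhs => rw [half' M.two (vB T j) (vC T j)]
  rw [map_smul, map_sub, T.t_BC, T.t_CA, sub_neg_eq_add]

omit [Fintype ι] [DecidableEq ι] O in
theorem X_ne_U {i u : ι} (hi : K.isX i) (hu : K.isU u) : u ≠ i := fun h => hi.2 (h ▸ hu.2)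

theorem Del_vB : Del A ρ φ (vB T j) = (2 : F)⁻¹ • Del A ρ φ (vB T j - vC T j) := by
  conv_lhs => rw [half M.two (vB T j) (vC T j)]
  rw [map_smul, map_add, Del_BC O, zero_add]

theorem Del_vC : Del A ρ φ (vC T j) = - ((2 : F)⁻¹ • Del A ρ φ (vB T j - vC T j)) := by
  conv_lhs => rw [half' M.two (vB T j) (vC T j)]
  rw [map_smul, map_sub, Del_BC O, zero_sub, smul_neg]

/-- The coordinates at the `A`-lanes of the image under `t`. -/
theorem t_coord (A : Cert M) {m : ι → F} (hm : m ∈ Y M) :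
    M.σ M.Γ.t m (T.bA j) = (2 : F)⁻¹ * (m (T.bC j) - m (T.bB j)) := by
  let L : (ι → F) →ₗ[F] F := (LinearMap.proj (T.bA j) : (ι → F) →ₗ[F] F) ∘ₗ M.σ M.Γ.t -
    (2 : F)⁻¹ • ((LinearMap.proj (T.bC j) : (ι → F) →ₗ[F] F) - LinearMap.proj (T.bB j))
  have hL : ∀ m, L m = M.σ M.Γ.t m (T.bA j) - (2 : F)⁻¹ * (m (T.bC j) - m (T.bB j)) := fun m => rfl
  have h0 : ∀ i, L (m i • Pi.single i 1) = 0 := by
    intro i
    by_cases hU : K.isU i
    · rw [hm i hU, zero_smul, map_zero]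
    · rw [map_smul]
      suffices h : L (Pi.single i 1) = 0 by rw [h, smul_zero]
      rw [hL]
      by_cases hB : ∃ k, i = T.bB k
      · obtain ⟨k, rfl⟩ := hB
        show M.σ M.Γ.t (vB T k) (T.bA j) - (2 : F)⁻¹ * (vB T k (T.bC j) - vB T k (T.bB j)) = 0
        rw [t_vB, Pi.smul_apply, Pi.sub_apply, Pi.sub_apply, vB_ne (X_ne_U (T.hB k) (T.hA j)),
          vC_ne (X_ne_U (T.hC k) (T.hA j)), vB_ne (fun h => T.BC k j h.symm), smul_eq_mul]
        by_cases hjk : j = k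
        · subst hjk
          rw [vA_self, vB_self]; ring
        · rw [vA_ne (fun h => hjk (T.A_inj h)), vB_ne (fun h => hjk (T.B_inj h))]
          ring
      · by_cases hC : ∃ k, i = T.bC k
        · obtain ⟨k, rfl⟩ := hC
          show M.σ M.Γ.t (vC T k) (T.bA j) - (2 : F)⁻¹ * (vC T k (T.bC j) - vC T k (T.bB j)) = 0
          rw [t_vC, Pi.smul_apply, Pi.add_apply, Pi.sub_apply, vB_ne (X_ne_U (T.hB k) (T.hA j)),
            vC_ne (X_ne_U (T.hC k) (T.hA j)), vC_ne (T.BC j k), smul_eq_mul]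
          by_cases hjk : j = k
          · subst hjk
            rw [vA_self, vC_self]; ring
          · rw [vA_ne (fun h => hjk (T.A_inj h)), vC_ne (fun h => hjk (T.C_inj h))]
            ring
        · rcases good_cases (A := A) (T := T) O hU with h | h | ⟨-, h2⟩
          · exact absurd h hB
          · exact absurd h hC
          · rw [h2 _ (T.hA j), Pi.single_eq_of_ne (fun h => hC ⟨j, h.symm⟩), Pi.single_eq_of_ne (fun h => hB ⟨j, h.symm⟩)]
            ring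
  have h1 : L m = 0 := by
    rw [expand m, map_sum]
    exact Finset.sum_eq_zero fun i _ => h0 i
  rw [hL] at h1
  exact sub_eq_zero.1 h1

/-- **The second stage.** -/
theorem stage_two [Fintype J] [DecidableEq J] (T : TDat M J) (A : Cert M) :
    Stage M.σ ρ M.Γ (Y M) (phiY A ρ φ) where
  inv c hc m hm := Y_inv M hc hm
  eqv c hc m _ := phiY_C' O hc m
  tau m hm ht := by
    rw [← sub_eq_zero, ← Del_apply]
    have hBC : ∀ j, m (T.bC j) = m (T.bB j) := by
      intro j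
      have h1 := t_coord (T := T) O j A hm
      rw [ht _ (T.hA j)] at h1
      have h2 := (mul_eq_zero.1 h1.symm).resolve_left (inv_ne_zero M.two)
      exact sub_eq_zero.1 h2
    let L : (ι → F) →ₗ[F] W := Del A ρ φ -
      ∑ j, (2 : F)⁻¹ • ((LinearMap.proj (T.bB j) : (ι → F) →ₗ[F] F) - LinearMap.proj (T.bC j)).smulRight
        (Del A ρ φ (vB T j - vC T j))
    have hL : ∀ m, L m = Del A ρ φ m - ∑ j, ((2 : F)⁻¹ * (m (T.bB j) - m (T.bC j))) • Del A ρ φ (vB T j - vC T j) := by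
      intro m
      show Del A ρ φ m - (∑ j, (2 : F)⁻¹ • ((LinearMap.proj (T.bB j) : (ι → F) →ₗ[F] F) -
        LinearMap.proj (T.bC j)).smulRight (Del A ρ φ (vB T j - vC T j))) m = _
      rw [LinearMap.sum_apply]
      congr 1
      apply Finset.sum_congr rfl
      intro j _
      rw [LinearMap.smul_apply, LinearMap.smulRight_apply, smul_smul]
      rfl
    have h0 : ∀ i, L (m i • Pi.single i 1) = 0 := by
      intro i
      by_cases hU : K.isU i
      · rw [hm i hU, zero_smul, map_zero]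
      · rw [map_smul]
        suffices h : L (Pi.single i 1) = 0 by rw [h, smul_zero]
        rw [hL]
        by_cases hB : ∃ k, i = T.bB k
        · obtain ⟨k, rfl⟩ := hB
          show Del A ρ φ (vB T k) - ∑ j, ((2 : F)⁻¹ * (vB T k (T.bB j) - vB T k (T.bC j))) •
            Del A ρ φ (vB T j - vC T j) = 0
          rw [Finset.sum_eq_single k]
          · rw [vB_self, vB_ne (fun h => T.BC k k h.symm), sub_zero, mul_one, Del_vB O, sub_self]
          · intro j _ hjk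
            rw [vB_ne (fun h => hjk (T.B_inj h)), vB_ne (fun h => T.BC k j h.symm), sub_zero, mul_zero, zero_smul]
          · intro h; exact absurd (Finset.mem_univ _) h
        · by_cases hC : ∃ k, i = T.bC k
          · obtain ⟨k, rfl⟩ := hC
            show Del A ρ φ (vC T k) - ∑ j, ((2 : F)⁻¹ * (vC T k (T.bB j) - vC T k (T.bC j))) •
              Del A ρ φ (vB T j - vC T j) = 0
            rw [Finset.sum_eq_single k]
            · rw [vC_self, vC_ne (T.BC k k), zero_sub, Del_vC O, mul_neg, mul_one, neg_smul, sub_self]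
            · intro j _ hjk
              rw [vC_ne (T.BC j k), vC_ne (fun h => hjk (T.C_inj h)), sub_zero, mul_zero, zero_smul]
            · intro h; exact absurd (Finset.mem_univ _) h
          · rcases good_cases (A := A) (T := T) O hU with h | h | ⟨h2, -⟩
            · exact absurd h hB
            · exact absurd h hC
            · rw [h2, zero_sub, neg_eq_zero]
              apply Finset.sum_eq_zero
              intro j _
              rw [Pi.single_eq_of_ne (fun h => hC ⟨j, h.symm⟩), Pi.single_eq_of_ne (fun h => hB ⟨j, h.symm⟩),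
                sub_zero, mul_zero, zero_smul]
    have h1 : L m = 0 := by
      rw [expand m, map_sum]
      exact Finset.sum_eq_zero fun i _ => h0 i
    rw [hL] at h1
    rw [Finset.sum_eq_zero, sub_zero] at h1
    · exact h1
    · intro j _
      rw [hBC j, sub_self, mul_zero, zero_smul]

end Cfsg.Agent.H863.BT2
end

-- part: H863/BU
section
/-!
# The map on the `23`-part; the equivariant map (helper863)
-/

set_option autoImplicit false
set_option linter.unusedSectionVars false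

namespace Cfsg.Agent.H863.BU

open Cfsg.Agent.Monster.PauliBasic Cfsg.Agent.Monster.PauliRep Cfsg.Agent.Monster.PauliClif
open Cfsg.Agent.BabyM.QAct Cfsg.Agent.H863.BStage Cfsg.Agent.H863.BMdl Cfsg.Agent.H863.BPauli Cfsg.Agent.H863.BOne
open Cfsg.Agent.H863.BE Cfsg.Agent.H863.BT Cfsg.Agent.H863.BT2

variable {n : ℕ} {ι : Type} [Fintype ι] [DecidableEq ι] {K : Coord n ι} {F : Type*} [Field F]
  {G : Type*} [Group G]

/-- The facts for the `23`-part. -/
structure UDat {M : Mdl K F G} (A : Cert M) {J : Type} (T : TDat M J) where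
  j1 : J
  j2 : J
  xi_A : M.σ M.Γ.xi (Pi.single (T.bA j1) 1 + Pi.single (T.bA j2) 1) = (-2 : F) • Pi.single T.bI 1
  xi_I : M.σ M.Γ.xi (Pi.single T.bI 1) T.bI = 0
  xi_xi : M.Γ.Nd M.Γ.z1 (M.Γ.xi * M.Γ.xi)
  /-- the generators other than `xi` -/
  genD : ∀ l ∈ A.gen, l ≠ M.Γ.xi → l * M.Γ.z1 = M.Γ.z1 * l ∧
    (M.σ l (Pi.single T.bI 1) = Pi.single T.bI 1 ∨ M.σ l (Pi.single T.bI 1) = - Pi.single T.bI 1) ∧
    ∃ y, M.Γ.Nd y (l * M.Γ.xi) ∧
      Relation.ReflTransGen (fun a b => Good M.Γ a b ∧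
        ∃ f ∈ M.Γ.C, f * M.Γ.z1 = M.Γ.z1 * f ∧
          (M.σ f⁻¹ (Pi.single T.bI 1) = Pi.single T.bI 1 ∨ M.σ f⁻¹ (Pi.single T.bI 1) = - Pi.single T.bI 1) ∧
          M.Γ.Nd b (f * M.Γ.xi)) y M.Γ.n0
  t_n0 : M.Γ.t * M.Γ.n0 = M.Γ.n0 * M.Γ.z * M.Γ.t
  top : Subgroup.closure ((M.Γ.C : Set G) ∪ {M.Γ.t}) = ⊤

variable {M : Mdl K F G} {A : Cert M} {W : Type*} [AddCommGroup W] [Module F W]
  {ρ : G →* Module.End F W} {φ : (ι → F) →ₗ[F] W} {J : Type} [Fintype J] [DecidableEq J] {T : TDat M J}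

/-- the unit vector `I` -/
abbrev vI (T : TDat M J) : ι → F := Pi.single T.bI 1

theorem vI_self : vI T T.bI = 1 := Pi.single_eq_same _ _

theorem vI_ne {i : ι} (h : i ≠ T.bI) : vI T i = 0 := Pi.single_eq_of_ne h _

theorem vI_mem : vI T ∈ U M := by rw [mem_U]; exact r_U M T.hI

theorem vA_mem (j : J) : vA T j ∈ U M := by rw [mem_U]; exact r_U M (T.hA j)

/-- Expansion of the vectors of the `23`-part. -/
theorem U_expand {m : ι → F} (hm : m ∈ U M) : m = ∑ j, m (T.bA j) • vA T j + m T.bI • vI T := by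
  funext i
  rw [Pi.add_apply, Finset.sum_apply]
  by_cases hi : K.isU i
  · rcases T.U_cases i hi with rfl | ⟨k, rfl⟩
    · rw [Pi.smul_apply, vI_self, smul_eq_mul, mul_one, Finset.sum_eq_zero, zero_add]
      intro j _
      rw [Pi.smul_apply, vA_ne (fun h => T.A_ne j h.symm), smul_zero]
    · rw [Pi.smul_apply, vI_ne (T.A_ne k), smul_zero, add_zero, Finset.sum_eq_single k]
      · rw [Pi.smul_apply, vA_self, smul_eq_mul, mul_one]
      · intro j _ hjk
        rw [Pi.smul_apply, vA_ne (fun h => hjk (T.A_inj h).symm), smul_zero]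
      · intro h; exact absurd (Finset.mem_univ _) h
  · have h1 : i ≠ T.bI := fun h => hi (h ▸ T.hI)
    rw [hm i hi, Pi.smul_apply, vI_ne h1, smul_zero, add_zero, Finset.sum_eq_zero]
    intro j _
    have h2 : i ≠ T.bA j := fun h => hi (h ▸ T.hA j)
    rw [Pi.smul_apply, vA_ne h2, smul_zero]

theorem tinv_I : M.σ M.Γ.t⁻¹ (vI T) = vI T := by
  have h := T.t_I
  conv_lhs => rw [show vI T = M.σ M.Γ.t (vI T) from h.symm]
  rw [M.app, inv_mul_cancel, map_one]; rfl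

theorem BmC_mem (j : J) : vB T j - vC T j ∈ Y M := by
  intro i hi
  rw [Pi.sub_apply, vB_ne (X_ne_U (T.hB j) hi), vC_ne (X_ne_U (T.hC j) hi), sub_self]

theorem BpC_mem (j : J) : vB T j + vC T j ∈ Y M := by
  intro i hi
  rw [Pi.add_apply, vB_ne (X_ne_U (T.hB j) hi), vC_ne (X_ne_U (T.hC j) hi), add_zero]

/-- Vectors of the `23`-part on which the value at `t` is defined. -/
theorem df_one {m : ι → F} (hm : m ∈ U M) : Df M.σ M.Γ (Y M) 1 m ↔ m T.bI = 0 := by
  have h1 : M.σ M.Γ.t⁻¹ m = -(∑ j, m (T.bA j) • (vB T j - vC T j)) + m T.bI • vI T := by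
    conv_lhs => rw [U_expand (T := T) hm]
    rw [map_add, map_sum, map_smul, tinv_I]
    congr 1
    rw [← Finset.sum_neg_distrib]
    apply Finset.sum_congr rfl
    intro j _
    rw [map_smul, tinv_A, smul_neg]
  unfold Df
  rw [inv_one, map_one]
  show M.σ M.Γ.t⁻¹ m ∈ Y M ↔ _
  have hY : -(∑ j, m (T.bA j) • (vB T j - vC T j)) ∈ Y M :=
    (Y M).neg_mem (Submodule.sum_mem _ fun j _ => (Y M).smul_mem _ (BmC_mem j))
  rw [h1]
  constructor
  · intro h
    have h2 := (Submodule.add_mem_iff_right _ hY).1 h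
    have h3 := h2 _ T.hI
    rw [Pi.smul_apply, vI_self, smul_eq_mul, mul_one] at h3
    exact h3
  · intro h
    rw [h, zero_smul, add_zero]
    exact hY

theorem vA_I (j : J) : vA T j T.bI = 0 := vA_ne (fun h => T.A_ne j h.symm)

variable (A ρ φ T) in
open Classical in
/-- The values on the unit vectors of the `23`-part. -/
noncomputable def vU (i : ι) : W :=
  if i = T.bI then vl M.σ ρ (phiY A ρ φ) (M.Γ.xi * M.Γ.t) (vI T) else
    if K.isU i then vl M.σ ρ (phiY A ρ φ) M.Γ.t (Pi.single i 1) else 0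

variable (A ρ φ T) in
/-- The map on the `23`-part. -/
noncomputable def th : (ι → F) →ₗ[F] W := lin (vU A ρ φ T)

theorem th_I : th A ρ φ T (vI T) = vl M.σ ρ (phiY A ρ φ) (M.Γ.xi * M.Γ.t) (vI T) := by
  unfold th
  rw [lin_single, vU, if_pos rfl]

theorem th_A (j : J) : th A ρ φ T (vA T j) = vl M.σ ρ (phiY A ρ φ) M.Γ.t (vA T j) := by
  unfold th
  rw [lin_single, vU, if_neg (T.A_ne j), if_pos (T.hA j)]

theorem th_Y {m : ι → F} (hm : m ∈ Y M) : th A ρ φ T m = 0 := by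
  unfold th
  rw [lin_apply, Finset.sum_eq_zero]
  intro i _
  by_cases hi : K.isU i
  · rw [hm i hi, zero_smul]
  · have h1 : i ≠ T.bI := fun h => hi (h ▸ T.hI)
    rw [vU, if_neg h1, if_neg hi, smul_zero]

/-- `θ` on the vectors without `I`-coordinate. -/
theorem th_U {m : ι → F} (hm : m ∈ U M) (h0 : m T.bI = 0) :
    th A ρ φ T m = vl M.σ ρ (phiY A ρ φ) M.Γ.t m := by
  have h1 : ∀ f : (ι → F) →ₗ[F] W, f m = ∑ j, m (T.bA j) • f (vA T j) := by
    intro f
    conv_lhs => rw [U_expand (T := T) hm]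
    rw [h0, zero_smul, add_zero, map_sum]
    apply Finset.sum_congr rfl
    intro j _
    rw [map_smul]
  rw [h1]
  have h2 := h1 (ρ M.Γ.t ∘ₗ phiY A ρ φ ∘ₗ M.σ M.Γ.t⁻¹)
  have h3 : vl M.σ ρ (phiY A ρ φ) M.Γ.t m = (ρ M.Γ.t ∘ₗ phiY A ρ φ ∘ₗ M.σ M.Γ.t⁻¹) m := rfl
  rw [h3, h2]
  apply Finset.sum_congr rfl
  intro j _
  rw [th_A]
  rfl

variable (A ρ φ T) in
/-- The total map. -/
noncomputable def phiT : (ι → F) →ₗ[F] W := phiY A ρ φ + th A ρ φ T

theorem phiT_Y {m : ι → F} (hm : m ∈ Y M) : phiT A ρ φ T m = phiY A ρ φ m := by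
  show phiY A ρ φ m + th A ρ φ T m = _
  rw [th_Y hm, add_zero]

variable (O : _root_.Cfsg.Agent.H863.BT.One M ρ φ) (D : UDat A T)

include O

theorem phiT_U {m : ι → F} (hm : m ∈ U M) : phiT A ρ φ T m = th A ρ φ T m := by
  show phiY A ρ φ m + th A ρ φ T m = _
  rw [phiY_U O.P hm, zero_add]

omit O in
theorem Y_of_not {i : ι} (hi : ¬ K.isU i) : (Pi.single i 1 : ι → F) ∈ Y M := by
  intro k hk
  have : k ≠ i := fun h => hi (h ▸ hk)
  rw [Pi.single_eq_of_ne this]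

include D

omit O in
theorem xi_inv_I : M.σ M.Γ.xi⁻¹ (vI T) = (-(2 : F)⁻¹) • (vA T D.j1 + vA T D.j2) := by
  have h := D.xi_A
  have h2 := M.two
  have h3 : vI T = M.σ M.Γ.xi ((-(2 : F)⁻¹) • (vA T D.j1 + vA T D.j2)) := by
    rw [map_smul, h, smul_smul]
    have : -(2 : F)⁻¹ * -2 = 1 := by field_simp
    rw [this, one_smul]
  conv_lhs => rw [h3]
  rw [M.app, inv_mul_cancel, map_one]; rfl

omit O in
theorem df_xi : Df M.σ M.Γ (Y M) M.Γ.xi (vI T) := by
  have h1 : (M.σ M.Γ.xi⁻¹ (vI T)) T.bI = 0 := by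
    rw [xi_inv_I D, Pi.smul_apply, Pi.add_apply, vA_I, vA_I, add_zero, smul_zero]
  have h2 := (df_one (T := T) (U_inv M (M.Γ.C.inv_mem M.Γ.xi_mem) (vI_mem (T := T)))).2 h1
  unfold Df at h2 ⊢
  rw [inv_one, map_one] at h2
  exact h2

/-- Equivariance of `θ`. -/
theorem th_C {c : G} (hc : c ∈ M.Γ.C) {m : ι → F} (hm : m ∈ U M) :
    ρ c (th A ρ φ T m) = th A ρ φ T (M.σ c m) := by
  have S := stage_two O T A
  have key : ∀ c ∈ Subgroup.closure (Set.range M.r ∪ A.gen), c ∈ M.Γ.C ∧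
      ∀ m ∈ U M, ρ c (th A ρ φ T m) = th A ρ φ T (M.σ c m) := by
    intro c hc
    induction hc using Subgroup.closure_induction with
    | mem l hl =>
      have hlC : l ∈ M.Γ.C := by
        rcases hl with ⟨x, rfl⟩ | hl
        · exact M.r_mem x
        · exact A.gen_mem l hl
      refine ⟨hlC, fun m hm => ?_⟩
      -- reduction to vectors `A_j` and `I`, in two versions
      have red : (∀ j, ρ l (th A ρ φ T (vA T j)) = th A ρ φ T (M.σ l (vA T j))) →
          ρ l (th A ρ φ T (vI T)) = th A ρ φ T (M.σ l (vI T)) →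
          ρ l (th A ρ φ T m) = th A ρ φ T (M.σ l m) := by
        intro h1 h2
        rw [U_expand (T := T) hm]
        simp only [map_add, map_sum, map_smul, h1, h2]
      by_cases hxi : l = M.Γ.xi
      · subst hxi
        -- the vectors without `I`-coordinate whose images have none
        have e1 : ∀ m ∈ U M, m T.bI = 0 → (M.σ M.Γ.xi m) T.bI = 0 →
            ρ M.Γ.xi (th A ρ φ T m) = th A ρ φ T (M.σ M.Γ.xi m) := by
          intro m hm h0 h1
          have hU := U_inv M M.Γ.xi_mem hm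
          rw [th_U hm h0, th_U hU h1, vl_left]
          have d1 := (df_one (T := T) hU).2 h1
          have d2 : Df M.σ M.Γ (Y M) (1 * M.Γ.xi) (M.σ M.Γ.xi m) := by
            have := (df_one (T := T) hm).2 h0
            unfold Df at this ⊢
            rw [one_mul, M.app M.Γ.xi⁻¹, inv_mul_cancel]
            rw [inv_one] at this
            exact this
          have h2 := S.vl_xi d1 d2
          rw [one_mul, one_mul] at h2
          exact h2
        have e2 : ρ M.Γ.xi (th A ρ φ T (vA T D.j1 + vA T D.j2)) =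
            th A ρ φ T (M.σ M.Γ.xi (vA T D.j1 + vA T D.j2)) := by
          rw [D.xi_A, map_smul, th_U ((U M).add_mem (vA_mem _) (vA_mem _)) (by
            rw [Pi.add_apply, vA_I, vA_I, add_zero]), vl_left, D.xi_A, vl_smul, ← th_I]
        apply red
        · intro j
          set a : F := M.σ M.Γ.xi (vA T j) T.bI with ha
          have h2 := M.two
          have h3 : vA T j = (vA T j + (2 : F)⁻¹ • a • (vA T D.j1 + vA T D.j2)) -
              (2 : F)⁻¹ • a • (vA T D.j1 + vA T D.j2) := by abel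
          have h4 := e1 (vA T j + (2 : F)⁻¹ • a • (vA T D.j1 + vA T D.j2))
            ((U M).add_mem (vA_mem _) ((U M).smul_mem _ ((U M).smul_mem _ ((U M).add_mem (vA_mem _) (vA_mem _)))))
            (by
              rw [Pi.add_apply, Pi.smul_apply, Pi.smul_apply, Pi.add_apply, vA_I, vA_I, vA_I]
              simp)
            (by
              rw [map_add, map_smul, map_smul, D.xi_A, Pi.add_apply, ← ha, Pi.smul_apply, Pi.smul_apply,
                Pi.smul_apply, Pi.single_eq_same, smul_eq_mul, smul_eq_mul, smul_eq_mul]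
              field_simp
              ring)
          rw [h3, map_sub, map_sub, h4, map_smul (th A ρ φ T), map_smul (th A ρ φ T), map_smul (ρ _),
            map_smul (ρ _), e2]
          simp only [map_sub, map_smul]
        · have h1 := vI_mem (T := T)
          have hU := U_inv M M.Γ.xi_mem h1
          rw [th_I, vl_left, th_U hU D.xi_I, ← mul_assoc]
          have h2 := S.vl_nd D.xi_xi Grp.nd_one (eig_U M hU) (by
            have := df_xi D
            unfold Df at this ⊢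
            rw [M.app (M.Γ.xi * M.Γ.xi)⁻¹]
            have h3 : (M.Γ.xi * M.Γ.xi)⁻¹ * M.Γ.xi = M.Γ.xi⁻¹ := by group
            rw [h3]; exact this)
          rw [one_mul] at h2
          exact h2.2.symm
      · rcases hl with ⟨x, rfl⟩ | hl
        · -- elements of the Pauli group
          have hx : ∀ m ∈ U M, M.σ (M.r x) m = m := fun m hm => (mem_U M).1 hm x
          have hnd : ∀ c, c ∈ M.Γ.C → ∀ y, M.Γ.Nd (M.r y) c → M.Γ.Nd (M.r y) (M.r x * c) := by
            intro c hc y hy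
            apply Grp.Nd.mul (M.r_mem x) hy
            rw [M.hz, ← map_mul, ← map_mul, ← map_mul, ← map_mul]
            rcases zmod2_cases (Pauli.form x y) with h | h
            · left; rw [(Pauli.commute_iff _ _).2 h]
            · right
              rw [Pauli.mul_eq_mul_mul_form, h, Pauli.mul_z, ← Pauli.z_mul, mul_assoc]
              rfl
          apply red
          · intro j
            rw [hx _ (vA_mem j), th_A, vl_left, hx _ (vA_mem j)]
            have h1 : M.Γ.Nd (M.r M.z1) 1 := by rw [← hz1']; exact Grp.nd_one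
            have h2 := S.vl_nd h1 (hnd 1 M.Γ.C.one_mem _ h1) (eig_U M (vA_mem j))
              ((df_one (T := T) (vA_mem j)).2 (vA_I j))
            rw [mul_one, one_mul] at h2
            exact h2.2
          · rw [hx _ vI_mem, th_I, vl_left, hx _ vI_mem, ← mul_assoc]
            have h1 : M.Γ.Nd (M.r ⟨0, 0, M.v0⟩) M.Γ.xi := by rw [← M.hn0]; exact Grp.nd_xi
            exact (S.vl_nd h1 (hnd _ M.Γ.xi_mem _ h1) (eig_U M vI_mem) (df_xi D)).2
        · obtain ⟨hz1, hI, y, hy, hpath⟩ := D.genD l hl hxi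
          apply red
          · intro j
            have hU := U_inv M hlC (vA_mem (T := T) j)
            have d0 : Df M.σ M.Γ (Y M) 1 (vA T j) := (df_one (T := T) (vA_mem j)).2 (vA_I j)
            have d1 : Df M.σ M.Γ (Y M) 1 (M.σ l (vA T j)) := by
              unfold Df at d0 ⊢
              rw [inv_one, map_one] at d0 ⊢
              show M.σ M.Γ.t⁻¹ (M.σ l (vA T j)) ∈ Y M
              have h1 : M.Γ.t⁻¹ * l = (M.Γ.t⁻¹ * l * M.Γ.t) * M.Γ.t⁻¹ := by group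
              rw [M.app, h1, ← M.app]
              exact Y_inv M (M.Γ.conj_mem hz1) d0
            have h0 : (M.σ l (vA T j)) T.bI = 0 := (df_one (T := T) hU).1 d1
            rw [th_A, vl_left, th_U hU h0]
            have h2 := S.vl_k (k := l) hz1 d1
            rw [one_mul, one_mul] at h2
            exact h2.2
          · rw [th_I, vl_left, ← mul_assoc]
            have hdf : Df M.σ M.Γ (Y M) (l * M.Γ.xi) (vI T) := by
              have h1 := df_xi D
              unfold Df at h1 ⊢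
              have h2 : M.σ l⁻¹ (vI T) = vI T ∨ M.σ l⁻¹ (vI T) = - vI T := by
                rcases hI with h | h
                · left
                  have := congrArg (M.σ l⁻¹) h
                  rw [M.app, inv_mul_cancel, map_one] at this
                  exact this.symm
                · right
                  have := congrArg (M.σ l⁻¹) h
                  rw [M.app, inv_mul_cancel, map_one, map_neg] at this
                  rw [← neg_eq_iff_eq_neg]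
                  exact this.symm
              rw [mul_inv_rev, ← M.app M.Γ.xi⁻¹ l⁻¹]
              rcases h2 with h2 | h2 <;> rw [h2]
              · exact h1
              · rw [map_neg, map_neg]; exact (Y M).neg_mem h1
            have hv : IsVal M.σ ρ M.Γ (Y M) (phiY A ρ φ) (vI T) y
                (vl M.σ ρ (phiY A ρ φ) (l * M.Γ.xi * M.Γ.t) (vI T)) := ⟨_, hy, hdf, rfl⟩
            have hnode : ∀ b, (∃ f ∈ M.Γ.C, f * M.Γ.z1 = M.Γ.z1 * f ∧
                (M.σ f⁻¹ (Pi.single T.bI 1) = Pi.single T.bI 1 ∨ M.σ f⁻¹ (Pi.single T.bI 1) = - Pi.single T.bI 1) ∧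
                M.Γ.Nd b (f * M.Γ.xi)) → Dfn M.σ M.Γ (Y M) (vI T) b := by
              rintro b ⟨f, hf, -, hfI, hb⟩
              refine ⟨_, hb, ?_⟩
              have h1 := df_xi D
              unfold Df at h1 ⊢
              rw [mul_inv_rev, ← M.app M.Γ.xi⁻¹ f⁻¹]
              rcases hfI with h2 | h2 <;> rw [show M.σ f⁻¹ (vI T) = _ from h2]
              · exact h1
              · rw [map_neg, map_neg]; exact (Y M).neg_mem h1
            have hgen : ∀ b, Relation.ReflTransGen (fun a b => Good M.Γ a b ∧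
                ∃ f ∈ M.Γ.C, f * M.Γ.z1 = M.Γ.z1 * f ∧
                  (M.σ f⁻¹ (Pi.single T.bI 1) = Pi.single T.bI 1 ∨
                    M.σ f⁻¹ (Pi.single T.bI 1) = - Pi.single T.bI 1) ∧
                  M.Γ.Nd b (f * M.Γ.xi)) y b →
                IsVal M.σ ρ M.Γ (Y M) (phiY A ρ φ) (vI T) b
                  (vl M.σ ρ (phiY A ρ φ) (l * M.Γ.xi * M.Γ.t) (vI T)) := by
              intro b hb
              induction hb with
              | refl => exact hv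
              | @tail b' c' _ h2 ih =>
                have hdn : Dfn M.σ M.Γ (Y M) (vI T) b' := by
                  obtain ⟨c, h3, h4, -⟩ := ih
                  exact ⟨c, h3, h4⟩
                exact ih.edge S (eig_U M vI_mem) ⟨h2.1, hdn, hnode _ h2.2⟩
            have hfin := hgen _ hpath
            have h5 := (hfin.of_nd S (eig_U M vI_mem) Grp.nd_xi).2
            rcases hI with h | h
            · rw [show M.σ l (vI T) = vI T from h, th_I, h5]
            · rw [show M.σ l (vI T) = - vI T from h, vl_neg, map_neg, th_I, h5]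
    | one => exact ⟨M.Γ.C.one_mem, fun m _ => by rw [map_one, map_one]; rfl⟩
    | mul a b _ _ ha hb =>
      refine ⟨M.Γ.C.mul_mem ha.1 hb.1, fun m hm => ?_⟩
      rw [← rapp, hb.2 _ hm, ha.2 _ (U_inv M hb.1 hm), M.app]
    | inv a _ ha =>
      refine ⟨M.Γ.C.inv_mem ha.1, fun m hm => ?_⟩
      apply rinj (ρ := ρ) a
      rw [rapp, mul_inv_cancel, map_one, ha.2 _ (U_inv M (M.Γ.C.inv_mem ha.1) hm), M.app, mul_inv_cancel, map_one]
      rfl
  exact (key c (A.gen_top hc)).2 m hm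

omit O D in
theorem half_eq {f g : (ι → F) →ₗ[F] W} (h : (2 : F) ≠ 0) {a b : ι → F} (h1 : f (a + b) = g (a + b))
    (h2 : f (a - b) = g (a - b)) : f a = g a ∧ f b = g b := by
  constructor
  · rw [half h a b, map_smul, map_smul, map_add f, map_add g, h1, h2]
  · rw [half' h a b, map_smul, map_smul, map_sub f, map_sub g, h1, h2]

/-- **Equivariance of the total map under `C`.** -/
theorem phiT_C {c : G} (hc : c ∈ M.Γ.C) (m : ι → F) : ρ c (phiT A ρ φ T m) = phiT A ρ φ T (M.σ c m) := by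
  suffices h : (ρ c) ∘ₗ phiT A ρ φ T = phiT A ρ φ T ∘ₗ M.σ c from LinearMap.congr_fun h m
  apply ext1
  intro i
  rw [LinearMap.comp_apply, LinearMap.comp_apply]
  by_cases hi : K.isU i
  · have h1 : (Pi.single i 1 : ι → F) ∈ U M := by rw [mem_U]; exact r_U M hi
    rw [phiT_U O h1, phiT_U O (U_inv M hc h1), th_C O D hc h1]
  · have h1 := Y_of_not (M := M) hi
    rw [phiT_Y h1, phiT_Y (Y_inv M hc h1), phiY_C' O hc]

/-- **Equivariance of the total map under `t`.** -/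
theorem phiT_t (m : ι → F) : ρ M.Γ.t (phiT A ρ φ T m) = phiT A ρ φ T (M.σ M.Γ.t m) := by
  have S := stage_two O T A
  have hA : ∀ j, ρ M.Γ.t (phiT A ρ φ T (vA T j)) = phiT A ρ φ T (M.σ M.Γ.t (vA T j)) := by
    intro j
    have h1 : M.σ M.Γ.t (vA T j) = -(vB T j + vC T j) := by
      have h2 : vA T j = M.σ M.Γ.t (M.σ M.Γ.t (-(vB T j + vC T j))) := by
        rw [map_neg, T.t_BC, map_neg, T.t_CA, neg_neg]
      conv_lhs => rw [h2]
      rw [M.app, M.app, M.Γ.t3, map_one]; rfl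
    rw [h1, phiT_U O (vA_mem j), th_A, map_neg, phiT_Y (BpC_mem j), vl]
    rw [tinv_A, map_neg, map_neg, map_neg, ← tau_T2 O j, rapp, rapp, M.Γ.t3, map_one]
    rfl
  have hI : ρ M.Γ.t (phiT A ρ φ T (vI T)) = phiT A ρ φ T (M.σ M.Γ.t (vI T)) := by
    have h0 : M.σ M.Γ.t (vI T) = vI T := T.t_I
    rw [h0, phiT_U O vI_mem, th_I, vl_left, h0]
    set k := (M.Γ.xi * M.Γ.e * M.Γ.t)⁻¹ * (M.Γ.t * (M.Γ.xi * M.Γ.t)) with hk
    have e1 : M.Γ.t * (M.Γ.xi * M.Γ.t) * M.Γ.z = M.Γ.n0 * M.Γ.z * (M.Γ.t * (M.Γ.xi * M.Γ.t)) := by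
      calc M.Γ.t * (M.Γ.xi * M.Γ.t) * M.Γ.z = M.Γ.t * M.Γ.xi * (M.Γ.t * M.Γ.z) := by simp only [mul_assoc]
        _ = M.Γ.t * (M.Γ.xi * M.Γ.z1) * M.Γ.t := by rw [M.Γ.tz]; simp only [mul_assoc]
        _ = M.Γ.t * M.Γ.n0 * (M.Γ.xi * M.Γ.t) := by rw [M.Γ.xiz1]; simp only [mul_assoc]
        _ = _ := by rw [D.t_n0]; simp only [mul_assoc]
    have e2 : M.Γ.xi * M.Γ.e * M.Γ.t * M.Γ.z = M.Γ.n0 * M.Γ.z * (M.Γ.xi * M.Γ.e * M.Γ.t) := by
      calc M.Γ.xi * M.Γ.e * M.Γ.t * M.Γ.z = M.Γ.xi * M.Γ.e * (M.Γ.t * M.Γ.z) := by simp only [mul_assoc]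
        _ = M.Γ.xi * (M.Γ.e * M.Γ.z1) * M.Γ.t := by rw [M.Γ.tz]; simp only [mul_assoc]
        _ = (M.Γ.xi * M.Γ.z1) * (M.Γ.z * M.Γ.e) * M.Γ.t := by rw [M.Γ.ez1]; simp only [mul_assoc]
        _ = M.Γ.n0 * (M.Γ.xi * M.Γ.z) * M.Γ.e * M.Γ.t := by rw [M.Γ.xiz1]; simp only [mul_assoc]
        _ = _ := by rw [M.Γ.comm _ M.Γ.xi_mem]; simp only [mul_assoc]
    have hkC : k ∈ M.Γ.C := by
      apply M.Γ.cent
      have e3 : M.Γ.z * (M.Γ.xi * M.Γ.e * M.Γ.t)⁻¹ = (M.Γ.xi * M.Γ.e * M.Γ.t)⁻¹ * (M.Γ.n0 * M.Γ.z) := by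
        rw [eq_inv_mul_iff_mul_eq, ← mul_assoc, e2, mul_inv_cancel_right]
      calc k * M.Γ.z = (M.Γ.xi * M.Γ.e * M.Γ.t)⁻¹ * (M.Γ.t * (M.Γ.xi * M.Γ.t) * M.Γ.z) := by
            rw [hk]; simp only [mul_assoc]
        _ = (M.Γ.xi * M.Γ.e * M.Γ.t)⁻¹ * (M.Γ.n0 * M.Γ.z) * (M.Γ.t * (M.Γ.xi * M.Γ.t)) := by
            rw [e1]; simp only [mul_assoc]
        _ = _ := by rw [← e3, hk]; simp only [mul_assoc]
    have h1 : M.Γ.t * (M.Γ.xi * M.Γ.t) = M.Γ.xi * M.Γ.e * M.Γ.t * k := by rw [hk, mul_inv_cancel_left]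
    have h2 := S.vl_e M.Γ.xi_mem (eig_U M (vI_mem (T := T))) (df_xi D)
    rw [h1, ← h2.2]
    unfold vl
    rw [← rapp, phiY_C' O hkC, M.app, mul_inv_rev, mul_inv_cancel_left]
  suffices h : (ρ M.Γ.t) ∘ₗ phiT A ρ φ T = phiT A ρ φ T ∘ₗ M.σ M.Γ.t from LinearMap.congr_fun h m
  apply ext1
  intro i
  rw [LinearMap.comp_apply, LinearMap.comp_apply]
  by_cases hi : K.isU i
  · rcases T.U_cases i hi with rfl | ⟨j, rfl⟩
    · exact hI
    · exact hA j
  · have hBC1 : ∀ j, ρ M.Γ.t (phiT A ρ φ T (vB T j + vC T j)) = phiT A ρ φ T (M.σ M.Γ.t (vB T j + vC T j)) := by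
      intro j
      rw [T.t_BC, phiT_Y (BpC_mem j), phiT_Y (BmC_mem j), tau_T2 O]
    have hBC2 : ∀ j, ρ M.Γ.t (phiT A ρ φ T (vB T j - vC T j)) = phiT A ρ φ T (M.σ M.Γ.t (vB T j - vC T j)) := by
      intro j
      rw [T.t_CA, phiT_Y (BmC_mem j), map_neg, phiT_U O (vA_mem j), th_A, vl, tinv_A, map_neg, map_neg, neg_neg]
    rcases good_cases (A := A) (T := T) O hi with ⟨j, rfl⟩ | ⟨j, rfl⟩ | ⟨h1, h2⟩
    · exact (half_eq (f := ρ M.Γ.t ∘ₗ phiT A ρ φ T) (g := phiT A ρ φ T ∘ₗ M.σ M.Γ.t) M.two (hBC1 j) (hBC2 j)).1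
    · exact (half_eq (f := ρ M.Γ.t ∘ₗ phiT A ρ φ T) (g := phiT A ρ φ T ∘ₗ M.σ M.Γ.t) M.two (hBC1 j) (hBC2 j)).2
    · rw [Del_apply, sub_eq_zero] at h1
      rw [phiT_Y (Y_of_not hi), phiT_Y (m := M.σ M.Γ.t (Pi.single i 1)) h2, h1]

/-- **The equivariant map.** -/
theorem phiT_G (g : G) (m : ι → F) : ρ g (phiT A ρ φ T m) = phiT A ρ φ T (M.σ g m) := by
  have hg : g ∈ Subgroup.closure ((M.Γ.C : Set G) ∪ {M.Γ.t}) := by rw [D.top]; trivial
  induction hg using Subgroup.closure_induction generalizing m with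
  | mem l hl =>
    rcases hl with hl | hl
    · exact phiT_C O D hl m
    · rw [Set.mem_singleton_iff.1 hl]; exact phiT_t O D m
  | one => rw [map_one, map_one]; rfl
  | mul a b _ _ ha hb => rw [← rapp, hb, ha, M.app]
  | inv a _ ha =>
    apply rinj (ρ := ρ) a
    rw [rapp, mul_inv_cancel, map_one, ha, M.app, mul_inv_cancel, map_one]
    rfl

end Cfsg.Agent.H863.BU
end

-- part: H863/BUI
section
/-!
# The facts about the `23`-part (helper863)
-/

set_option autoImplicit false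

namespace Cfsg.Agent.H863.BUI

open Cfsg.Agent.Lib.PermNet hiding tb tb_eq
open Cfsg.Agent.Monster Cfsg.Agent.Monster.VecEngine Cfsg.Agent.Monster.VecSpace
open Cfsg.Agent.Monster.PauliBasic Cfsg.Agent.Monster.PauliRep Cfsg.Agent.Monster.PauliClif Cfsg.Agent.Monster.PauliBits
open Cfsg.Agent.BabyM.KTabData Cfsg.Agent.BabyM.QAct Cfsg.Agent.BabyM.QData Cfsg.Agent.BabyM.QData.Good
open Cfsg.Agent.BabyM.Conc Cfsg.Agent.BabyM.KTab Cfsg.Agent.BabyM.KRow Cfsg.Agent.BabyM.KRowData Cfsg.Agent.BabyM.KQ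
open Cfsg.Agent.BabyM
open Cfsg.Agent.H863.BRed Cfsg.Agent.H863.BRep Cfsg.Agent.H863.BCode Cfsg.Agent.H863.BStage Cfsg.Agent.H863.BGrp
open Cfsg.Agent.H863.BMdl Cfsg.Agent.H863.BE Cfsg.Agent.H863.BInst Cfsg.Agent.H863.BCheck Cfsg.Agent.H863.BVec
open Cfsg.Agent.H863.BT Cfsg.Agent.H863.BTI Cfsg.Agent.H863.BCert Cfsg.Agent.H863.BU

/-- The sign of the letters of `D` on `I`. -/
def isH : Ltr → Bool
  | .h => true
  | _ => false

/-- All letters are in `D`. -/
def allD (v : List Ltr) : Bool :=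
  List.rec (motive := fun _ => Bool) true (fun l _ ih => and (inD l) ih) v

theorem allW_of_allD {v : List Ltr} (h : allD v = true) : allW v = true := by
  induction v with
  | nil => rfl
  | cons l v ih =>
    have h' : and (inD l) (allD v) = true := h
    rw [Bool.and_eq_true] at h'
    show and (inW l) (allW v) = true
    rw [Bool.and_eq_true]
    exact ⟨inW_of_inD h'.1, ih h'.2⟩

/-- An element of `D` mapping `I` to `± I`. -/
def DI {F : Type*} [Field F] (h2 : (2 : F) ≠ 0) (f : G) : Prop :=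
  f ∈ CC ∧ f * Γ.z1 = Γ.z1 * f ∧ (sigma h2 f (Pi.single bI 1) = Pi.single bI 1 ∨
    sigma h2 f (Pi.single bI 1) = - Pi.single bI 1)

section

variable {F : Type*} [Field F] (h2 : (2 : F) ≠ 0)

theorem DI.mul {f g : G} (hf : DI h2 f) (hg : DI h2 g) : DI h2 (f * g) := by
  obtain ⟨a1, a2, a3⟩ := hf
  obtain ⟨b1, b2, b3⟩ := hg
  refine ⟨CC.mul_mem a1 b1, by rw [mul_assoc, b2, ← mul_assoc, a2, mul_assoc], ?_⟩
  have h : sigma h2 (f * g) (Pi.single bI 1) = sigma h2 f (sigma h2 g (Pi.single bI 1)) := by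
    rw [map_mul]; rfl
  rw [h]
  rcases b3 with b3 | b3
  · rw [b3]; exact a3
  · rw [b3, map_neg]
    rcases a3 with a3 | a3
    · right; rw [a3]
    · left; rw [a3, neg_neg]

theorem DI.one : DI h2 1 := ⟨CC.one_mem, by rw [one_mul, mul_one], Or.inl (by rw [map_one]; rfl)⟩

theorem DI.inv {f : G} (hf : DI h2 f) : DI h2 f⁻¹ := by
  obtain ⟨a1, a2, a3⟩ := hf
  refine ⟨CC.inv_mem a1, ?_, ?_⟩
  · rw [inv_mul_eq_iff_eq_mul, ← mul_assoc, a2, mul_inv_cancel_right]
  · have h : sigma h2 f⁻¹ (sigma h2 f (Pi.single bI 1)) = Pi.single bI 1 := by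
      have : sigma h2 f⁻¹ (sigma h2 f (Pi.single bI 1)) = sigma h2 (f⁻¹ * f) (Pi.single bI 1) := by
        rw [map_mul]; rfl
      rw [this, inv_mul_cancel, map_one]; rfl
    rcases a3 with a3 | a3
    · left; rw [a3] at h; exact h
    · right; rw [a3, map_neg] at h; exact neg_eq_iff_eq_neg.1 h

theorem chk_D (l : Ltr) (hl : inD l = true) :
    check [l.prog] (p1 1344) [] (Bool.rec (p1 1344) (m1 1344) (isH l)) = true := by
  cases l
  case y1 => decide +kernel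
  case y2 => decide +kernel
  case y3 => decide +kernel
  case y4 => decide +kernel
  case y5 => decide +kernel
  case y6 => decide +kernel
  case y7 => decide +kernel
  case y8 => decide +kernel
  case y9 => decide +kernel
  case y10 => decide +kernel
  case p => decide +kernel
  case h => decide +kernel
  all_goals exact absurd (show false = true from hl) (by simp)

theorem DI_letter {l : Ltr} (hl : inD l = true) : DI h2 (gE l) := by
  refine ⟨E_mem_C (isC_of_inW (inW_of_inD hl)), comm_D hl, ?_⟩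
  have h := tr_check h2 l (chk_D l hl)
  have h3 := up_p1 F bI
  have h4 := up_m1 F bI
  cases hh : isH l with
  | false =>
    left
    rw [hh] at h
    have h5 : sigma h2 (gE l) (up F (zv (p1 bI.1))) = up F (zv (p1 bI.1)) := h
    rw [h3] at h5
    exact h5
  | true =>
    right
    rw [hh] at h
    have h5 : sigma h2 (gE l) (up F (zv (p1 bI.1))) = up F (zv (m1 bI.1)) := h
    rw [h3, h4] at h5
    exact h5

theorem gW_cons (l : Ltr) (v : List Ltr) : gW (l :: v) = gW v * gE l := Subtype.ext (W_cons l v)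

theorem DI_word {v : List Ltr} (h : allD v = true) : DI h2 (gW v) := by
  induction v with
  | nil => exact DI.one h2
  | cons l v ih =>
    have h' : and (inD l) (allD v) = true := h
    rw [Bool.and_eq_true] at h'
    rw [gW_cons]
    exact (ih h'.2).mul h2 (DI_letter h2 h'.1)

/-- The steps for `I`. -/
def StepI (a b : G) : Prop := _root_.Cfsg.Agent.H863.BStage.Good (M h2).Γ a b ∧
  ∃ f ∈ (M h2).Γ.C, f * (M h2).Γ.z1 = (M h2).Γ.z1 * f ∧
    ((M h2).σ f⁻¹ (Pi.single (T h2).bI 1) = Pi.single (T h2).bI 1 ∨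
      (M h2).σ f⁻¹ (Pi.single (T h2).bI 1) = - Pi.single (T h2).bI 1) ∧
    (M h2).Γ.Nd b (f * (M h2).Γ.xi)

theorem stepI {w v : List Ltr} {a b : ℕ} (hw : allW w = true) (ha : lw w 0x400 = a) (hb : lw w 0x4ea = b)
    (hv : allD v = true) (hv' : lw v 0x4ea = b) : StepI h2 (r (dec 11 a)) (r (dec 11 b)) := by
  refine ⟨good_word hw ha hb, gW v, (DI_word h2 hv).1, (DI_word h2 hv).2.1, ((DI_word h2 hv).inv h2).2.2, ?_⟩
  exact nd_xi_word (allW_of_allD hv) hv'

theorem step_234 : StepI h2 (r (dec 11 234)) (r (dec 11 1258)) :=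
  stepI h2 (w := [.y2, .xi, .y2]) (v := []) rfl (by decide +kernel) (by decide +kernel) rfl (by decide +kernel)

theorem step_1660 : StepI h2 (r (dec 11 1660)) (r (dec 11 520)) :=
  stepI h2 (w := [.y2, .p, .p, .p, .p, .p, .h, .p, .p, .p, .p, .p, .h, .xi, .p]) (v := [.y2, .h, .p, .h, .p, .h, .p, .h]) rfl (by decide +kernel) (by decide +kernel) rfl (by decide +kernel)

theorem step_520 : StepI h2 (r (dec 11 520)) (r (dec 11 1258)) :=
  stepI h2 (w := [.y2, .p, .h, .p, .p, .p, .h, .p, .p, .p, .p, .h, .p, .xi, .y2, .h, .xi, .y1, .xi, .h, .p]) (v := []) rfl (by decide +kernel) (by decide +kernel) rfl (by decide +kernel)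

theorem step_1394 : StepI h2 (r (dec 11 1394)) (r (dec 11 1562)) :=
  stepI h2 (w := [.p, .p, .p, .p, .p, .h, .p, .p, .p, .p, .p, .h, .xi, .h]) (v := [.p, .h, .p, .p, .h, .p, .p, .p, .p, .p, .p]) rfl (by decide +kernel) (by decide +kernel) rfl (by decide +kernel)

theorem step_1562 : StepI h2 (r (dec 11 1562)) (r (dec 11 1258)) :=
  stepI h2 (w := [.xi, .h, .xi, .y1, .xi, .h, .xi]) (v := []) rfl (by decide +kernel) (by decide +kernel) rfl (by decide +kernel)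

theorem path0 : Relation.ReflTransGen (StepI h2) (r (dec 11 1258)) (Γ.n0) := Relation.ReflTransGen.refl

theorem path_234 : Relation.ReflTransGen (StepI h2) (r (dec 11 234)) (Γ.n0) :=
  Relation.ReflTransGen.head (step_234 h2) (path0 h2)

theorem path_1660 : Relation.ReflTransGen (StepI h2) (r (dec 11 1660)) (Γ.n0) :=
  Relation.ReflTransGen.head (step_1660 h2) (Relation.ReflTransGen.head (step_520 h2) (path0 h2))

theorem path_1394 : Relation.ReflTransGen (StepI h2) (r (dec 11 1394)) (Γ.n0) :=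
  Relation.ReflTransGen.head (step_1394 h2) (Relation.ReflTransGen.head (step_1562 h2) (path0 h2))

/-- The start nodes. -/
theorem nd_l_xi {l : Ltr} (hl : inW l = true) {y : ℕ} (hy : ln (Ic l) 0x4ea = y) :
    Γ.Nd (r (dec 11 y)) (gE l * Γ.xi) := by
  apply nd_of_Cj (x := y) (CC.mul_mem (E_mem_C (isC_of_inW hl)) (gE_mem rfl))
  · have h1 := Cj_letter hl 0x4ea
    rw [hy] at h1
    exact Cj_xi.comp h1
  · rfl

theorem start {l : Ltr} (hl : inD l = true) :
    ∃ y, Γ.Nd y (gE l * Γ.xi) ∧ Relation.ReflTransGen (StepI h2) y Γ.n0 := by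
  cases l
  case y1 => exact ⟨_, nd_l_xi rfl (y := 1258) (by decide +kernel), path0 h2⟩
  case y2 => exact ⟨_, nd_l_xi rfl (y := 234) (by decide +kernel), path_234 h2⟩
  case y3 => exact ⟨_, nd_l_xi rfl (y := 1258) (by decide +kernel), path0 h2⟩
  case y4 => exact ⟨_, nd_l_xi rfl (y := 234) (by decide +kernel), path_234 h2⟩
  case y5 => exact ⟨_, nd_l_xi rfl (y := 1258) (by decide +kernel), path0 h2⟩
  case y6 => exact ⟨_, nd_l_xi rfl (y := 234) (by decide +kernel), path_234 h2⟩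
  case y7 => exact ⟨_, nd_l_xi rfl (y := 234) (by decide +kernel), path_234 h2⟩
  case y8 => exact ⟨_, nd_l_xi rfl (y := 234) (by decide +kernel), path_234 h2⟩
  case y9 => exact ⟨_, nd_l_xi rfl (y := 1258) (by decide +kernel), path0 h2⟩
  case y10 => exact ⟨_, nd_l_xi rfl (y := 1258) (by decide +kernel), path0 h2⟩
  case p => exact ⟨_, nd_l_xi rfl (y := 1660) (by decide +kernel), path_1660 h2⟩
  case h => exact ⟨_, nd_l_xi rfl (y := 1394) (by decide +kernel), path_1394 h2⟩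
  all_goals exact absurd (show false = true from hl) (by simp)

theorem xi_A : sigma h2 (gE .xi) (Pi.single (bA 0) 1 + Pi.single (bA 1) 1) = (-2 : F) • Pi.single bI 1 := by
  have h := tr_check h2 .xi chk_xi_A
  have hne : (bA 0).1 ≠ (bA 1).1 := by
    show 1344 + (0 + 1) ≠ 1344 + (1 + 1)
    omega
  have h3 := up_p11 F (bA 0) (bA 1) hne
  have h4 := up_m2 F bI
  rw [← h3, ← h4]
  exact h

theorem xi_I : sigma h2 (gE .xi) (Pi.single bI 1) bI = 0 := by
  have h := tr_check h2 .xi chk_xi_I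
  have hne : (bA 0).1 ≠ (bA 1).1 := by
    show 1344 + (0 + 1) ≠ 1344 + (1 + 1)
    omega
  have h3 : up F (zv (p2 1344)) = _ := up_p2 F bI
  have h4 : up F (zv (m11 1345 1346)) = _ := up_m11 F (bA 0) (bA 1) hne
  rw [h3, h4, map_smul] at h
  have h5 := congrFun h bI
  have h6 : bI ≠ bA 0 := fun h => by
    have : 1344 = 1344 + (0 + 1) := congrArg Subtype.val h
    omega
  have h7 : bI ≠ bA 1 := fun h => by
    have : 1344 = 1344 + (1 + 1) := congrArg Subtype.val h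
    omega
  rw [Pi.smul_apply, Pi.neg_apply, Pi.add_apply, Pi.single_eq_of_ne h6, Pi.single_eq_of_ne h7, add_zero, neg_zero,
    smul_eq_mul] at h5
  exact (mul_eq_zero.1 h5).resolve_left h2

end

theorem xi_xi : Γ.Nd Γ.z1 (Γ.xi * Γ.xi) := by
  have h1 : Γ.Nd (r (dec 11 0x400)) (gW [.xi, .xi]) :=
    nd_word rfl (by rw [show lw [.xi, .xi] 0x400 = 0x400 by decide +kernel])
  have h2 : gW [.xi, .xi] = Γ.xi * Γ.xi := Subtype.ext (InstMem.W_two .xi .xi)
  rw [h2] at h1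
  have h3 : Γ.z1 = r (dec 11 0x400) := gE_Z10
  rw [h3]
  exact h1

theorem top : Subgroup.closure ((CC : Set G) ∪ {gE .tau}) = ⊤ := by
  rw [eq_top_iff]
  rintro ⟨g, hg⟩ -
  have key : ∀ g ∈ Inst.M.G, ∃ h : g ∈ Inst.M.G, (⟨g, h⟩ : G) ∈ Subgroup.closure ((CC : Set G) ∪ {gE .tau}) := by
    intro g hg
    change g ∈ Subgroup.closure ((C : Set (V ≃ₗ[ℚ] V)) ∪ {τ}) at hg
    induction hg using Subgroup.closure_induction with
    | mem g hg =>
      rcases hg with hg | rfl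
      · exact ⟨InstMem.C_le_G hg, Subgroup.subset_closure (Or.inl hg)⟩
      · exact ⟨InstMem.tau_mem_G, Subgroup.subset_closure (Or.inr rfl)⟩
    | one => exact ⟨Inst.M.G.one_mem, Subgroup.one_mem _⟩
    | mul a b _ _ iha ihb =>
      obtain ⟨h1, h1'⟩ := iha
      obtain ⟨h2, h2'⟩ := ihb
      exact ⟨Inst.M.G.mul_mem h1 h2, Subgroup.mul_mem _ h1' h2'⟩
    | inv a _ iha =>
      obtain ⟨h1, h1'⟩ := iha
      exact ⟨Inst.M.G.inv_mem h1, Subgroup.inv_mem _ h1'⟩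
  obtain ⟨h, h'⟩ := key g hg
  exact h'

/-- The facts about the `23`-part. -/
noncomputable def D {F : Type*} [Field F] (h2 : (2 : F) ≠ 0) : UDat (A h2) (T h2) where
  j1 := 0
  j2 := 1
  xi_A := xi_A h2
  xi_I := xi_I h2
  xi_xi := xi_xi
  genD := by
    rintro _ ⟨l, hl, rfl⟩ hne
    have hD : inD l = true := by
      cases l <;> first | exact hl | exact absurd rfl hne
    refine ⟨comm_D hD, (DI_letter h2 hD).2.2, ?_⟩
    obtain ⟨y, h3, h4⟩ := start h2 hD
    exact ⟨y, h3, h4⟩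
  t_n0 := t_n0
  top := top

end Cfsg.Agent.H863.BUI
end

-- part: H863/BIrr
section
/-!
# Irreducibility and uniqueness (helper863)
-/

set_option autoImplicit false
set_option linter.unusedSectionVars false

namespace Cfsg.Agent.H863.BIrr

open Cfsg.Agent.Monster.PauliBasic Cfsg.Agent.Monster.PauliRep Cfsg.Agent.Monster.PauliClif
open Cfsg.Agent.BabyM.QAct Cfsg.Agent.H863.BStage Cfsg.Agent.H863.BMdl Cfsg.Agent.H863.BPauli Cfsg.Agent.H863.BOne
open Cfsg.Agent.H863.BE Cfsg.Agent.H863.BT Cfsg.Agent.H863.BT2 Cfsg.Agent.H863.BU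

variable {n : ℕ} {ι : Type} [Fintype ι] [DecidableEq ι] {K : Coord n ι} {F : Type*} [Field F]
  {G : Type*} [Group G] {M : Mdl K F G} {A : Cert M} {J : Type} [Fintype J] [DecidableEq J] {T : TDat M J}
  (D : UDat A T)

/-- Extracting a unit vector of the qubit part. -/
theorem pr_S {s : ι → F} (hs : s ∈ M.S) (a : B n) :
    ∑ v : B n, sg F (v ⬝ᵥ a) • M.σ (M.r ⟨0, 0, v⟩) s = ((2 : F) ^ n * s (K.ql a)) • Pi.single (K.ql a) 1 := by
  funext i
  rw [Finset.sum_apply]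
  by_cases hi : K.isq i
  · rw [← K.ql_qb i hi]
    set b := K.qb i
    have h1 : ∀ v : B n, (sg F (v ⬝ᵥ a) • M.σ (M.r ⟨0, 0, v⟩) s) (K.ql b) = sg F ((a + b) ⬝ᵥ v) * s (K.ql b) := by
      intro v
      rw [Pi.smul_apply, M.Zq_apply, smul_eq_mul, ← mul_assoc, ← sg_add, ← dotProduct_add, dotProduct_comm]
    rw [Finset.sum_congr rfl (fun v _ => h1 v), ← Finset.sum_mul, sum_sg _ M.two, Pi.smul_apply, smul_eq_mul]
    by_cases h : a = b
    · rw [h, add_self, if_pos rfl, Pi.single_eq_same, mul_one]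
    · have h3 : a + b ≠ 0 := by
        intro h3
        apply h
        rw [← add_add_cancel a b, h3, zero_add]
      have h4 : K.ql b ≠ K.ql a := fun h' => h (K.ql_injective h').symm
      rw [if_neg h3, Pi.single_eq_of_ne h4, zero_mul, mul_zero]
  · have h4 : i ≠ K.ql a := fun h => hi (h ▸ K.isq_ql a)
    rw [Pi.smul_apply, Pi.single_eq_of_ne h4, smul_zero, Finset.sum_eq_zero]
    intro v _
    rw [Pi.smul_apply, M.S_inv (M.r_mem _) hs i hi, smul_zero]

include D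

/-- **Irreducibility.** -/
theorem irred (hs : ∀ N : Subgroup G, N.Normal → M.Γ.z ∈ N → N = ⊤) (N : Submodule F (ι → F))
    (hN : ∀ g, ∀ m ∈ N, M.σ g m ∈ N) : N = ⊥ ∨ N = ⊤ := by
  by_cases hS : ∃ s ∈ N, s ∈ M.S ∧ s ≠ 0
  · right
    obtain ⟨s, hsN, hsS, hs0⟩ := hS
    obtain ⟨i, hi⟩ : ∃ i, s i ≠ 0 := by
      by_contra hc
      push Not at hc
      exact hs0 (funext hc)
    have hiq : K.isq i := by
      by_contra hc
      exact hi (hsS i hc)
    -- a unit vector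
    have h1 : (Pi.single i 1 : ι → F) ∈ N := by
      have h2 := pr_S hsS (K.qb i)
      rw [K.ql_qb i hiq] at h2
      have h3 : ∑ v : B n, sg F (v ⬝ᵥ K.qb i) • M.σ (M.r ⟨0, 0, v⟩) s ∈ N :=
        N.sum_mem fun v _ => N.smul_mem _ (hN _ _ hsN)
      rw [h2] at h3
      have h4 : (2 : F) ^ n * s i ≠ 0 := mul_ne_zero (pow_ne_zero _ M.two) hi
      have h5 := N.smul_mem ((2 : F) ^ n * s i)⁻¹ h3
      rwa [smul_smul, inv_mul_cancel₀ h4, one_smul] at h5
    have hq : ∀ j, K.isq j → (Pi.single j 1 : ι → F) ∈ N := by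
      intro j hj
      have h2 := hN (M.r ⟨0, K.qb i + K.qb j, 0⟩) _ h1
      rw [← K.ql_qb i hiq, M.σ_q] at h2
      simp only [zero_add, zero_dotProduct, sg_zero, one_smul] at h2
      rw [K.ql_qb i hiq] at h2
      have h3 : K.qb i + (K.qb i + K.qb j) = K.qb j := by
        rw [← add_assoc, add_self, zero_add]
      rw [h3, K.ql_qb j hj] at h2
      exact h2
    have hSN : ∀ m ∈ M.S, m ∈ N := by
      intro m hm
      rw [expand m]
      apply N.sum_mem
      intro j _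
      by_cases hj : K.isq j
      · exact N.smul_mem _ (hq j hj)
      · rw [hm j hj, zero_smul]; exact N.zero_mem
    have hX1 : ∀ m, InN (M := M) m → m ∈ N := by
      intro m hm
      have h2 := hN M.Γ.t _ (hSN _ hm.tinv.1)
      rw [M.app, mul_inv_cancel, map_one] at h2
      exact h2
    have hX : ∀ i, K.isX i → (Pi.single i 1 : ι → F) ∈ N := by
      intro i hi
      have hnd := A.nd i hi
      have h1 : InN (M := M) (M.σ (A.nc i)⁻¹ (Pi.single i 1)) := by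
        refine ⟨M.P_inv (M.Γ.C.inv_mem hnd.mem) (M.z_l hi.1), ?_⟩
        have h2 := (df_iff M).1 (df_X M hnd hi (A.form i hi))
        have h3 : M.Γ.z1 * (A.nc i)⁻¹ = (A.nc i)⁻¹ * (A.nc i * M.Γ.z1 * (A.nc i)⁻¹) := by group
        rw [M.app, h3, ← M.app, h2, map_neg]
      have h2 := hN (A.nc i) _ (hX1 _ h1)
      rw [M.app, mul_inv_cancel, map_one] at h2
      exact h2
    have hA : ∀ j, vA T j ∈ N := by
      intro j
      have h2 := hN M.Γ.t _ (N.sub_mem (hX _ (T.hB j)) (hX _ (T.hC j)))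
      rw [T.t_CA] at h2
      exact (N.neg_mem_iff).1 h2
    have hI : vI T ∈ N := by
      have h2 := hN M.Γ.xi _ (N.add_mem (hA D.j1) (hA D.j2))
      rw [D.xi_A] at h2
      have h3 := N.smul_mem (-2 : F)⁻¹ h2
      have h4 : (-2 : F) ≠ 0 := neg_ne_zero.2 M.two
      rwa [smul_smul, inv_mul_cancel₀ h4, one_smul] at h3
    rw [eq_top_iff]
    intro m _
    rw [expand m]
    apply N.sum_mem
    intro j _
    apply N.smul_mem
    rcases K.cases j with hj | hj | hj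
    · exact hq j hj
    · exact hX j hj
    · rcases T.U_cases j hj with rfl | ⟨k, rfl⟩
      · exact hI
      · exact hA k
  · left
    push Not at hS
    have hz : ∀ m ∈ N, M.σ M.Γ.z m = m := by
      intro m hm
      have h1 := hS (m - M.σ M.Γ.z m) (N.sub_mem hm (hN _ _ hm)) (by
        rw [M.mem_S, map_sub, M.app, M.Γ.z_sq, map_one]
        show M.σ M.Γ.z m - m = _
        abel)
      exact (sub_eq_zero.1 h1).symm
    let H : Subgroup G :=
      { carrier := {g | ∀ m ∈ N, M.σ g m = m}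
        mul_mem' := by
          intro a b ha hb m hm
          rw [← M.app, hb m hm, ha m hm]
        one_mem' := by intro m _; rw [map_one]; rfl
        inv_mem' := by
          intro a ha m hm
          have h1 := ha (M.σ a⁻¹ m) (hN _ _ hm)
          rw [M.app, mul_inv_cancel, map_one] at h1
          exact h1.symm }
    have hnorm : H.Normal := by
      constructor
      intro h hh g m hm
      rw [← M.app, ← M.app, hh _ (hN _ _ hm), M.app, mul_inv_cancel, map_one]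
      rfl
    have htop := hs H hnorm hz
    have hall : ∀ g, ∀ m ∈ N, M.σ g m = m := by
      intro g m hm
      have : g ∈ H := by rw [htop]; trivial
      exact this m hm
    rw [eq_bot_iff]
    intro m hm
    rw [Submodule.mem_bot]
    have hU : m ∈ U M := by rw [mem_U]; exact fun x => hall _ m hm
    have hexp := U_expand (T := T) hU
    have ht := hall M.Γ.t m hm
    have hA0 : ∀ j, m (T.bA j) = 0 := by
      intro j
      have h1 : M.σ M.Γ.t m = -(∑ j, m (T.bA j) • (vB T j + vC T j)) + m T.bI • vI T := by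
        conv_lhs => rw [hexp]
        rw [map_add, map_sum, map_smul]
        have h0 : M.σ M.Γ.t (vI T) = vI T := T.t_I
        rw [h0]
        congr 1
        rw [← Finset.sum_neg_distrib]
        apply Finset.sum_congr rfl
        intro j _
        have h1 : M.σ M.Γ.t (vA T j) = -(vB T j + vC T j) := by
          have h2 : vA T j = M.σ M.Γ.t (M.σ M.Γ.t (-(vB T j + vC T j))) := by
            rw [map_neg, T.t_BC, map_neg, T.t_CA, neg_neg]
          conv_lhs => rw [h2]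
          rw [M.app, M.app, M.Γ.t3, map_one]; rfl
        rw [map_smul, h1, smul_neg]
      rw [← ht, h1, Pi.add_apply, Pi.neg_apply, Pi.smul_apply, vI_ne (T.A_ne j), smul_zero, add_zero, neg_eq_zero]
      exact (Submodule.sum_mem (Y M) fun j _ => (Y M).smul_mem _ (BpC_mem j)) _ (T.hA j)
    have hm2 : m = m T.bI • vI T := by
      conv_lhs => rw [hexp]
      rw [Finset.sum_eq_zero, zero_add]
      intro j _
      rw [hA0 j, zero_smul]
    have hI0 : m T.bI = 0 := by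
      have h1 := hall M.Γ.xi m hm
      have h2 : M.σ M.Γ.xi m T.bI = 0 := by
        rw [hm2, map_smul, Pi.smul_apply, show M.σ M.Γ.xi (vI T) T.bI = 0 from D.xi_I, smul_zero]
      rw [← h1, h2]
    rw [hm2, hI0, zero_smul]

/-- **The embedding** into every representation of small degree which is nontrivial at `z`. -/
theorem embed (hs : ∀ N : Subgroup G, N.Normal → M.Γ.z ∈ N → N = ⊤) {W : Type*} [AddCommGroup W] [Module F W]
    [FiniteDimensional F W] (ρ : G →* Module.End F W) (hlt : Module.finrank F W < 3 * 2 ^ n) (hz : ρ M.Γ.z ≠ 1) :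
    ∃ f : (ι → F) →ₗ[F] W, Function.Injective f ∧ ∀ g m, ρ g (f m) = f (M.σ g m) := by
  obtain ⟨φ, h1, h2, h3, h4, h5⟩ := stage_one (M := M) (ρ := ρ) hlt hz
  have O : BT.One M ρ φ := ⟨h1, h2, h3, h4, h5⟩
  have hG := phiT_G O D
  have hker : LinearMap.ker (phiT A ρ φ T) = ⊥ := by
    rcases irred D hs (LinearMap.ker (phiT A ρ φ T)) (by
      intro g m hm
      rw [LinearMap.mem_ker] at hm ⊢
      rw [← hG, hm, map_zero]) with h | h
    · exact h
    · exfalso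
      have h6 : (Pi.single (K.ql 0) 1 : ι → F) ∈ LinearMap.ker (phiT A ρ φ T) := by rw [h]; trivial
      have h7 : (Pi.single (K.ql 0) 1 : ι → F) ∈ M.S := M.mem_S.2 (M.z_q (K.isq_ql 0))
      rw [LinearMap.mem_ker, phiT_Y (Y_of_not (fun h => h.1 (K.isq_ql 0))), phiY_q h7] at h6
      have h8 := h4 _ h7 h6
      have h9 := congrFun h8 (K.ql 0)
      rw [Pi.single_eq_same] at h9
      exact one_ne_zero h9
  exact ⟨phiT A ρ φ T, LinearMap.ker_eq_bot.1 hker, fun g m => hG g m⟩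

/-- **Uniqueness.** -/
theorem unique (hs : ∀ N : Subgroup G, N.Normal → M.Γ.z ∈ N → N = ⊤) {W : Type*} [AddCommGroup W] [Module F W]
    [FiniteDimensional F W] (ρ : G →* Module.End F W) (hdim : Module.finrank F W = Fintype.card ι)
    (hlt : Fintype.card ι < 3 * 2 ^ n) (hz : ρ M.Γ.z ≠ 1) :
    ∃ e : (ι → F) ≃ₗ[F] W, ∀ g m, ρ g (e m) = e (M.σ g m) := by
  obtain ⟨f, hinj, hG⟩ := embed D hs ρ (by rw [hdim]; exact hlt) hz
  exact ⟨LinearMap.linearEquivOfInjective f hinj (by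
    rw [Module.finrank_fintype_fun_eq_card, hdim]), fun g m => hG g m⟩

end Cfsg.Agent.H863.BIrr
end

-- part: H863/BFin
section
/-!
# The representations of degree 4371 of the group of the concrete model (helper863)
-/

set_option autoImplicit false

namespace Cfsg.Agent.H863.BFin

open Cfsg.Agent.Monster.VecEngine Cfsg.Agent.Monster.VecSpace
open Cfsg.Agent.Monster.PauliBasic
open Cfsg.Agent.BabyM.Conc Cfsg.Agent.BabyM.KTab
open Cfsg.Agent.BabyM
open Cfsg.Agent.H863.BRep Cfsg.Agent.H863.BGrp Cfsg.Agent.H863.BInst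

theorem z_ne : gE .z ≠ 1 := fun h => Instance.all.grp.z_ne (congrArg Subtype.val h)

theorem simpleG : IsSimpleGroup G := Instance.all.simple

theorem normal_top (N : Subgroup G) (hN : N.Normal) (hz : Γ.z ∈ N) : N = ⊤ := by
  rcases simpleG.eq_bot_or_eq_top_of_normal N hN with h | h
  · exfalso
    rw [h, Subgroup.mem_bot] at hz
    exact z_ne hz
  · exact h

section

variable {F : Type*} [Field F] (h2 : (2 : F) ≠ 0)

theorem irred (N : Submodule F (Lane U → F)) (hN : ∀ g, ∀ m ∈ N, sigma h2 g m ∈ N) : N = ⊥ ∨ N = ⊤ :=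
  BIrr.irred (BUI.D h2) normal_top N hN

theorem unique {W : Type*} [AddCommGroup W] [Module F W] [FiniteDimensional F W] (ρ : G →* Module.End F W)
    (hdim : Module.finrank F W = 4371) (hρ : Function.Injective ρ) :
    ∃ e : (Lane U → F) ≃ₗ[F] W, ∀ g m, ρ g (e m) = e (sigma h2 g m) := by
  refine BIrr.unique (BUI.D h2) normal_top ρ ?_ ?_ ?_
  · rw [hdim, card_lane]
  · rw [card_lane]; norm_num
  · intro h
    exact z_ne (hρ (h.trans (map_one ρ).symm))

/-- The reduced representation is contained in every nontrivial representation of small degree. -/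
theorem embed {W : Type*} [AddCommGroup W] [Module F W] [FiniteDimensional F W] (ρ : G →* Module.End F W)
    (hlt : Module.finrank F W < 6144) (hρ : ρ ≠ 1) :
    ∃ f : (Lane U → F) →ₗ[F] W, Function.Injective f ∧ ∀ g m, ρ g (f m) = f (sigma h2 g m) := by
  refine BIrr.embed (BUI.D h2) normal_top ρ (by norm_num; exact hlt) ?_
  intro h
  apply hρ
  have h1 : (MonoidHom.ker ρ.toHomUnits) = ⊤ := by
    apply normal_top _ (MonoidHom.normal_ker _)
    exact Units.ext h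
  apply MonoidHom.ext
  intro g
  have h3 : g ∈ MonoidHom.ker ρ.toHomUnits := by rw [h1]; exact Subgroup.mem_top g
  exact congrArg Units.val h3

theorem sigma_injective : Function.Injective (sigma h2 : G →* Module.End F (Lane U → F)) := by
  rw [injective_iff_map_eq_one]
  intro g hg
  have hs := simpleG
  have hker : (MonoidHom.ker (sigma h2 : G →* Module.End F (Lane U → F)).toHomUnits) = ⊥ := by
    rcases hs.eq_bot_or_eq_top_of_normal _ (MonoidHom.normal_ker (sigma h2 : G →* _).toHomUnits) with h | h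
    · exact h
    · exfalso
      have h1 : gE .z ∈ (MonoidHom.ker (sigma h2 : G →* Module.End F (Lane U → F)).toHomUnits) := by
        rw [h]; exact Subgroup.mem_top _
      have h3 : sigma h2 (gE .z) = 1 := congrArg Units.val h1
      have h4 := (M h2).z_q (Cd.isq_ql 0)
      have h5 : (Pi.single (Cd.ql 0) 1 : Lane U → F) = - Pi.single (Cd.ql 0) 1 := by
        have h6 : sigma h2 (gE .z) (Pi.single (Cd.ql 0) 1) = - Pi.single (Cd.ql 0) 1 := h4
        rw [h3] at h6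
        exact h6
      have h7 := congrFun h5 (Cd.ql 0)
      rw [Pi.neg_apply, Pi.single_eq_same] at h7
      apply h2
      have : (1 : F) + 1 = 0 := by
        nth_rewrite 1 [h7]
        exact neg_add_cancel 1
      rw [← one_add_one_eq_two]
      exact this
  have h1 : g ∈ (MonoidHom.ker (sigma h2 : G →* Module.End F (Lane U → F)).toHomUnits) := Units.ext hg
  rw [hker, Subgroup.mem_bot] at h1
  exact h1

end

end Cfsg.Agent.H863.BFin
end

private theorem dce_6abf07513518 : _root_.True := by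
  try have : _root_.True := by simp only [_root_.Cfsg.Agent.H863.BStage.vl.eq_1]
  try have : _root_.True := by simp only [_root_.Cfsg.Agent.H863.BU.vU.eq_1]
  exact _root_.True.intro
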