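import Mathlib
import Cfsg.Agent.BM.StageWRel_m3
import Cfsg.Agent.BM.KHAll
import Cfsg.Agent.H863.BTI
import Cfsg.Agent.BMx.Fast
import Cfsg.Agent.FastGrp
import Cfsg.Agent.Prune
set_option linter.all false

section
prune_inst 0x7ffefffbaff9bfffdfff7fffaffcdffdfbb91fffe6fff9fbffe0efff7bff23258fc7fbbfeff092fedfd6e23490b87853ff7ece7fe06bdc7ffffd5ff41ffbee0ff5f7350951dd98be1fbc0ffe03f07f8e7f3fffffffffffffffffffffffffffffffbfffffffff

-- part: H863/SExt
section
set_option linter.all false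
open scoped Cfsg.Agent.FastGrp

/-!
# Extensions by a module: sections over subgroups of invertible order (helper863, for S5590)
-/

set_option autoImplicit false

namespace Cfsg.Agent.H863.SExt

variable {F V G : Type*} [Field F] [AddCommGroup V] [Module F V] [Group G]

/-- An extension of `G` by the module `V`. -/
structure Ext (σ : G →* Module.End F V) (E : Type*) [Group E] where
  π : E →* G
  surj : Function.Surjective π
  j : V → E
  j_add : ∀ a b, j (a + b) = j a * j b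
  j_inj : Function.Injective j
  ker : ∀ x, π x = 1 → ∃ v, x = j v
  π_j : ∀ v, π (j v) = 1
  conj : ∀ x v, x * j v = j (σ (π x) v) * x

namespace Ext

variable {σ : G →* Module.End F V} {E : Type*} [Group E] (X : Ext σ E)

theorem j_zero : X.j 0 = 1 := by
  have h := X.j_add 0 0
  rw [add_zero] at h
  exact left_eq_mul.1 h

theorem j_neg (v : V) : X.j (-v) = (X.j v)⁻¹ := by
  rw [eq_comm, inv_eq_iff_mul_eq_one, ← X.j_add, add_neg_cancel, X.j_zero]

theorem j_comm (a b : V) : X.j a * X.j b = X.j b * X.j a := by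
  rw [← X.j_add, ← X.j_add, add_comm]

theorem of_eq {x y : E} (h : X.π x = X.π y) : ∃ v, x = X.j v * y := by
  obtain ⟨v, hv⟩ := X.ker (x * y⁻¹) (by rw [map_mul, map_inv, h, mul_inv_cancel])
  exact ⟨v, by rw [← hv, inv_mul_cancel_right]⟩

/-- A section over a subgroup. -/
def IsSec {H : Subgroup G} (s : H →* E) : Prop := ∀ h, X.π (s h) = h

/-- Existence of sections over subgroups of invertible order. -/
theorem exists_sec (H : Subgroup G) [Finite H] (hF : (Nat.card H : F) ≠ 0) : ∃ s : H →* E, X.IsSec s := by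
  classical
  have := Fintype.ofFinite H
  have ht : ∀ g : H, ∃ x : E, X.π x = g := fun g => X.surj g
  choose t ht using ht
  have hf : ∀ g h : H, ∃ v, t g * t h = X.j v * t (g * h) := fun g h =>
    X.of_eq (by rw [map_mul, ht, ht, ht]; rfl)
  choose f hf using hf
  -- the cocycle identity
  have hc : ∀ g h k : H, f g h + f (g * h) k = σ g (f h k) + f g (h * k) := by
    intro g h k
    apply X.j_inj
    have h1 : t g * t h * t k = X.j (f g h + f (g * h) k) * t (g * h * k) := by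
      rw [hf g h, mul_assoc, hf (g * h) k, ← mul_assoc, ← X.j_add]
    have h2 : t g * t h * t k = X.j (σ g (f h k) + f g (h * k)) * t (g * h * k) := by
      rw [mul_assoc, hf h k, ← mul_assoc, X.conj, ht, mul_assoc, hf g (h * k), ← mul_assoc, ← X.j_add, mul_assoc g h k]
    exact mul_right_cancel (h1.symm.trans h2)
  set n : F := (Nat.card H : F) with hn
  let c : H → V := fun g => n⁻¹ • ∑ k, f g k
  have hc' : ∀ g h, c g + σ g (c h) = f g h + c (g * h) := by
    intro g h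
    have h1 : ∑ k, (f g h + f (g * h) k) = ∑ k, (σ g (f h k) + f g (h * k)) :=
      Finset.sum_congr rfl fun k _ => hc g h k
    rw [Finset.sum_add_distrib, Finset.sum_add_distrib, Finset.sum_const, Finset.card_univ,
      ← Nat.card_eq_fintype_card] at h1
    have h2 : ∑ k, f g (h * k) = ∑ k, f g k := Fintype.sum_equiv (Equiv.mulLeft h) _ _ fun k => rfl
    rw [h2, ← map_sum] at h1
    have h3 : (Nat.card H • f g h : V) = n • f g h := by rw [hn, Nat.cast_smul_eq_nsmul]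
    rw [h3] at h1
    show n⁻¹ • ∑ k, f g k + σ g (n⁻¹ • ∑ k, f h k) = f g h + n⁻¹ • ∑ k, f (g * h) k
    rw [map_smul, ← smul_add, add_comm, ← h1, smul_add, smul_smul, inv_mul_cancel₀ hF, one_smul]
  refine ⟨MonoidHom.mk' (fun g => X.j (- c g) * t g) ?_, ?_⟩
  · intro g h
    show X.j (- c (g * h)) * t (g * h) = X.j (- c g) * t g * (X.j (- c h) * t h)
    have h1 : X.j (- c g) * t g * (X.j (- c h) * t h) = X.j (- c g + σ g (- c h) + f g h) * t (g * h) := by
      rw [mul_assoc, ← mul_assoc (t g), X.conj, ht, X.j_add, X.j_add, mul_assoc (X.j (σ g (- c h))), hf g h]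
      simp only [mul_assoc]
    rw [h1]
    congr 2
    have h2 := hc' g h
    rw [map_neg]
    have h3 : c (g * h) = c g + σ g (c h) - f g h := by rw [h2]; abel
    rw [h3]
    abel
  · intro g
    show X.π (X.j (- c g) * t g) = g
    rw [map_mul, X.π_j, one_mul, ht]

/-- Sections over subgroups of invertible order are conjugate. -/
theorem conj_sec {H : Subgroup G} [Finite H] (hF : (Nat.card H : F) ≠ 0) {s s' : H →* E} (hs : X.IsSec s)
    (hs' : X.IsSec s') : ∃ v, ∀ h, s' h = X.j v * s h * (X.j v)⁻¹ := by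
  classical
  have := Fintype.ofFinite H
  have hd : ∀ g : H, ∃ v, s' g = X.j v * s g := fun g => X.of_eq (by rw [hs g, hs' g])
  choose d hd using hd
  have hc : ∀ g h : H, d (g * h) = d g + σ g (d h) := by
    intro g h
    apply X.j_inj
    have h1 : s' (g * h) = X.j (d (g * h)) * (s g * s h) := by rw [hd, map_mul s]
    have h2 : s' (g * h) = X.j (d g + σ g (d h)) * (s g * s h) := by
      rw [map_mul s', hd g, hd h, mul_assoc, ← mul_assoc (s g), X.conj, hs g, X.j_add]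
      simp only [mul_assoc]
    exact mul_right_cancel (h1.symm.trans h2)
  set n : F := (Nat.card H : F) with hn
  refine ⟨n⁻¹ • ∑ k, d k, fun g => ?_⟩
  set v : V := n⁻¹ • ∑ k, d k with hv
  have h1 : v = d g + σ g v := by
    have h2 : ∑ k, d (g * k) = ∑ k, (d g + σ g (d k)) := Finset.sum_congr rfl fun k _ => hc g k
    have h3 : ∑ k, d (g * k) = ∑ k, d k := Fintype.sum_equiv (Equiv.mulLeft g) _ _ fun k => rfl
    rw [h3, Finset.sum_add_distrib, Finset.sum_const, Finset.card_univ, ← Nat.card_eq_fintype_card,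
      ← map_sum, ← Nat.cast_smul_eq_nsmul F] at h2
    rw [hv, map_smul, h2, smul_add, smul_smul, inv_mul_cancel₀ hF, one_smul, ← h2]
  have h2 : X.j v * s g * (X.j v)⁻¹ = X.j (v - σ g v) * s g := by
    rw [← X.j_neg, mul_assoc, X.conj, hs g, sub_eq_add_neg, X.j_add, map_neg, mul_assoc]
  rw [h2, hd g]
  congr 2
  rw [eq_sub_iff_add_eq]
  exact h1.symm

/-- Conjugation of a section by a vector. -/
def cj {H : Subgroup G} (s : H →* E) (v : V) : H →* E := (MulAut.conj (X.j v)).toMonoidHom.comp s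

theorem cj_apply {H : Subgroup G} (s : H →* E) (v : V) (h : H) : X.cj s v h = X.j v * s h * (X.j v)⁻¹ := rfl

theorem cj_sec {H : Subgroup G} {s : H →* E} (hs : X.IsSec s) (v : V) : X.IsSec (X.cj s v) := by
  intro h
  rw [cj_apply, map_mul, map_mul, map_inv, X.π_j, hs h, one_mul, inv_one, mul_one]

/-- The conjugate of an element by a vector. -/
theorem conj_elt (x : E) (v : V) : X.j v * x * (X.j v)⁻¹ = X.j (v - σ (X.π x) v) * x := by
  rw [← X.j_neg, mul_assoc, X.conj, sub_eq_add_neg, X.j_add, map_neg, mul_assoc]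

/-- Two sections agreeing on a subgroup: the conjugating vector is fixed. -/
theorem fixed_of_agree {x : E} {v : V} (h : X.j v * x * (X.j v)⁻¹ = x) : σ (X.π x) v = v := by
  rw [conj_elt] at h
  have h1 : X.j (v - σ (X.π x) v) = X.j 0 := by
    rw [X.j_zero]; exact mul_eq_right.1 h
  have h2 := X.j_inj h1
  rw [sub_eq_zero] at h2
  exact h2.symm

end Ext

end Cfsg.Agent.H863.SExt
end

-- part: H863/STT
section
set_option linter.all false
open scoped Cfsg.Agent.FastGrp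

/-!
# Subgroups of order `2^a 3^b` (helper863, for S5590)
-/

set_option autoImplicit false
set_option linter.unusedSectionVars false

namespace Cfsg.Agent.H863.STT

variable {G : Type*} [Group G]

theorem card_sup_dvd [Finite G] {H N : Subgroup G} (h : H ≤ Subgroup.normalizer (N : Set G)) :
    Nat.card (H ⊔ N : Subgroup G) ∣ Nat.card N * Nat.card H := by
  let n1 := Subgroup.normal_subgroupOf_of_le_normalizer h
  let n2 := Subgroup.normal_subgroupOf_sup_of_le_normalizer h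
  have e := Nat.card_congr (QuotientGroup.quotientInfEquivProdNormalizerQuotient H N h).toEquiv
  have h1 := Subgroup.card_mul_index (N.subgroupOf (H ⊔ N))
  have h2 : Nat.card (N.subgroupOf (H ⊔ N)) = Nat.card N :=
    Nat.card_congr (Subgroup.subgroupOfEquivOfLe le_sup_right).toEquiv
  rw [← h1, h2]
  apply Nat.mul_dvd_mul_left
  show Nat.card _ ∣ _
  rw [← e]
  exact (N.subgroupOf H).index_dvd_card

/-- `x` normalises `H`. -/
def Nz (H : Subgroup G) (x : G) : Prop := x ∈ Subgroup.normalizer (H : Set G)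

theorem nz_of {H : Subgroup G} [Finite G] {x : G} (h : ∀ y ∈ H, x * y * x⁻¹ ∈ H) : Nz H x := by
  have hle : H.map (MulAut.conj x).toMonoidHom ≤ H := by
    rintro _ ⟨y, hy, rfl⟩
    exact h y hy
  have heq : H.map (MulAut.conj x).toMonoidHom = H := by
    apply Subgroup.eq_of_le_of_card_ge hle
    exact le_of_eq (Nat.card_congr
      (Subgroup.equivMapOfInjective H (MulAut.conj x).toMonoidHom (MulAut.conj x).injective).toEquiv)
  exact Subgroup.mem_normalizer_iff_map_conj_eq.2 heq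

theorem Nz.conj {H : Subgroup G} {x y : G} (h : Nz H x) (hy : y ∈ H) : x * y * x⁻¹ ∈ H :=
  (Subgroup.mem_normalizer_iff.1 h y).1 hy

/-- `{2,3}`-groups. -/
def TT (H : Subgroup G) : Prop := ∃ m n, Nat.card H ∣ 2 ^ m * 3 ^ n

theorem tt_of_isPGroup [Finite G] {H : Subgroup G} (h : IsPGroup 2 H) : TT H := by
  obtain ⟨n, hn⟩ := IsPGroup.iff_card.1 h
  exact ⟨n, 0, by rw [hn, pow_zero, mul_one]⟩

theorem tt_sup [Finite G] {H K : Subgroup G} (hH : TT H) (hK : TT K) (h : H ≤ Subgroup.normalizer (K : Set G)) :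
    TT (H ⊔ K) := by
  obtain ⟨m, n, h1⟩ := hH
  obtain ⟨m', n', h2⟩ := hK
  refine ⟨m' + m, n' + n, (card_sup_dvd h).trans ?_⟩
  have := Nat.mul_dvd_mul h2 h1
  rw [pow_add, pow_add]
  have e : 2 ^ m' * 2 ^ m * (3 ^ n' * 3 ^ n) = 2 ^ m' * 3 ^ n' * (2 ^ m * 3 ^ n) := by ring
  rw [e]
  exact this

theorem tt_zpowers {x : G} {k : ℕ} (hk : k = 2 ∨ k = 3) (h : x ^ k = 1) : TT (Subgroup.zpowers x) := by
  have h1 : Nat.card (Subgroup.zpowers x) ∣ k := by
    rw [Nat.card_zpowers]; exact orderOf_dvd_of_pow_eq_one h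
  rcases hk with rfl | rfl
  · exact ⟨1, 0, by simpa using h1⟩
  · exact ⟨0, 1, by simpa using h1⟩

/-- Adjoining an element of order dividing two or three. -/
theorem tt_adj [Finite G] {H : Subgroup G} (hH : TT H) {x : G} {k : ℕ} (hk : k = 2 ∨ k = 3) (h : x ^ k = 1)
    (hx : Nz H x) : TT (H ⊔ Subgroup.zpowers x) := by
  rw [sup_comm]
  exact tt_sup (tt_zpowers hk h) hH (by rw [Subgroup.zpowers_le]; exact hx)

theorem TT.mono [Finite G] {H K : Subgroup G} (hK : TT K) (h : H ≤ K) : TT H := by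
  obtain ⟨m, n, h1⟩ := hK
  exact ⟨m, n, (Subgroup.card_dvd_of_le h).trans h1⟩

theorem TT.ne_zero {F : Type*} [Field F] (h2 : (2 : F) ≠ 0) (h3 : (3 : F) ≠ 0) {H : Subgroup G} (h : TT H) :
    (Nat.card H : F) ≠ 0 := by
  obtain ⟨m, n, k, hk⟩ := h
  intro h0
  have h4 : ((2 ^ m * 3 ^ n : ℕ) : F) = 0 := by rw [hk, Nat.cast_mul, h0, zero_mul]
  push_cast at h4
  rcases mul_eq_zero.1 h4 with h5 | h5
  · exact pow_ne_zero _ h2 h5
  · exact pow_ne_zero _ h3 h5

/-! ### The big groups -/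

/-- The conjugates of `z` under `H` stay in `A`. -/
theorem orbit {S A : Set G} {z : G} (hz : z ∈ A) (h : ∀ s ∈ S, ∀ a ∈ A, s * a * s⁻¹ ∈ A)
    (h' : ∀ s ∈ S, ∀ a ∈ A, s⁻¹ * a * s ∈ A) : ∀ x ∈ Subgroup.closure S, x * z * x⁻¹ ∈ A := by
  have key : ∀ x ∈ Subgroup.closure S, ∀ a ∈ A, x * a * x⁻¹ ∈ A ∧ x⁻¹ * a * x ∈ A := by
    intro x hx
    induction hx using Subgroup.closure_induction with
    | mem s hs => exact fun a ha => ⟨h s hs a ha, h' s hs a ha⟩
    | one => intro a ha; simpa using ha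
    | mul x y _ _ ihx ihy =>
      intro a ha
      constructor
      · have := (ihx _ (ihy a ha).1).1
        simpa only [mul_inv_rev, mul_assoc] using this
      · have := (ihy _ (ihx a ha).2).2
        simpa only [mul_inv_rev, mul_assoc] using this
    | inv x _ ih =>
      intro a ha
      rw [inv_inv]
      exact ⟨(ih a ha).2, (ih a ha).1⟩
  exact fun x hx => (key x hx z hz).1

/-- The abstract data: `Q` is a 2-group, normalised by the centraliser of `z`. -/
structure QD (G : Type*) [Group G] where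
  Q : Subgroup G
  z : G
  p : IsPGroup 2 Q
  nrm : ∀ g, g * z = z * g → ∀ q ∈ Q, g * q * g⁻¹ ∈ Q

namespace QD

variable (D : QD G) [Finite G]

/-- The centraliser of the conjugates of `z` under `H`. -/
def K (H : Subgroup G) : Subgroup G where
  carrier := {g | ∀ h ∈ H, g * (h * D.z * h⁻¹) = (h * D.z * h⁻¹) * g}
  one_mem' h _ := by rw [one_mul, mul_one]
  mul_mem' {a b} ha hb h hh := by
    rw [mul_assoc, hb h hh, ← mul_assoc, ha h hh, mul_assoc]
  inv_mem' {a} ha h hh := by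
    have := ha h hh
    rw [inv_mul_eq_iff_eq_mul, ← mul_assoc, this, mul_inv_cancel_right]

theorem conj_K {H : Subgroup G} {x : G} (hx : x ∈ H) {g : G} (hg : g ∈ D.K H) : x * g * x⁻¹ ∈ D.K H := by
  intro h hh
  have h1 := hg (x⁻¹ * h) (H.mul_mem (H.inv_mem hx) hh)
  calc x * g * x⁻¹ * (h * D.z * h⁻¹) = x * (g * (x⁻¹ * h * D.z * (x⁻¹ * h)⁻¹)) * x⁻¹ := by group
    _ = x * ((x⁻¹ * h * D.z * (x⁻¹ * h)⁻¹) * g) * x⁻¹ := by rw [h1]
    _ = h * D.z * h⁻¹ * (x * g * x⁻¹) := by group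

/-- The conjugate of `Q ∩ K` by `h`. -/
def N (H : Subgroup G) (h : G) : Subgroup G := D.Q.map (MulAut.conj h).toMonoidHom ⊓ D.K H

theorem mem_N {H : Subgroup G} {h g : G} : g ∈ D.N H h ↔ h⁻¹ * g * h ∈ D.Q ∧ g ∈ D.K H := by
  constructor
  · rintro ⟨⟨q, hq, rfl⟩, hk⟩
    refine ⟨?_, hk⟩
    show h⁻¹ * (h * q * h⁻¹) * h ∈ D.Q
    have e : h⁻¹ * (h * q * h⁻¹) * h = q := by group
    rw [e]
    exact hq
  · rintro ⟨h1, h2⟩
    refine ⟨⟨_, h1, ?_⟩, h2⟩
    show h * (h⁻¹ * g * h) * h⁻¹ = g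
    group

theorem N_p (H : Subgroup G) (h : G) : IsPGroup 2 (D.N H h) :=
  (D.p.map (MulAut.conj h).toMonoidHom).to_le inf_le_left

theorem N_conj {H : Subgroup G} {h g k : G} (hh : h ∈ H) (hk : k ∈ D.K H) (hg : g ∈ D.N H h) :
    k * g * k⁻¹ ∈ D.N H h := by
  rw [mem_N] at hg ⊢
  refine ⟨?_, (D.K H).mul_mem ((D.K H).mul_mem hk hg.2) ((D.K H).inv_mem hk)⟩
  have h1 : (h⁻¹ * k * h) * D.z = D.z * (h⁻¹ * k * h) := by
    have := hk h hh
    calc (h⁻¹ * k * h) * D.z = h⁻¹ * (k * (h * D.z * h⁻¹)) * h := by group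
      _ = h⁻¹ * ((h * D.z * h⁻¹) * k) * h := by rw [this]
      _ = _ := by group
  have h2 := D.nrm _ h1 _ hg.1
  convert h2 using 1
  group

theorem N_norm {H : Subgroup G} {h : G} (hh : h ∈ H) : ((D.N H h).subgroupOf (D.K H)).Normal := by
  refine ⟨fun n hn g => ?_⟩
  rw [Subgroup.mem_subgroupOf] at hn ⊢
  exact D.N_conj hh g.2 hn

/-- The product of the conjugates. -/
def M (H : Subgroup G) : Subgroup G := ⨆ h : H, D.N H h

theorem M_p (H : Subgroup G) : IsPGroup 2 (D.M H) := by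
  have hK : ∀ h : H, D.N H h ≤ D.K H := fun h => inf_le_right
  have hn : ∀ h : H, ((D.N H h).subgroupOf (D.K H)).Normal := fun h => D.N_norm h.2
  have h1 : IsPGroup 2 (⨆ h : H, (D.N H h).subgroupOf (D.K H) : Subgroup (D.K H)) := by
    apply Sylow.iSup_of_normal
    intro h
    exact (D.N_p H h).of_equiv (Subgroup.subgroupOfEquivOfLe (hK h)).symm
  have h2 := h1.map (D.K H).subtype
  rw [Subgroup.map_iSup] at h2
  have h3 : (⨆ h : H, ((D.N H h).subgroupOf (D.K H)).map (D.K H).subtype) = D.M H := by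
    unfold M
    congr 1
    funext h
    rw [Subgroup.subgroupOf_map_subtype, inf_eq_left.2 (hK h)]
  rw [h3] at h2
  exact h2

theorem N_map {H : Subgroup G} {x : G} (hx : x ∈ H) (h : H) :
    (D.N H h).map (MulAut.conj x).toMonoidHom ≤ D.N H (⟨x, hx⟩ * h : H) := by
  rintro _ ⟨g, hg, rfl⟩
  have hg' : g ∈ D.N H h := hg
  show x * g * x⁻¹ ∈ D.N H (x * h)
  rw [mem_N] at hg' ⊢
  refine ⟨?_, D.conj_K hx hg'.2⟩
  convert hg'.1 using 1
  group

theorem M_nz {H : Subgroup G} {x : G} (hx : x ∈ H) : Nz (D.M H) x := by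
  apply nz_of
  intro y hy
  have h1 : (D.M H).map (MulAut.conj x).toMonoidHom ≤ D.M H := by
    unfold M
    rw [Subgroup.map_iSup]
    apply iSup_le
    intro h
    exact (D.N_map hx h).trans (le_iSup (fun h : H => D.N H h) _)
  exact h1 ⟨y, hy, rfl⟩

/-- **The big `{2,3}`-group.** -/
theorem big {H : Subgroup G} (hH : TT H) : ∃ S : Subgroup G, TT S ∧ H ≤ S ∧
    ∀ q ∈ D.Q, (∀ h ∈ H, q * (h * D.z * h⁻¹) = (h * D.z * h⁻¹) * q) → q ∈ S := by
  refine ⟨H ⊔ D.M H, tt_sup hH (tt_of_isPGroup (D.M_p H)) (fun x hx => D.M_nz hx), le_sup_left, ?_⟩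
  intro q hq hk
  have h1 : q ∈ D.N H (1 : H) := by
    rw [mem_N]
    refine ⟨?_, hk⟩
    simpa using hq
  exact (le_iSup (fun h : H => D.N H h) (1 : H)).trans le_sup_right h1

end QD

end Cfsg.Agent.H863.STT
end

-- part: H863/SLift
section
prune_inst 0x100005006400020008000000200000444a00010000400000010008000dc9a60200040000b6d01002109884d460388008131800b04038000020008e00411d00a08cab422222501c0416001f008804000000000000000000000000000000000004000000000
set_option linter.all false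
open scoped Cfsg.Agent.FastGrp

/-!
# Lifting commuting involutions (helper863, for S5590)
-/

set_option autoImplicit false
set_option linter.unusedSectionVars false

namespace Cfsg.Agent.H863.SLift

open Cfsg.Agent.H863.SExt Cfsg.Agent.H863.STT

variable {F V G : Type*} [Field F] [AddCommGroup V] [Module F V] [Group G] [Finite G]
  {σ : G →* Module.End F V} {E : Type*} [Group E] (X : _root_.Cfsg.Agent.H863.SExt.Ext σ E) (D : QD G)

/-- `1 - g` -/
def Δ (σ : G →* Module.End F V) (g : G) (v : V) : V := v - σ g v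

/-- Fixed by `Q`. -/
def InU (σ : G →* Module.End F V) (D : QD G) (v : V) : Prop := ∀ q ∈ D.Q, σ q v = v

theorem InU.add {u v : V} (hu : InU σ D u) (hv : InU σ D v) : InU σ D (u + v) := by
  intro q hq; rw [map_add, hu q hq, hv q hq]

theorem InU.sub {u v : V} (hu : InU σ D u) (hv : InU σ D v) : InU σ D (u - v) := by
  intro q hq; rw [map_sub, hu q hq, hv q hq]

theorem InU.smul {u : V} (c : F) (hu : InU σ D u) : InU σ D (c • u) := by
  intro q hq; rw [map_smul, hu q hq]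

/-- A good lift. -/
def Good (sQ : D.Q →* E) (a : G) (x : E) : Prop :=
  ∃ H : Subgroup G, TT H ∧ ∃ (ha : a ∈ H) (hQ : D.Q ≤ H) (s : H →* E), X.IsSec s ∧
    (∀ q : D.Q, s ⟨q, hQ q.2⟩ = sQ q) ∧ s ⟨a, ha⟩ = x

variable {X D} {sQ : D.Q →* E}

theorem Good.π {a : G} {x : E} (h : Good X D sQ a x) : X.π x = a := by
  obtain ⟨H, -, ha, hQ, s, hs, -, rfl⟩ := h
  exact hs _

theorem Good.conj {a : G} {x : E} (h : Good X D sQ a x) (hQs : X.IsSec sQ) {u : V} (hu : InU σ D u) :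
    Good X D sQ a (X.j u * x * (X.j u)⁻¹) := by
  obtain ⟨H, hH, ha, hQ, s, hs, h1, rfl⟩ := h
  refine ⟨H, hH, ha, hQ, X.cj s u, X.cj_sec hs u, ?_, rfl⟩
  intro q
  rw [X.cj_apply, h1, X.conj_elt, hQs q, hu q q.2, sub_self, X.j_zero, one_mul]

theorem good_exists (h2 : (2 : F) ≠ 0) (h3 : (3 : F) ≠ 0) (hQs : X.IsSec sQ) {H : Subgroup G} (hH : TT H)
    {a : G} (ha : a ∈ H) (hQ : D.Q ≤ H) : ∃ x, Good X D sQ a x := by
  obtain ⟨s, hs⟩ := X.exists_sec H (hH.ne_zero h2 h3)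
  let s₁ : D.Q →* E := s.comp (Subgroup.inclusion hQ)
  have hs₁ : X.IsSec s₁ := fun q => hs _
  obtain ⟨v, hv⟩ := X.conj_sec ((hH.mono hQ).ne_zero h2 h3) hs₁ hQs
  refine ⟨_, H, hH, ha, hQ, X.cj s v, X.cj_sec hs v, ?_, rfl⟩
  intro q
  rw [X.cj_apply, hv]
  rfl

theorem Good.rel {a : G} {x : E} (h : Good X D sQ a x) (q : D.Q) (m : ℕ) (hr : ((q : G) * a) ^ m = 1) :
    (sQ q * x) ^ m = 1 := by
  obtain ⟨H, -, ha, hQ, s, -, h1, rfl⟩ := h
  rw [← h1, ← map_mul, ← map_pow]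
  have : ((⟨q, hQ q.2⟩ : H) * ⟨a, ha⟩) ^ m = 1 := Subtype.ext hr
  rw [this, map_one]

theorem Good.sq {a : G} {x : E} (h : Good X D sQ a x) (hr : a * a = 1) : x * x = 1 := by
  obtain ⟨H, -, ha, hQ, s, -, h1, rfl⟩ := h
  rw [← map_mul]
  have : (⟨a, ha⟩ : H) * ⟨a, ha⟩ = 1 := Subtype.ext hr
  rw [this, map_one]

/-- The pair condition. -/
def Pair (σ : G →* Module.End F V) (D : QD G) (a b : G) : Prop :=
  ∃ S : Subgroup G, TT S ∧ a ∈ S ∧ b ∈ S ∧ ∀ v, (∀ q ∈ D.Q, q ∈ S → σ q v = v) → InU σ D v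

theorem comm_iff (x y : E) (u : V) :
    x * (X.j u * y * (X.j u)⁻¹) = (X.j u * y * (X.j u)⁻¹) * x ↔
      x * y = X.j (Δ σ (X.π x) (Δ σ (X.π y) u)) * (y * x) := by
  set w := Δ σ (X.π y) u with hw
  have h1 : X.j u * y * (X.j u)⁻¹ = X.j w * y := X.conj_elt y u
  rw [h1]
  have h2 : x * (X.j w * y) = X.j (σ (X.π x) w) * (x * y) := by
    rw [← mul_assoc, X.conj, mul_assoc]
  rw [h2]
  have h3 : X.j (Δ σ (X.π x) w) = (X.j (σ (X.π x) w))⁻¹ * X.j w := by
    rw [← X.j_neg, ← X.j_add]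
    congr 1
    unfold Δ
    abel
  have h4 : (X.j (σ (X.π x) w))⁻¹ * X.j w * (y * x) = (X.j (σ (X.π x) w))⁻¹ * (X.j w * y * x) := by
    simp only [mul_assoc]
  rw [h3, h4, eq_inv_mul_iff_mul_eq]

theorem pair (h2 : (2 : F) ≠ 0) (h3 : (3 : F) ≠ 0) (hQs : X.IsSec sQ) {a b : G} {x y : E}
    (hx : Good X D sQ a x) (hy : Good X D sQ b y) (hab : a * b = b * a) (hP : Pair σ D a b) :
    ∃ u, InU σ D u ∧ x * (X.j u * y * (X.j u)⁻¹) = (X.j u * y * (X.j u)⁻¹) * x := by
  obtain ⟨S, hS, haS, hbS, hfix⟩ := hP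
  obtain ⟨s, hs⟩ := X.exists_sec S (hS.ne_zero h2 h3)
  let R : Subgroup G := D.Q ⊓ S
  have hRS : R ≤ S := inf_le_right
  have hRQ : R ≤ D.Q := inf_le_left
  -- adjust the section on `R`
  have hs₁ : X.IsSec (s.comp (Subgroup.inclusion hRS)) := fun q => hs _
  have hs₂ : X.IsSec (sQ.comp (Subgroup.inclusion hRQ)) := fun q => hQs _
  obtain ⟨v, hv⟩ := X.conj_sec ((hS.mono hRS).ne_zero h2 h3) hs₁ hs₂
  have hs' := X.cj_sec hs v
  have key : ∀ (c : G) (w : E), c ∈ S → Good X D sQ c w → ∀ hc : c ∈ S, ∃ r, InU σ D r ∧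
      X.cj s v ⟨c, hc⟩ = X.j r * w * (X.j r)⁻¹ := by
    rintro c w - ⟨H, hH, hcH, hQH, t, ht, h1, rfl⟩ hc
    let T : Subgroup G := S ⊓ H
    have hTS : T ≤ S := inf_le_left
    have hTH : T ≤ H := inf_le_right
    have k1 : X.IsSec (t.comp (Subgroup.inclusion hTH)) := fun q => ht _
    have k2 : X.IsSec ((X.cj s v).comp (Subgroup.inclusion hTS)) := fun q => hs' _
    obtain ⟨r, hr⟩ := X.conj_sec ((hS.mono hTS).ne_zero h2 h3) k1 k2
    refine ⟨r, ?_, hr ⟨c, ⟨hc, hcH⟩⟩⟩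
    apply hfix
    intro q hq hqS
    have h4 := hr ⟨q, ⟨hqS, hQH hq⟩⟩
    have h5 : t ⟨q, hQH hq⟩ = sQ ⟨q, hq⟩ := h1 ⟨q, hq⟩
    have h6 : X.cj s v ⟨q, hqS⟩ = sQ ⟨q, hq⟩ := (hv ⟨q, ⟨hq, hqS⟩⟩).symm
    have h7 : X.j r * t ⟨q, hQH hq⟩ * (X.j r)⁻¹ = t ⟨q, hQH hq⟩ := by
      have h8 : X.cj s v ⟨q, hqS⟩ = X.j r * t ⟨q, hQH hq⟩ * (X.j r)⁻¹ := h4
      exact h8.symm.trans (h6.trans h5.symm)
    have h8 := X.fixed_of_agree h7
    have h9 : X.π (t ⟨q, hQH hq⟩) = q := ht _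
    rw [h9] at h8
    exact h8
  obtain ⟨r, hr, h4⟩ := key a x haS hx haS
  obtain ⟨r', hr', h5⟩ := key b y hbS hy hbS
  refine ⟨r' - r, hr'.sub D hr, ?_⟩
  have h6 : X.cj s v ⟨a, haS⟩ * X.cj s v ⟨b, hbS⟩ = X.cj s v ⟨b, hbS⟩ * X.cj s v ⟨a, haS⟩ := by
    rw [← map_mul, ← map_mul]
    congr 1
    exact Subtype.ext hab
  rw [h4, h5] at h6
  have h7 : X.j (r' - r) = (X.j r)⁻¹ * X.j r' := by
    rw [← X.j_neg, ← X.j_add]; congr 1; abel
  rw [h7]
  have h8 := congrArg (fun g => (X.j r)⁻¹ * g * X.j r) h6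
  simp only [mul_assoc, inv_mul_cancel_left, inv_mul_cancel, mul_one] at h8
  simp only [mul_assoc, mul_inv_rev, inv_inv]
  exact h8

/-- Invariance of the obstruction. -/
theorem obs_fixed {x y w : E} {v : V} (h : x * y = X.j v * (y * x)) (hx : w * x = x * w) (hy : w * y = y * w) :
    Δ σ (X.π w) v = 0 := by
  have h1 : w * (x * y) = (x * y) * w := by rw [← mul_assoc, hx, mul_assoc, hy, mul_assoc]
  have h2 : w * (y * x) = (y * x) * w := by rw [← mul_assoc, hy, mul_assoc, hx, mul_assoc]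
  have h3 : w * (X.j v * (y * x)) = X.j (σ (X.π w) v) * (y * x) * w := by
    rw [← mul_assoc, X.conj, mul_assoc, h2, ← mul_assoc]
  rw [← h, h1, h] at h3
  have h4 : X.j v = X.j (σ (X.π w) v) := mul_right_cancel (mul_right_cancel h3)
  unfold Δ
  rw [← X.j_inj h4, sub_self]

variable (σ D)

/-- The kernel condition. -/
def Kc (t5 : G) (I : V) (a b : G) : Prop :=
  ∀ u, InU σ D u → Δ σ t5 (Δ σ a (Δ σ b u)) = 0 → ∃ c : F, Δ σ a (Δ σ b u) = Δ σ a (Δ σ b (c • I))

variable {σ D}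

/-- Adjusting by a multiple of `I`. -/
theorem adj (h2 : (2 : F) ≠ 0) (h3 : (3 : F) ≠ 0) (hQs : X.IsSec sQ) {t5 a b : G} {I : V} (hI : InU σ D I)
    (hI5 : σ t5 I = I) {x5 x y : E} (h5 : Good X D sQ t5 x5) (hx : Good X D sQ a x) (hy : Good X D sQ b y)
    (hab : a * b = b * a) (hP : Pair σ D a b) (hK : Kc σ D t5 I a b) (h5x : x5 * x = x * x5)
    (h5y : x5 * y = y * x5) :
    ∃ c : F, let y' := X.j (c • I) * y * (X.j (c • I))⁻¹
      Good X D sQ b y' ∧ x5 * y' = y' * x5 ∧ x * y' = y' * x := by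
  obtain ⟨u, hu, hc⟩ := pair h2 h3 hQs hx hy hab hP
  rw [comm_iff, hx.π, hy.π] at hc
  have h6 := obs_fixed hc h5x h5y
  rw [h5.π] at h6
  obtain ⟨c, hc'⟩ := hK u hu h6
  refine ⟨c, hy.conj hQs (hI.smul D c), ?_, ?_⟩
  · have h7 : x5 * X.j (c • I) = X.j (c • I) * x5 := by
      rw [X.conj, h5.π, map_smul, hI5]
    have h8 : x5 * (X.j (c • I))⁻¹ = (X.j (c • I))⁻¹ * x5 := by
      rw [eq_inv_mul_iff_mul_eq, ← mul_assoc, ← h7, mul_inv_cancel_right]
    calc x5 * (X.j (c • I) * y * (X.j (c • I))⁻¹) = x5 * X.j (c • I) * y * (X.j (c • I))⁻¹ := by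
          simp only [mul_assoc]
      _ = X.j (c • I) * (x5 * y) * (X.j (c • I))⁻¹ := by rw [h7]; simp only [mul_assoc]
      _ = X.j (c • I) * y * (x5 * (X.j (c • I))⁻¹) := by rw [h5y]; simp only [mul_assoc]
      _ = _ := by rw [h8]; simp only [mul_assoc]
  · rw [comm_iff, hx.π, hy.π, hc, hc']

/-- Commutation when a third involution kills the obstruction. -/
theorem third (h2 : (2 : F) ≠ 0) (h3 : (3 : F) ≠ 0) (hQs : X.IsSec sQ) {t5 t1 a b : G} {I : V}
    {x5 x1 x y : E} (h5 : Good X D sQ t5 x5) (h1 : Good X D sQ t1 x1) (hx : Good X D sQ a x)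
    (hy : Good X D sQ b y) (hab : a * b = b * a) (hP : Pair σ D a b) (hK : Kc σ D t5 I a b)
    (h5x : x5 * x = x * x5) (h5y : x5 * y = y * x5) (h1x : x1 * x = x * x1) (h1y : x1 * y = y * x1)
    (hN : Δ σ t1 (Δ σ a (Δ σ b I)) ≠ 0) : x * y = y * x := by
  obtain ⟨u, hu, hc⟩ := pair h2 h3 hQs hx hy hab hP
  rw [comm_iff, hx.π, hy.π] at hc
  have h6 := obs_fixed hc h5x h5y
  rw [h5.π] at h6
  obtain ⟨c, hc'⟩ := hK u hu h6
  have h7 := obs_fixed hc h1x h1y
  rw [h1.π, hc'] at h7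
  have h8 : ∀ (g : G) (v : V), Δ σ g (c • v) = c • Δ σ g v := fun g v => by
    unfold Δ; rw [map_smul, smul_sub]
  rw [h8, h8, h8] at h7
  have h9 : c = 0 := by
    rcases smul_eq_zero.1 h7 with h | h
    · exact h
    · exact absurd h hN
  rw [hc', h9, zero_smul] at hc
  have h10 : ∀ g : G, Δ σ g (0 : V) = 0 := fun g => by unfold Δ; rw [map_zero, sub_zero]
  rw [h10, h10, X.j_zero, one_mul] at hc
  exact hc

/-- **The lifts of the five even generators.** -/
theorem five (h2 : (2 : F) ≠ 0) (h3 : (3 : F) ≠ 0) (hQs : X.IsSec sQ) {t1 t3 t5 t7 t10 : G} {I : V}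
    (hI : InU σ D I) (hI5 : σ t5 I = I)
    (g : ∀ a ∈ ({t1, t3, t5, t7, t10} : Set G), ∃ x, Good X D sQ a x)
    (c53 : t5 * t3 = t3 * t5) (c51 : t5 * t1 = t1 * t5) (c57 : t5 * t7 = t7 * t5) (c510 : t5 * t10 = t10 * t5)
    (c13 : t1 * t3 = t3 * t1) (c17 : t1 * t7 = t7 * t1) (c110 : t1 * t10 = t10 * t1)
    (c37 : t3 * t7 = t7 * t3) (c310 : t3 * t10 = t10 * t3) (c710 : t7 * t10 = t10 * t7)
    (p53 : Pair σ D t5 t3) (p51 : Pair σ D t5 t1) (p57 : Pair σ D t5 t7) (p510 : Pair σ D t5 t10)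
    (p13 : Pair σ D t1 t3) (p17 : Pair σ D t1 t7) (p110 : Pair σ D t1 t10)
    (p37 : Pair σ D t3 t7) (p310 : Pair σ D t3 t10) (p710 : Pair σ D t7 t10)
    (k13 : Kc σ D t5 I t1 t3) (k17 : Kc σ D t5 I t1 t7) (k110 : Kc σ D t5 I t1 t10)
    (k37 : Kc σ D t5 I t3 t7) (k310 : Kc σ D t5 I t3 t10) (k710 : Kc σ D t5 I t7 t10)
    (n37 : Δ σ t1 (Δ σ t3 (Δ σ t7 I)) ≠ 0) (n310 : Δ σ t1 (Δ σ t3 (Δ σ t10 I)) ≠ 0)
    (n710 : Δ σ t1 (Δ σ t7 (Δ σ t10 I)) ≠ 0) :
    ∃ x1 x3 x5 x7 x10 : E, Good X D sQ t1 x1 ∧ Good X D sQ t3 x3 ∧ Good X D sQ t5 x5 ∧ Good X D sQ t7 x7 ∧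
      Good X D sQ t10 x10 ∧ x1 * x3 = x3 * x1 ∧ x1 * x5 = x5 * x1 ∧ x1 * x7 = x7 * x1 ∧ x1 * x10 = x10 * x1 ∧
      x3 * x5 = x5 * x3 ∧ x3 * x7 = x7 * x3 ∧ x3 * x10 = x10 * x3 ∧ x5 * x7 = x7 * x5 ∧ x5 * x10 = x10 * x5 ∧
      x7 * x10 = x10 * x7 := by
  obtain ⟨x5, g5⟩ := g t5 (by simp)
  obtain ⟨y1, g1⟩ := g t1 (by simp)
  obtain ⟨y3, g3⟩ := g t3 (by simp)
  obtain ⟨y7, g7⟩ := g t7 (by simp)
  obtain ⟨y10, g10⟩ := g t10 (by simp)
  obtain ⟨u1, hu1, e1⟩ := pair h2 h3 hQs g5 g1 c51 p51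
  obtain ⟨u3, hu3, e3⟩ := pair h2 h3 hQs g5 g3 c53 p53
  obtain ⟨u7, hu7, e7⟩ := pair h2 h3 hQs g5 g7 c57 p57
  obtain ⟨u10, hu10, e10⟩ := pair h2 h3 hQs g5 g10 c510 p510
  have G1 := g1.conj hQs hu1
  have G3 := g3.conj hQs hu3
  have G7 := g7.conj hQs hu7
  have G10 := g10.conj hQs hu10
  set x1 := X.j u1 * y1 * (X.j u1)⁻¹
  set z3 := X.j u3 * y3 * (X.j u3)⁻¹
  set z7 := X.j u7 * y7 * (X.j u7)⁻¹
  set z10 := X.j u10 * y10 * (X.j u10)⁻¹
  obtain ⟨a3, H3, f3, m3⟩ := adj h2 h3 hQs hI hI5 g5 G1 G3 c13 p13 k13 e1 e3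
  obtain ⟨a7, H7, f7, m7⟩ := adj h2 h3 hQs hI hI5 g5 G1 G7 c17 p17 k17 e1 e7
  obtain ⟨a10, H10, f10, m10⟩ := adj h2 h3 hQs hI hI5 g5 G1 G10 c110 p110 k110 e1 e10
  exact ⟨x1, _, x5, _, _, G1, H3, g5, H7, H10, m3, e1.symm, m7, m10, f3.symm,
    third h2 h3 hQs g5 G1 H3 H7 c37 p37 k37 f3 f7 m3 m7 n37,
    third h2 h3 hQs g5 G1 H3 H10 c310 p310 k310 f3 f10 m3 m10 n310, f7, f10,
    third h2 h3 hQs g5 G1 H7 H10 c710 p710 k710 f7 f10 m7 m10 n710⟩

end Cfsg.Agent.H863.SLift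
end

-- part: H863/STT2
section
set_option linter.all false
open scoped Cfsg.Agent.FastGrp

/-!
# The `{2,3}`-groups generated by involutions and parts of `Q` (helper863, for S5590)
-/

set_option autoImplicit false
set_option linter.unusedSectionVars false

namespace Cfsg.Agent.H863.STT

variable {G : Type*} [Group G] [Finite G]

theorem closure_insert (T : Set G) (x : G) :
    Subgroup.closure (insert x T) = Subgroup.closure T ⊔ Subgroup.zpowers x := by
  rw [Set.insert_eq, Subgroup.closure_union, Subgroup.zpowers_eq_closure, sup_comm]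

theorem nz_closure {T : Set G} {x : G} (h : ∀ t ∈ T, x * t * x⁻¹ ∈ Subgroup.closure T) :
    Nz (Subgroup.closure T) x := by
  apply nz_of
  intro y hy
  have h1 : (Subgroup.closure T).map (MulAut.conj x).toMonoidHom ≤ Subgroup.closure T := by
    rw [MonoidHom.map_closure, Subgroup.closure_le]
    rintro _ ⟨t, ht, rfl⟩
    exact h t ht
  exact h1 ⟨y, hy, rfl⟩

theorem tt_ins {T : Set G} (hT : TT (Subgroup.closure T)) {x : G} {k : ℕ} (hk : k = 2 ∨ k = 3)
    (hx : x ^ k = 1) (hn : ∀ t ∈ T, x * t * x⁻¹ ∈ Subgroup.closure T) : TT (Subgroup.closure (insert x T)) := by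
  rw [closure_insert]
  exact tt_adj hT hk hx (nz_closure hn)

theorem tt_one {x : G} {k : ℕ} (hk : k = 2 ∨ k = 3) (hx : x ^ k = 1) : TT (Subgroup.closure {x}) := by
  rw [← Subgroup.zpowers_eq_closure]
  exact tt_zpowers hk hx

theorem inv_of_sq {x : G} (h : x * x = 1) : x⁻¹ = x := inv_eq_of_mul_eq_one_left h

theorem cube_of_braid {x y : G} (hx : x * x = 1) (hy : y * y = 1) (h : x * y * x = y * x * y) :
    (x * y) ^ 3 = 1 := by
  calc (x * y) ^ 3 = (x * y * x) * (y * x * y) := by rw [pow_succ, pow_two]; simp only [mul_assoc]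
    _ = (y * x * y) * (y * x * y) := by rw [h]
    _ = y * x * (y * y) * x * y := by simp only [mul_assoc]
    _ = y * (x * x) * y := by rw [hy]; simp only [mul_assoc, one_mul]
    _ = 1 := by rw [hx, mul_one, hy]

/-- Conjugation of the identities by an involution. -/
theorem cj_mul {a : G} (ha : a * a = 1) (x y : G) : a * (x * y) * a = (a * x * a) * (a * y * a) := by
  have : (a * x * a) * (a * y * a) = a * x * (a * a) * y * a := by simp only [mul_assoc]
  rw [this, ha, mul_one]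
  simp only [mul_assoc]

theorem cj_cj {a : G} (ha : a * a = 1) (x : G) : a * (a * x * a) * a = x := by
  have : a * (a * x * a) * a = (a * a) * x * (a * a) := by simp only [mul_assoc]
  rw [this, ha, one_mul, mul_one]

namespace QD

variable (D : QD G)

/-- The group generated by `Q`, `a`, where `o ∈ Q` is braided with `a`. -/
theorem single {a o : G} (ha : a * a = 1) (ho : o * o = 1) (hoQ : o ∈ D.Q) (hb : a * o * a = o * a * o)
    (hz2 : D.z * D.z = 1) (hQz : ∀ q ∈ D.Q, q * D.z = D.z * q)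
    (hz : D.z * (a * D.z * a) = (a * D.z * a) * D.z)
    (hza : ∀ q ∈ D.Q, q * (a * D.z * a) = (a * D.z * a) * q ∨ q * (a * D.z * a) = D.z * (a * D.z * a) * q)
    (ho' : o * (a * D.z * a) = D.z * (a * D.z * a) * o) :
    ∃ S : Subgroup G, TT S ∧ a ∈ S ∧ D.Q ≤ S := by
  obtain ⟨za, hzad⟩ : ∃ x, x = a * D.z * a := ⟨_, rfl⟩
  rw [← hzad] at hz hza ho'
  let T : Set G := {o, a * o}
  have hTT : TT (Subgroup.closure T) := by
    apply tt_ins (k := 2) (tt_one (k := 3) (Or.inr rfl) (cube_of_braid ha ho hb)) (Or.inl rfl)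
    · rw [pow_two, ho]
    · rintro t rfl
      rw [inv_of_sq ho]
      have : o * (a * o) * o = (a * o)⁻¹ := by
        rw [mul_inv_rev, inv_of_sq ho, inv_of_sq ha, mul_assoc, mul_assoc, ho, mul_one]
      rw [this]
      exact Subgroup.inv_mem _ (Subgroup.subset_closure rfl)
  have hoT : o ∈ Subgroup.closure T := Subgroup.subset_closure (Set.mem_insert _ _)
  have haT : a ∈ Subgroup.closure T := by
    have h1 : a * o ∈ Subgroup.closure T := Subgroup.subset_closure (Set.mem_insert_of_mem _ rfl)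
    have h2 := Subgroup.mul_mem _ h1 hoT
    rwa [mul_assoc, ho, mul_one] at h2
  obtain ⟨S, hS, hTS, hq⟩ := D.big hTT
  refine ⟨S, hS, hTS haT, ?_⟩
  let A : Set G := {D.z, za, D.z * za}
  have hoz : o * D.z * o = D.z := by rw [hQz o hoQ, mul_assoc, ho, mul_one]
  have ho2 : o * za * o = D.z * za := by rw [ho', mul_assoc, ho, mul_one]
  have aza : a * za * a = D.z := by rw [hzad]; exact cj_cj ha _
  have hA : ∀ x ∈ Subgroup.closure ({a, o} : Set G), x * D.z * x⁻¹ ∈ A := by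
    have keya : ∀ y ∈ A, a * y * a ∈ A := by
      rintro y (rfl | rfl | rfl)
      · right; left; exact hzad.symm
      · left; exact aza
      · right; right
        show a * (D.z * za) * a = D.z * za
        rw [cj_mul ha, aza, ← hzad, hz]
    have keyo : ∀ y ∈ A, o * y * o ∈ A := by
      rintro y (rfl | rfl | rfl)
      · left; exact hoz
      · right; right; exact ho2
      · right; left
        rw [cj_mul ho, hoz, ho2, ← mul_assoc, hz2, one_mul]
    have key : ∀ s ∈ ({a, o} : Set G), ∀ y ∈ A, s * y * s ∈ A := by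
      rintro s (rfl | rfl)
      · exact keya
      · exact keyo
    have inv : ∀ s ∈ ({a, o} : Set G), s⁻¹ = s := by
      rintro s (rfl | rfl)
      · exact inv_of_sq ha
      · exact inv_of_sq ho
    exact orbit (Or.inl rfl) (fun s hs y hy => by rw [inv s hs]; exact key s hs y hy)
      (fun s hs y hy => by rw [inv s hs]; exact key s hs y hy)
  have hle : Subgroup.closure T ≤ Subgroup.closure ({a, o} : Set G) := by
    rw [Subgroup.closure_le]
    rintro t (rfl | rfl)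
    · exact Subgroup.subset_closure (Set.mem_insert_of_mem _ rfl)
    · exact Subgroup.mul_mem _ (Subgroup.subset_closure (Set.mem_insert _ _))
        (Subgroup.subset_closure (Set.mem_insert_of_mem _ rfl))
  have hq' : ∀ q ∈ D.Q, q * za = za * q → q ∈ S := by
    intro q hqQ hqa
    apply hq q hqQ
    intro h hh
    have h1 := hA h (hle hh)
    rcases h1 with h1 | h1 | h1
    · rw [h1]; exact hQz q hqQ
    · rw [h1]; exact hqa
    · rw [Set.mem_singleton_iff.1 h1, ← mul_assoc, hQz q hqQ, mul_assoc, hqa, mul_assoc]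
  intro q hqQ
  rcases hza q hqQ with h | h
  · exact hq' q hqQ h
  · have h1 : o * q ∈ S := by
      apply hq' _ (D.Q.mul_mem hoQ hqQ)
      calc o * q * za = o * (q * za) := mul_assoc _ _ _
        _ = (o * D.z) * za * q := by rw [h]; simp only [mul_assoc]
        _ = D.z * (o * za) * q := by rw [hQz o hoQ]; simp only [mul_assoc]
        _ = (D.z * D.z) * za * (o * q) := by rw [ho']; simp only [mul_assoc]
        _ = za * (o * q) := by rw [hz2, one_mul]
    have h2 := S.mul_mem (hTS hoT) h1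
    rwa [← mul_assoc, ho, one_mul] at h2

/-- The group generated by a part of `Q` and two commuting involutions. -/
theorem double {a b r : G} (ha : a * a = 1) (hb : b * b = 1) (hr : r * r = 1) (hab : a * b = b * a)
    (hz2 : D.z * D.z = 1) (hQz : ∀ q ∈ D.Q, q * D.z = D.z * q) (hrz : r * D.z = D.z * r)
    (hz : D.z * (a * b * D.z * b * a) = (a * b * D.z * b * a) * D.z)
    (k1 : r * (a * D.z * a) = (a * D.z * a) * r) (k2 : r * (b * D.z * b) = (b * D.z * b) * r)
    (k3 : r * (a * b * D.z * b * a) = D.z * (a * b * D.z * b * a) * r)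
    (m1 : r * (a * r * a) = (a * r * a) * r) (m2 : r * (b * r * b) = (b * r * b) * r)
    (m3 : r * (a * b * r * b * a) * r = (a * b * r * b * a) * r * (a * b * r * b * a)) :
    ∃ S : Subgroup G, TT S ∧ a ∈ S ∧ b ∈ S ∧ r ∈ S ∧
      ∀ q ∈ D.Q, q * (a * D.z * a) = (a * D.z * a) * q → q * (b * D.z * b) = (b * D.z * b) * q →
        q * (a * b * D.z * b * a) = (a * b * D.z * b * a) * q → q ∈ S := by
  have e1 : ∀ x : G, a * b * x * b * a = a * (b * x * b) * a := fun x => by simp only [mul_assoc]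
  have e2 : ∀ x : G, b * (a * x * a) * b = a * (b * x * b) * a := fun x => by
    calc b * (a * x * a) * b = (b * a) * x * (a * b) := by simp only [mul_assoc]
      _ = (a * b) * x * (b * a) := by rw [hab]
      _ = _ := by simp only [mul_assoc]
  simp only [e1] at hz k3 m3 ⊢
  obtain ⟨zb, hzb⟩ : ∃ x, x = b * D.z * b := ⟨_, rfl⟩
  obtain ⟨rb, hrb⟩ : ∃ x, x = b * r * b := ⟨_, rfl⟩
  rw [← hzb] at hz k2 k3 ⊢
  rw [← hrb] at m2 m3
  obtain ⟨za, hza⟩ : ∃ x, x = a * D.z * a := ⟨_, rfl⟩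
  obtain ⟨zy, hzy⟩ : ∃ x, x = a * zb * a := ⟨_, rfl⟩
  obtain ⟨ra, hra⟩ : ∃ x, x = a * r * a := ⟨_, rfl⟩
  obtain ⟨ry, hry⟩ : ∃ x, x = a * rb * a := ⟨_, rfl⟩
  rw [← hza] at k1 ⊢
  rw [← hzy] at hz k3 ⊢
  rw [← hra] at m1
  rw [← hry] at m3
  -- conjugations
  have aza : a * za * a = D.z := by rw [hza]; exact cj_cj ha _
  have azy : a * zy * a = zb := by rw [hzy]; exact cj_cj ha _
  have bzb : b * zb * b = D.z := by rw [hzb]; exact cj_cj hb _
  have bza : b * za * b = zy := by rw [hza, hzy, hzb]; exact e2 _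
  have bzy : b * zy * b = za := by rw [← bza]; exact cj_cj hb za
  have ara : a * ra * a = r := by rw [hra]; exact cj_cj ha r
  have ary : a * ry * a = rb := by rw [hry]; exact cj_cj ha rb
  have brb : b * rb * b = r := by rw [hrb]; exact cj_cj hb r
  have bra : b * ra * b = ry := by rw [hra, hry, hrb]; exact e2 r
  have bry : b * ry * b = ra := by rw [← bra]; exact cj_cj hb ra
  have ra2 : ra * ra = 1 := by rw [hra, ← cj_mul ha, hr, mul_one, ha]
  have rb2 : rb * rb = 1 := by rw [hrb, ← cj_mul hb, hr, mul_one, hb]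
  have ry2 : ry * ry = 1 := by rw [hry, ← cj_mul ha, rb2, mul_one, ha]
  have c1 : ra * ry = ry * ra := by
    have := congrArg (fun g => a * g * a) m2
    simp only [cj_mul ha] at this
    rw [← hra, ← hry] at this
    exact this
  have c2 : rb * ry = ry * rb := by
    have := congrArg (fun g => b * g * b) m1
    simp only [cj_mul hb, bra] at this
    rw [← hrb] at this
    exact this
  have zab : za * zb = zb * za := by
    have := congrArg (fun g => a * g * a) hz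
    simp only [cj_mul ha, azy] at this
    rw [← hza] at this
    exact this
  obtain ⟨s1, hs1⟩ : ∃ x, x = r * ry := ⟨_, rfl⟩
  obtain ⟨s2, hs2⟩ : ∃ x, x = ra * rb := ⟨_, rfl⟩
  have s1i : s1⁻¹ = ry * r := by rw [hs1, mul_inv_rev, inv_of_sq hr, inv_of_sq ry2]
  have s2i : s2⁻¹ = rb * ra := by rw [hs2, mul_inv_rev, inv_of_sq ra2, inv_of_sq rb2]
  have as1 : a * s1 * a = s2 := by rw [hs1, hs2, cj_mul ha, ary, ← hra]
  have as2 : a * s2 * a = s1 := by rw [hs1, hs2, cj_mul ha, ara, ← hry]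
  have s1c : s1 ^ 3 = 1 := by rw [hs1]; exact cube_of_braid hr ry2 m3
  have s2c : s2 ^ 3 = 1 := by
    have h1 : s2 ^ 3 = a * s1 ^ 3 * a := by
      rw [pow_succ, pow_two, pow_succ, pow_two, cj_mul ha, cj_mul ha, as1]
    rw [h1, s1c, mul_one, ha]
  have M1 : Commute r ra := m1
  have M2 : Commute r rb := m2
  have C1 : Commute ra ry := c1
  have C2 : Commute rb ry := c2
  have cm : ∀ {x y : G}, Commute x y → x * y * x⁻¹ = y := fun {x y} h => by
    rw [h.eq, mul_inv_cancel_right]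
  have r12 : Commute r s2 := by rw [hs2]; exact M1.mul_right M2
  have ra1 : Commute ra s1 := by rw [hs1]; exact M1.symm.mul_right C1
  have rb1 : Commute rb s1 := by rw [hs1]; exact M2.symm.mul_right C2
  have s21 : Commute s2 s1 := by rw [hs2]; exact ra1.mul_left rb1
  -- the small group
  have t1 : TT (Subgroup.closure ({s1} : Set G)) := tt_one (Or.inr rfl) s1c
  have t2 : TT (Subgroup.closure ({s2, s1} : Set G)) := by
    apply tt_ins (k := 3) t1 (Or.inr rfl) s2c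
    rintro t rfl
    rw [cm s21]
    exact Subgroup.subset_closure rfl
  have t3 : TT (Subgroup.closure ({r, s2, s1} : Set G)) := by
    apply tt_ins (k := 2) t2 (Or.inl rfl) (by rw [pow_two, hr])
    rintro t (rfl | rfl)
    · rw [cm r12]
      exact Subgroup.subset_closure (Set.mem_insert _ _)
    · have h1 : r * t * r⁻¹ = t⁻¹ := by
        rw [s1i, hs1, inv_of_sq hr, ← mul_assoc, hr, one_mul]
      rw [h1]
      exact Subgroup.inv_mem _ (Subgroup.subset_closure (Set.mem_insert_of_mem _ rfl))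
  have t4 : TT (Subgroup.closure ({ra, r, s2, s1} : Set G)) := by
    apply tt_ins (k := 2) t3 (Or.inl rfl) (by rw [pow_two, ra2])
    rintro t (rfl | rfl | rfl)
    · rw [cm M1.symm]
      exact Subgroup.subset_closure (Set.mem_insert _ _)
    · have h1 : ra * t * ra⁻¹ = t⁻¹ := by
        rw [s2i, hs2, inv_of_sq ra2, ← mul_assoc, ra2, one_mul]
      rw [h1]
      exact Subgroup.inv_mem _ (Subgroup.subset_closure (Set.mem_insert_of_mem _ (Set.mem_insert _ _)))
    · rw [cm ra1]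
      exact Subgroup.subset_closure (Set.mem_insert_of_mem _ (Set.mem_insert_of_mem _ rfl))
  have i1 : s1 ∈ Subgroup.closure ({ra, r, s2, s1} : Set G) :=
    Subgroup.subset_closure (by simp)
  have i2 : s2 ∈ Subgroup.closure ({ra, r, s2, s1} : Set G) :=
    Subgroup.subset_closure (by simp)
  have i3 : r ∈ Subgroup.closure ({ra, r, s2, s1} : Set G) :=
    Subgroup.subset_closure (by simp)
  have i4 : ra ∈ Subgroup.closure ({ra, r, s2, s1} : Set G) :=
    Subgroup.subset_closure (by simp)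
  have i5 : rb ∈ Subgroup.closure ({ra, r, s2, s1} : Set G) := by
    have : rb = ra * s2 := by rw [hs2, ← mul_assoc, ra2, one_mul]
    rw [this]
    exact Subgroup.mul_mem _ i4 i2
  have i6 : ry ∈ Subgroup.closure ({ra, r, s2, s1} : Set G) := by
    have : ry = r * s1 := by rw [hs1, ← mul_assoc, hr, one_mul]
    rw [this]
    exact Subgroup.mul_mem _ i3 i1
  have t5 : TT (Subgroup.closure ({a, ra, r, s2, s1} : Set G)) := by
    apply tt_ins (k := 2) t4 (Or.inl rfl) (by rw [pow_two, ha])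
    rintro t (rfl | rfl | rfl | rfl)
    · rw [inv_of_sq ha, ara]; exact i3
    · rw [inv_of_sq ha, ← hra]; exact i4
    · rw [inv_of_sq ha, as2]; exact i1
    · rw [inv_of_sq ha, as1]; exact i2
  have up : Subgroup.closure ({ra, r, s2, s1} : Set G) ≤ Subgroup.closure ({a, ra, r, s2, s1} : Set G) :=
    Subgroup.closure_mono (Set.subset_insert _ _)
  have t6 : TT (Subgroup.closure ({b, a, ra, r, s2, s1} : Set G)) := by
    apply tt_ins (k := 2) t5 (Or.inl rfl) (by rw [pow_two, hb])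
    rintro t (rfl | rfl | rfl | rfl | rfl)
    · rw [← hab, mul_inv_cancel_right]
      exact Subgroup.subset_closure (Set.mem_insert _ _)
    · rw [inv_of_sq hb, bra]; exact up i6
    · rw [inv_of_sq hb, ← hrb]; exact up i5
    · have e3 : b * t * b⁻¹ = ry * r := by rw [inv_of_sq hb, hs2, cj_mul hb, bra, brb]
      rw [e3]
      exact up (Subgroup.mul_mem _ i6 i3)
    · have e3 : b * t * b⁻¹ = rb * ra := by rw [inv_of_sq hb, hs1, cj_mul hb, bry, ← hrb]
      rw [e3]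
      exact up (Subgroup.mul_mem _ i5 i4)
  obtain ⟨S, hS, hTS, hq⟩ := D.big t6
  refine ⟨S, hS, hTS (Subgroup.subset_closure (by simp)), hTS (Subgroup.subset_closure (by simp)),
    hTS (Subgroup.subset_closure (by simp)), ?_⟩
  let A : Set G := {D.z, za, zb, zy, D.z * zy, za * zb}
  have hrc : ∀ x : G, r * x = x * r → r * x * r = x := fun x hx => by rw [hx, mul_assoc, hr, mul_one]
  have hry' : r * zy * r = D.z * zy := by rw [k3, mul_assoc, hr, mul_one]
  have hA : ∀ x ∈ Subgroup.closure ({a, b, r} : Set G), x * D.z * x⁻¹ ∈ A := by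
    have keya : ∀ y ∈ A, a * y * a ∈ A := by
      rintro y (rfl | rfl | rfl | rfl | rfl | rfl)
      · right; left; exact hza.symm
      · left; exact aza
      · right; right; right; left; exact hzy.symm
      · right; right; left; exact azy
      · right; right; right; right; right
        show a * (D.z * zy) * a = za * zb
        rw [cj_mul ha, azy, ← hza]
      · right; right; right; right; left
        rw [cj_mul ha, aza, ← hzy]
    have keyb : ∀ y ∈ A, b * y * b ∈ A := by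
      rintro y (rfl | rfl | rfl | rfl | rfl | rfl)
      · right; right; left; exact hzb.symm
      · right; right; right; left; exact bza
      · left; exact bzb
      · right; left; exact bzy
      · right; right; right; right; right
        show b * (D.z * zy) * b = za * zb
        rw [cj_mul hb, bzy, ← hzb, zab]
      · right; right; right; right; left
        rw [cj_mul hb, bza, bzb, hz]
    have keyr : ∀ y ∈ A, r * y * r ∈ A := by
      rintro y (rfl | rfl | rfl | rfl | rfl | rfl)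
      · left; exact hrc _ hrz
      · right; left; exact hrc _ k1
      · right; right; left; exact hrc _ k2
      · right; right; right; right; left; exact hry'
      · right; right; right; left
        rw [cj_mul hr, hrc _ hrz, hry', ← mul_assoc, hz2, one_mul]
      · right; right; right; right; right
        show r * (za * zb) * r = za * zb
        rw [cj_mul hr, hrc _ k1, hrc _ k2]
    have key : ∀ s ∈ ({a, b, r} : Set G), ∀ y ∈ A, s * y * s ∈ A := by
      rintro s (rfl | rfl | rfl)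
      · exact keya
      · exact keyb
      · exact keyr
    have inv : ∀ s ∈ ({a, b, r} : Set G), s⁻¹ = s := by
      rintro s (rfl | rfl | rfl)
      · exact inv_of_sq ha
      · exact inv_of_sq hb
      · exact inv_of_sq hr
    exact orbit (Or.inl rfl) (fun s hs y hy => by rw [inv s hs]; exact key s hs y hy)
      (fun s hs y hy => by rw [inv s hs]; exact key s hs y hy)
  have hle : Subgroup.closure ({b, a, ra, r, s2, s1} : Set G) ≤ Subgroup.closure ({a, b, r} : Set G) := by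
    have ia : a ∈ Subgroup.closure ({a, b, r} : Set G) := Subgroup.subset_closure (by simp)
    have ib : b ∈ Subgroup.closure ({a, b, r} : Set G) := Subgroup.subset_closure (by simp)
    have ir : r ∈ Subgroup.closure ({a, b, r} : Set G) := Subgroup.subset_closure (by simp)
    have ira := Subgroup.mul_mem _ (Subgroup.mul_mem _ ia ir) ia
    have irb := Subgroup.mul_mem _ (Subgroup.mul_mem _ ib ir) ib
    rw [← hra] at ira
    rw [← hrb] at irb
    have iry := Subgroup.mul_mem _ (Subgroup.mul_mem _ ia irb) ia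
    rw [← hry] at iry
    rw [Subgroup.closure_le]
    intro t ht
    simp only [Set.mem_insert_iff, Set.mem_singleton_iff] at ht
    rcases ht with h | h | h | h | h | h
    · rw [h]; exact ib
    · rw [h]; exact ia
    · rw [h]; exact ira
    · rw [h]; exact ir
    · rw [h, hs2]; exact Subgroup.mul_mem _ ira irb
    · rw [h, hs1]; exact Subgroup.mul_mem _ ir iry
  intro q hqQ q1 q2 q3
  apply hq q hqQ
  intro h hh
  have hc : ∀ x y : G, q * x = x * q → q * y = y * q → q * (x * y) = (x * y) * q := fun x y hx hy => by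
    rw [← mul_assoc, hx, mul_assoc, hy, mul_assoc]
  rcases hA h (hle hh) with h1 | h1 | h1 | h1 | h1 | h1
  · rw [h1]; exact hQz q hqQ
  · rw [h1]; exact q1
  · rw [h1]; exact q2
  · rw [h1]; exact q3
  · rw [h1]; exact hc _ _ (hQz q hqQ) q3
  · rw [Set.mem_singleton_iff.1 h1]; exact hc _ _ q1 q2

end QD

end Cfsg.Agent.H863.STT
end

-- part: H863/SData
section
set_option linter.all false

/-!
# Data for the even generators of the Baby Monster (helper863, for S5590)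
-/

set_option autoImplicit false

namespace Cfsg.Agent.H863.SData

open Cfsg.Agent.BabyM.Conc Cfsg.Spor.BabyMonster

/-- Words of `Q` for `t z t`. -/
def za : Gen → List Ltr
  | .t1 => [.X1, .X2, .X3, .X5, .X6, .X7, .X9, .Z0, .Z1, .Z2, .Z3, .Z5, .Z10]
  | .t3 => [.X0, .X1, .X2, .X3, .X4, .X6, .X7, .X8, .X9, .Z0, .Z1, .Z4, .Z5, .Z6, .Z7, .Z8, .Z10]
  | .t5 => [.Z10, .z]
  | .t7 => [.X1, .X2, .X4, .X5, .X6, .X7, .X8, .Z2, .Z3, .Z5, .Z10]
  | .t10 => [.X0, .X1, .X2, .X3, .X5, .X6, .X7, .X8, .X9, .Z0, .Z3, .Z6, .Z9, .z]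
  | _ => []

/-- Words of `Q` commuting with the generator. -/
def cb : Gen → ℕ → List Ltr
  | .t1, 0 => [.X3, .X4, .X5, .X6, .X9, .X10, .Z1, .Z2, .Z9, .Z10]
  | .t1, 1 => [.X2, .X3, .X4, .X6, .X7, .X10, .Z0, .Z3, .Z7, .Z8, .Z9]
  | .t1, 2 => [.X1, .X2, .X3, .X4, .X9, .X10, .Z1, .Z2, .Z3, .Z4, .Z7, .Z8, .z]
  | .t1, 3 => [.X2, .X3, .X4, .X7, .X10, .Z2, .Z3, .Z5, .Z7, .Z8, .Z9, .Z10]
  | .t1, 4 => [.X3, .X4, .X6, .X10, .Z0, .Z2, .Z3, .Z5, .Z6, .z]
  | .t1, 5 => [.X1, .X2, .X3, .X5, .X6, .X7, .X9, .Z0, .Z2, .Z4, .Z9, .Z10, .z]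
  | .t1, 6 => [.X4, .X6, .X7, .X9, .X10, .Z0, .Z1, .Z2, .Z3, .Z4, .Z5, .Z6, .Z8, .z]
  | .t1, 7 => [.X4, .X7, .X9, .X10, .Z0, .Z1, .Z3, .Z6]
  | .t1, 8 => [.X1, .X3, .X4, .X5, .X7, .X10, .Z0, .Z1, .Z3, .Z4, .Z5, .Z8, .Z9, .z]
  | .t1, 9 => [.X1, .X2, .X4, .X5, .X6, .X7, .X9, .X10, .Z0, .Z2, .Z3, .Z6, .Z9, .Z10, .z]
  | .t1, 10 => [.X1, .X2, .X3, .X5, .X6, .X7, .X9, .Z0, .Z1, .Z2, .Z3, .Z5, .Z10, .z]
  | .t3, 0 => [.X1, .X2, .X3, .X4, .X5, .X8, .X10, .Z0, .Z1, .Z3, .Z4, .Z8]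
  | .t3, 1 => [.X0, .X2, .X3, .X5, .X7, .X8, .X10, .Z4, .Z5, .Z6, .Z9, .Z10]
  | .t3, 2 => [.X0, .X1, .X5, .X6, .X8, .X10, .Z0, .Z1, .Z3, .Z4, .Z5, .Z7, .Z8, .z]
  | .t3, 3 => [.X0, .X1, .X4, .X5, .X7, .X8, .X9, .X10, .Z3, .Z6, .Z9, .Z10]
  | .t3, 4 => [.X0, .X3, .X5, .X6, .X10, .Z1, .Z2, .Z3, .Z4, .Z5, .Z7, .Z8, .z]
  | .t3, 5 => [.X0, .X1, .X2, .X3, .X4, .X6, .X7, .X8, .X9, .Z0, .Z1, .Z4, .Z6, .Z7, .Z8, .z]
  | .t3, 6 => [.X2, .X4, .X5, .X10, .Z0, .Z1, .Z3, .Z6, .Z8]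
  | .t3, 7 => [.X1, .X3, .X5, .X9, .X10, .Z0, .Z3, .Z4, .Z5, .Z7, .Z8]
  | .t3, 8 => [.X0, .X1, .X2, .X3, .X5, .X9, .X10, .Z2, .Z5, .Z9, .Z10, .z]
  | .t3, 9 => [.X0, .X1, .X2, .X4, .X5, .X6, .X9, .X10, .Z2, .Z3, .Z4, .Z7, .Z8, .Z9, .Z10, .z]
  | .t3, 10 => [.X0, .X1, .X2, .X3, .X4, .X6, .X7, .X8, .X9, .Z0, .Z1, .Z4, .Z5, .Z6, .Z7, .Z8, .Z10, .z]
  | .t5, 0 => [.Z0]
  | .t5, 1 => [.Z1]
  | .t5, 2 => [.Z2]
  | .t5, 3 => [.Z3]
  | .t5, 4 => [.Z4]
  | .t5, 5 => [.Z5]
  | .t5, 6 => [.Z6]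
  | .t5, 7 => [.Z7]
  | .t5, 8 => [.Z8]
  | .t5, 9 => [.Z9]
  | .t5, 10 => [.Z10]
  | .t7, 0 => [.X2, .X5, .X6, .X7, .X10, .Z2, .Z5, .Z6, .Z9, .Z10, .z]
  | .t7, 1 => [.X1, .X4, .X10, .Z2, .Z3, .Z6, .Z7]
  | .t7, 2 => [.X4, .X5, .X6, .X7, .X8, .X10, .Z0, .Z1, .Z2, .Z4, .Z6, .Z7, .Z8, .Z9]
  | .t7, 3 => [.X1, .X4, .X5, .X6, .X10, .Z1, .Z2, .Z4, .Z5, .Z9, .Z10]
  | .t7, 4 => [.X5, .X10, .Z3]
  | .t7, 5 => [.X1, .X2, .X4, .X5, .X6, .X7, .X8, .Z0, .Z2, .Z3, .Z5, .Z10, .z]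
  | .t7, 6 => [.X1, .X6, .X7, .X10, .Z0, .Z3, .Z8]
  | .t7, 7 => [.X1, .X5, .X7, .X10, .Z3, .Z4, .Z8, .Z9, .z]
  | .t7, 8 => [.X1, .X2, .X8, .X10, .Z0, .Z2, .Z3, .Z4, .Z7, .Z8, .z]
  | .t7, 9 => [.X1, .X2, .X4, .X5, .X7, .X8, .X10, .Z2, .Z3, .Z4, .Z5, .Z10, .z]
  | .t7, 10 => [.X1, .X2, .X4, .X5, .X6, .X7, .X8, .Z2, .Z3, .Z5, .Z10, .z]
  | .t10, 0 => [.Z1, .Z3, .Z4, .Z6, .Z7, .Z8, .Z9]
  | .t10, 1 => [.X4, .X9, .X10, .Z3, .Z6, .Z8, .z]
  | .t10, 2 => [.X1, .X2, .X4, .X5, .X8, .X9, .X10, .Z3, .Z5, .Z6, .Z10, .z]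
  | .t10, 3 => [.Z0, .Z1, .Z5, .Z6, .Z7, .Z9, .Z10]
  | .t10, 4 => [.X2, .X3, .X4, .X6, .X8, .X10, .Z2, .Z5, .Z10]
  | .t10, 5 => [.X4, .X5, .X6, .X7, .X8, .X10, .Z0, .Z1, .Z2, .Z4, .Z6, .Z7, .Z8, .Z9]
  | .t10, 6 => [.X0, .X2, .X4, .X5, .X6, .X10, .Z0, .Z2, .Z3, .Z4, .Z5, .Z6, .Z9, .Z10, .z]
  | .t10, 7 => [.X1, .X3, .X4, .X5, .X6, .X10, .Z0, .Z1, .Z2, .Z9, .Z10, .z]
  | .t10, 8 => [.X0, .X4, .X6, .X8, .X9, .X10, .Z0, .Z3, .Z5, .Z8, .Z9, .Z10]
  | .t10, 9 => [.Z4, .Z10]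
  | .t10, 10 => [.X0, .X1, .X2, .X3, .X5, .X6, .X7, .X8, .X9, .Z0, .Z3, .Z6, .Z9]
  | _, _ => []

/-- A product of commuting words. -/
def wd (a : Gen) (l : List ℕ) : List Ltr := l.flatMap (cb a)

/-- The word for the pair (1, 3). -/
def r1_3 : List Ltr := [.X1, .X10]

def A1_3 : List (List ℕ × ℕ) := [([3], 0x24e7ac), ([5], 0x577615), ([10], 0x57742f), ([1, 0], 0x15258f), ([2, 0], 0x433798), ([4, 0], 0x11066b), ([6, 0], 0x454779), ([7, 0], 0x7464d), ([8, 0], 0x56153d), ([9, 0], 0x44704b)]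

def B1_3 : List (List ℕ × ℕ) := [([1], 0x2d6e70), ([2], 0x6b19bb), ([6], 0x21a14b), ([10], 0x5efdf3), ([3, 0], 0x146f53), ([4, 0], 0x4ab8a5), ([5, 0], 0x3708c8), ([7, 0], 0x18a0a2), ([8, 0], 0x188f3f), ([9, 0], 0x1a4e87)]

/-- The word for the pair (1, 5). -/
def r1_5 : List Ltr := [.X0, .X1, .X4, .X5, .X8, .Z3]

def A1_5 : List (List ℕ × ℕ) := [([5], 0x577615), ([10], 0x57742f), ([1, 0], 0x15258f), ([2, 0], 0x433798), ([3, 0], 0x1721aa), ([4, 0], 0x11066b), ([6, 0], 0x454779), ([7, 0], 0x7464d), ([8, 0], 0x56153d), ([9, 0], 0x44704b)]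

def B1_5 : List (List ℕ × ℕ) := [([0], 0x1), ([4], 0x10), ([8], 0x100), ([10], 0x400), ([2, 1], 0x6), ([3, 1], 0xa), ([5, 1], 0x22), ([6, 1], 0x42), ([7, 1], 0x82), ([9, 1], 0x202)]

/-- The word for the pair (1, 7). -/
def r1_7 : List Ltr := [.X0, .X6, .X10, .Z5, .Z9]

def A1_7 : List (List ℕ × ℕ) := [([2], 0x70f19e), ([10], 0x57742f), ([1, 0], 0x15258f), ([3, 0], 0x1721aa), ([4, 0], 0x11066b), ([5, 0], 0x24b013), ([6, 0], 0x454779), ([7, 0], 0x7464d), ([8, 0], 0x56153d), ([9, 0], 0x44704b)]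

def B1_7 : List (List ℕ × ℕ) := [([1], 0x2090cc), ([5], 0x4fb42d), ([8], 0x68319d), ([10], 0x4fb42c), ([2, 0], 0x8a5b3), ([3, 0], 0x4b052), ([4, 0], 0x46266c), ([6, 0], 0x41376d), ([7, 0], 0x2357c), ([9, 0], 0x4a9258)]

/-- The word for the pair (1, 10). -/
def r1_10 : List Ltr := [.X7, .X9, .X10, .Z6]

def A1_10 : List (List ℕ × ℕ) := [([0], 0x33c606), ([5], 0x577615), ([10], 0x57742f), ([2, 1], 0x561217), ([3, 1], 0x20425), ([4, 1], 0x423e4), ([6, 1], 0x5062f6), ([7, 1], 0x1263c2), ([8, 1], 0x4330b2), ([9, 1], 0x5155c4)]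

def B1_10 : List (List ℕ × ℕ) := [([9], 0x410), ([10], 0x1f7a49), ([1, 0], 0x708292), ([2, 0], 0x79b7b2), ([3, 0], 0x539), ([4, 0], 0x2ae7fe), ([5, 0], 0x2f800d), ([6, 0], 0x63ada7), ([7, 0], 0x63d5dd), ([8, 0], 0x3a8cf3)]

/-- The word for the pair (3, 5). -/
def r3_5 : List Ltr := [.X2, .X4, .X5, .X7, .X9, .Z6]

def A3_5 : List (List ℕ × ℕ) := [([5], 0x5ef9d3), ([10], 0x5efdf3), ([1, 0], 0x449f6b), ([2, 0], 0x2e8a0), ([3, 0], 0x146f53), ([4, 0], 0x4ab8a5), ([6, 0], 0x485050), ([7, 0], 0x18a0a2), ([8, 0], 0x188f3f), ([9, 0], 0x1a4e87)]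

def B3_5 : List (List ℕ × ℕ) := [([5], 0x20), ([10], 0x400), ([1, 0], 0x3), ([2, 0], 0x5), ([3, 0], 0x9), ([4, 0], 0x11), ([6, 0], 0x41), ([7, 0], 0x81), ([8, 0], 0x101), ([9, 0], 0x201)]

/-- The word for the pair (3, 7). -/
def r3_7 : List Ltr := [.X3, .X9, .X10, .Z4, .Z5]

def A3_7 : List (List ℕ × ℕ) := [([6], 0x21a14b), ([8], 0x717e24), ([10], 0x5efdf3), ([1, 0], 0x449f6b), ([2, 0], 0x2e8a0), ([3, 0], 0x146f53), ([4, 0], 0x4ab8a5), ([5, 0], 0x3708c8), ([7, 0], 0x18a0a2), ([9, 0], 0x1a4e87)]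

def B3_7 : List (List ℕ × ℕ) := [([2], 0x2f83d7), ([7], 0x651318), ([10], 0x4fb42c), ([1, 0], 0x7b6a8), ([3, 0], 0x4b052), ([4, 0], 0x46266c), ([5, 0], 0x689249), ([6, 0], 0x41376d), ([8, 0], 0xf17f9), ([9, 0], 0x4a9258)]

/-- The word for the pair (3, 10). -/
def r3_10 : List Ltr := [.X1, .X10]

def A3_10 : List (List ℕ × ℕ) := [([2], 0x6b19bb), ([8], 0x717e24), ([9], 0x73bf9c), ([10], 0x5efdf3), ([1, 0], 0x449f6b), ([3, 0], 0x146f53), ([4, 0], 0x4ab8a5), ([5, 0], 0x3708c8), ([6, 0], 0x485050), ([7, 0], 0x18a0a2)]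

def B3_10 : List (List ℕ × ℕ) := [([5], 0x2f83d7), ([10], 0x1f7a49), ([1, 0], 0x708292), ([2, 0], 0x79b7b2), ([3, 0], 0x539), ([4, 0], 0x2ae7fe), ([6, 0], 0x63ada7), ([7, 0], 0x63d5dd), ([8, 0], 0x3a8cf3), ([9, 0], 0x7ca)]

/-- The word for the pair (5, 7). -/
def r5_7 : List Ltr := [.X0, .X1, .X2, .X3, .X6, .X7, .X9, .Z10]

def A5_7 : List (List ℕ × ℕ) := [([0], 0x1), ([3], 0x8), ([9], 0x200), ([10], 0x400), ([2, 1], 0x6), ([4, 1], 0x12), ([5, 1], 0x22), ([6, 1], 0x42), ([7, 1], 0x82), ([8, 1], 0x102)]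

def B5_7 : List (List ℕ × ℕ) := [([5], 0x4fb42d), ([10], 0x4fb42c), ([1, 0], 0x7b6a8), ([2, 0], 0x8a5b3), ([3, 0], 0x4b052), ([4, 0], 0x46266c), ([6, 0], 0x41376d), ([7, 0], 0x2357c), ([8, 0], 0xf17f9), ([9, 0], 0x4a9258)]

/-- The word for the pair (5, 10). -/
def r5_10 : List Ltr := [.X0, .X1, .X4, .X5, .X8, .Z7]

def A5_10 : List (List ℕ × ℕ) := [([4], 0x10), ([10], 0x400), ([1, 0], 0x3), ([2, 0], 0x5), ([3, 0], 0x9), ([5, 0], 0x21), ([6, 0], 0x41), ([7, 0], 0x81), ([8, 0], 0x101), ([9, 0], 0x201)]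

def B5_10 : List (List ℕ × ℕ) := [([0], 0x3da), ([3], 0x6e3), ([9], 0x410), ([10], 0x1f7a49), ([2, 1], 0x493520), ([4, 1], 0x1a656c), ([5, 1], 0x5f029f), ([6, 1], 0x532f35), ([7, 1], 0x13574f), ([8, 1], 0x4a0e61)]

/-- The word for the pair (7, 10). -/
def r7_10 : List Ltr := [.X7, .X9, .X10, .Z6]

def A7_10 : List (List ℕ × ℕ) := [([1], 0x2090cc), ([2], 0x2f83d7), ([6], 0x261109), ([10], 0x4fb42c), ([3, 0], 0x4b052), ([4, 0], 0x46266c), ([5, 0], 0x689249), ([7, 0], 0x2357c), ([8, 0], 0xf17f9), ([9, 0], 0x4a9258)]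

def B7_10 : List (List ℕ × ℕ) := [([3], 0x6e3), ([5], 0x2f83d7), ([10], 0x1f7a49), ([1, 0], 0x708292), ([2, 0], 0x79b7b2), ([4, 0], 0x2ae7fe), ([6, 0], 0x63ada7), ([7, 0], 0x63d5dd), ([8, 0], 0x3a8cf3), ([9, 0], 0x7ca)]

end Cfsg.Agent.H863.SData
end

-- part: H863/SMod
section
prune_inst 0x100005004400020000000500300020446e00009000600001d100084005cca70200000100f4d012000050b2444038400813180030420000000a008400411d00a08c8342022250000427001f80f004000000000000000000000000000000000004000000000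
set_option linter.all false
open scoped Cfsg.Agent.FastGrp

/-!
# The even generators in the model (helper863, for S5590)
-/

set_option autoImplicit false

namespace Cfsg.Agent.H863.SMod

open Cfsg.Agent.Lib.PermNet hiding tb tb_eq
open Cfsg.Agent.Monster Cfsg.Agent.Monster.VecEngine Cfsg.Agent.Monster.VecSpace
open Cfsg.Agent.Monster.PauliBasic Cfsg.Agent.Monster.PauliRep Cfsg.Agent.Monster.PauliClif Cfsg.Agent.Monster.PauliBits
open Cfsg.Agent.BabyM.KTabData Cfsg.Agent.BabyM.QAct Cfsg.Agent.BabyM.QData Cfsg.Agent.BabyM.QData.Good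
open Cfsg.Agent.BabyM.Conc Cfsg.Agent.BabyM.KTab Cfsg.Agent.BabyM.KRow Cfsg.Agent.BabyM.KRowData Cfsg.Agent.BabyM.KQ
open Cfsg.Agent.BabyM
open Cfsg.Agent.H863.BRed Cfsg.Agent.H863.BRep Cfsg.Agent.H863.BCode Cfsg.Agent.H863.BGrp Cfsg.Agent.H863.BCheck
open Cfsg.Agent.H863.BMdl Cfsg.Agent.H863.BInst
open Cfsg.Agent.H863.STT Cfsg.Agent.H863.SLift Cfsg.Agent.H863.SData
open Cfsg.Spor.BabyMonster

/-! ### Words -/

theorem gW_append (v w : List Ltr) : gW (v ++ w) = gW w * gW v := Subtype.ext (W_append v w)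

theorem gW_z : gW [.z] = gE .z := Subtype.ext (W_single _)

theorem gW_eq {v w : List Ltr} (h : BM.StageW.chk v w = true) : gW v = gW w :=
  BM.StageW.eq_of_chk Instance.all Instance.ok h

theorem gW_eqF {L : List (List Ltr × List Ltr)} (h : BMx.Fast.allEq L = true) {v w : List Ltr} (hm : (v, w) ∈ L) :
    gW v = gW w :=
  inv_injective ((BMx.Fast.eq_of_allEq h _ hm :))

/-- The generators. -/
noncomputable def x (t : Gen) : G := gW (BM.StageW.tw t)

theorem x_sq (t : Gen) : x t * x t = 1 := BM.StageW.sq Instance.all Instance.ok t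

theorem gW_R {v : List Ltr} (h : v.all isq = true) : gW v = r (dec 11 (cw v)) := Subtype.ext (W_eq_R v h)

/-! ### The group `Q` -/

/-- The data of `Q`. -/
noncomputable def D : QD G where
  Q := r.range
  z := gE .z
  p := by
    have h1 : IsPGroup 2 (⊤ : Subgroup (Pauli 11)) := by
      apply IsPGroup.of_card (n := 23)
      rw [Subgroup.card_top, Pauli.card]
    have h := h1.map r
    rwa [← MonoidHom.range_eq_map] at h
  nrm g hg q hq := by
    obtain ⟨y, rfl⟩ := hq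
    obtain ⟨α, hα⟩ := nrm g (cent hg)
    exact ⟨α y, by rw [hα, mul_inv_cancel_right]⟩

theorem r_mem_Q (y : Pauli 11) : r y ∈ D.Q := ⟨y, rfl⟩

theorem gW_mem_Q {v : List Ltr} (h : v.all isq = true) : gW v ∈ D.Q := by rw [gW_R h]; exact r_mem_Q _

theorem Qz (q : G) (hq : q ∈ D.Q) : q * D.z = D.z * q := by
  obtain ⟨y, rfl⟩ := hq
  exact z_comm (r_mem y)

theorem z_Q : D.z ∈ D.Q := by
  show gE .z ∈ r.range
  rw [gE_z]
  exact ⟨_, rfl⟩

theorem pauli_comm {n : ℕ} (a b : Pauli n) (h : Pauli.form a b = 0) : a * b = b * a := by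
  have h1 := Pauli.conj_eq a b
  have h2 : a * b = (a * b * a⁻¹) * a := by rw [inv_mul_cancel_right]
  rw [h2, h1, h]
  congr 1
  refine Pauli.ext ?_ rfl rfl
  show b.s + 0 = b.s
  rw [add_zero]

theorem comm_codes {c c' : ℕ} (h : fm c c' = false) :
    r (dec 11 c) * r (dec 11 c') = r (dec 11 c') * r (dec 11 c) := by
  rw [← map_mul, ← map_mul, pauli_comm _ _ (BTI.form_zero h)]

theorem anti_codes {c c' : ℕ} (h : fm c c' = true) :
    r (dec 11 c) * r (dec 11 c') = D.z * r (dec 11 c') * r (dec 11 c) := by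
  have h1 := comm_of_form _ _ (form_of_fm h)
  rw [← map_mul, h1, map_mul, map_mul, ← gE_z, z_comm (r_mem _)]
  rfl

/-! ### Single generators -/

theorem x_pal (t : Gen) (v : List Ltr) :
    gW (BM.StageW.tw t ++ v ++ BM.StageW.tw t) = x t * gW v * x t := by
  rw [gW_append, gW_append, ← mul_assoc]
  rfl

section

variable {t : Gen} {cz : ℕ} (hz : gW (BM.StageW.tw t ++ [.z] ++ BM.StageW.tw t) = gW (za t))
  (hq : (za t).all isq = true) (hc : cw (za t) = cz)

include hz hq hc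

theorem za_eqF : x t * D.z * x t = r (dec 11 cz) := by
  have h1 := hz
  rw [x_pal, gW_z, gW_R hq, hc] at h1
  exact h1

theorem singleF {o : List Ltr} {co : ℕ} (ho : o.all isq = true) (hco : cw o = co) (ho2 : gW o * gW o = 1)
    (hb : x t * gW o * x t = gW o * x t * gW o) (hf : fm co cz = true) :
    ∃ S : Subgroup G, TT S ∧ x t ∈ S ∧ D.Q ≤ S := by
  have hza := za_eqF hz hq hc
  have hzz : D.z * r (dec 11 cz) = r (dec 11 cz) * D.z := (Qz _ (r_mem_Q _)).symm
  refine D.single (o := gW o) (x_sq t) ho2 (gW_mem_Q ho) hb z_sq Qz ?_ ?_ ?_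
  · rw [hza]; exact hzz
  · intro q hq'
    rw [hza]
    obtain ⟨y, rfl⟩ := hq'
    have h1 : Pauli.form y (dec 11 cz) = 0 ∨ Pauli.form y (dec 11 cz) = 1 := by
      generalize Pauli.form y (dec 11 cz) = a
      revert a; decide
    rcases h1 with h1 | h1
    · left
      rw [← map_mul, ← map_mul, pauli_comm _ _ h1]
    · right
      rw [← map_mul, comm_of_form _ _ h1, map_mul, map_mul, ← gE_z, z_comm (r_mem _)]
      rfl
  · rw [hza, gW_R ho, hco]
    exact anti_codes hf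

end

/-! ### Fixed vectors -/

/-- Some code of the list is not orthogonal to the lane. -/
noncomputable def anyL (L : List ℕ) (i : ℕ) : Bool :=
  List.rec (motive := fun _ => Bool) false (fun c _ ih => or (fm c (cd i)) ih) L

theorem anyL_spec {L : List ℕ} {i : ℕ} (h : anyL L i = true) : ∃ c ∈ L, fm c (cd i) = true := by
  induction L with
  | nil => exact absurd (show false = true from h) (by decide)
  | cons c L ih =>
    have h1 : or (fm c (cd i)) (anyL L i) = true := h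
    rw [Bool.or_eq_true] at h1
    rcases h1 with h1 | h1
    · exact ⟨c, List.mem_cons_self, h1⟩
    · obtain ⟨c', hc', h2⟩ := ih h1
      exact ⟨c', List.mem_cons_of_mem _ hc', h2⟩

/-- The check for all lanes. -/
noncomputable def lanesOK (L : List ℕ) : Bool :=
  allN 12 (fun i => Bool.rec true (Bool.rec (anyL L i) true (Nat.beq (cd i) 0)) (tb U i)) 0

theorem lanesOK_spec {L : List ℕ} (h : lanesOK L = true) {i : Lane U} (hi : Cd.isX i) :
    ∃ c ∈ L, fm c (cd i.1) = true := by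
  have hlt := lt_of_isX hi
  rw [isX_iff] at hi
  have h1 := allN_spec h (Nat.zero_le i.1) (by omega)
  simp only [tb_eq, i.2] at h1
  have h0 : Nat.beq (cd i.1) 0 = false := by
    rw [Bool.eq_false_iff]
    intro hh
    exact hi.2 (Nat.eq_of_beq_eq_true hh)
  rw [h0] at h1
  exact anyL_spec h1

section

variable {F : Type*} [Field F] (h2 : (2 : F) ≠ 0)

theorem inU_iff (v : Lane U → F) : InU (sigma h2) D v ↔ v ∈ BE.U (M h2) := by
  rw [BE.mem_U]
  constructor
  · intro h y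
    exact h (r y) (r_mem_Q y)
  · rintro h q ⟨y, rfl⟩
    exact h y

theorem fixed_in {L : List ℕ} (hL : lanesOK L = true) {v : Lane U → F} (hz : sigma h2 D.z v = v)
    (h : ∀ c ∈ L, sigma h2 (r (dec 11 c)) v = v) : InU (sigma h2) D v := by
  rw [inU_iff]
  show ∀ i, ¬ Cd.isU i → v i = 0
  intro i hi
  by_cases hq : Cd.isq i
  · exact (M h2).S_zero hz hq
  · have hX : Cd.isX i := by
      rcases Cd.cases i with h | h | h
      · exact absurd h hq
      · exact h
      · exact absurd h hi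
    obtain ⟨c, hc, hf⟩ := lanesOK_spec hL hX
    have h1 := (M h2).r_apply (dec 11 c) v hq
    have h3 : (M h2).σ ((M h2).r (dec 11 c)) v = v := h c hc
    rw [h3] at h1
    have h4 : Pauli.form (dec 11 c) (Cd.c i) = 1 := form_of_fm hf
    rw [h4] at h1
    apply (M h2).two_cancel
    have h5 : sg F 1 = -1 := by simp only [sg, _root_.one_ne_zero, ↓ _root_.reduceIte]
    rw [h5, neg_one_mul] at h1
    exact h1

end

/-! ### Pairs -/

/-- The check of the codes of one side. -/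
noncomputable def sideOK (t : Gen) (c' : ℕ) (A : List (List ℕ × ℕ)) : Bool :=
  A.all fun p => and (Nat.beq (cw (wd t p.1)) p.2) (and ((wd t p.1).all isq)
    (and (!(fm p.2 c')) (p.1.all fun k => Nat.blt k 11)))

theorem side_spec {t : Gen} {c' : ℕ} {A : List (List ℕ × ℕ)} (h : sideOK t c' A = true) {p : List ℕ × ℕ}
    (hp : p ∈ A) : gW (wd t p.1) = r (dec 11 p.2) ∧ fm p.2 c' = false ∧ ∀ k ∈ p.1, k < 11 := by
  have h1 := List.all_eq_true.1 h p hp
  rw [Bool.and_eq_true, Bool.and_eq_true, Bool.and_eq_true] at h1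
  obtain ⟨h3, h4, h5, h6⟩ := h1
  refine ⟨?_, ?_, ?_⟩
  · rw [gW_R h4, Nat.eq_of_beq_eq_true h3]
  · simpa using h5
  · intro k hk
    have := List.all_eq_true.1 h6 k hk
    simpa [Nat.blt] using this

theorem wd_comm {t : Gen} (hc : ∀ k < 11, gW (cb t k) * x t = x t * gW (cb t k)) (l : List ℕ)
    (hl : ∀ k ∈ l, k < 11) : gW (wd t l) * x t = x t * gW (wd t l) := by
  induction l with
  | nil =>
    have : gW (wd t []) = 1 := Subtype.ext W_nil
    rw [this, one_mul, mul_one]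
  | cons k l ih =>
    have h1 : wd t (k :: l) = cb t k ++ wd t l := List.flatMap_cons ..
    have h2 := ih fun k' hk' => hl k' (List.mem_cons_of_mem _ hk')
    have h3 := hc k (hl k List.mem_cons_self)
    rw [h1, gW_append, mul_assoc, h3, ← mul_assoc, h2, mul_assoc]

theorem comm_chk {t : Gen} {v : List Ltr}
    (h : BM.StageW.chk (v ++ BM.StageW.tw t) (BM.StageW.tw t ++ v) = true) : gW v * x t = x t * gW v := by
  have h1 := gW_eq h
  rw [gW_append, gW_append] at h1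
  exact h1.symm

/-- The relations of one generator. -/
def genL (t : Gen) : List (List Ltr × List Ltr) :=
  (BM.StageW.tw t ++ [Ltr.z] ++ BM.StageW.tw t, za t) ::
    (List.range 11).map fun k => (cb t k ++ BM.StageW.tw t, BM.StageW.tw t ++ cb t k)

theorem hz_of {t : Gen} (h : BMx.Fast.allEq (genL t) = true) :
    gW (BM.StageW.tw t ++ [.z] ++ BM.StageW.tw t) = gW (za t) :=
  gW_eqF h List.mem_cons_self

theorem cb_of {t : Gen} (h : BMx.Fast.allEq (genL t) = true) :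
    ∀ k < 11, gW (cb t k) * x t = x t * gW (cb t k) := by
  intro k hk
  have h1 : gW (cb t k ++ BM.StageW.tw t) = gW (BM.StageW.tw t ++ cb t k) :=
    gW_eqF h (List.mem_cons_of_mem _ (List.mem_map.2 ⟨k, List.mem_range.2 hk, rfl⟩))
  rw [gW_append, gW_append] at h1
  exact h1.symm

/-- The relations of a pair of generators. -/
def pairL (a b : Gen) (v : List Ltr) : List (List Ltr × List Ltr) :=
  [((BM.StageW.tw a ++ BM.StageW.tw b ++ [Ltr.z] ++ BM.StageW.tw b ++ BM.StageW.tw a) ++ [Ltr.z],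
      [Ltr.z] ++ (BM.StageW.tw a ++ BM.StageW.tw b ++ [Ltr.z] ++ BM.StageW.tw b ++ BM.StageW.tw a)),
    ((BM.StageW.tw a ++ BM.StageW.tw b ++ [Ltr.z] ++ BM.StageW.tw b ++ BM.StageW.tw a) ++ v,
      v ++ (BM.StageW.tw a ++ BM.StageW.tw b ++ [Ltr.z] ++ BM.StageW.tw b ++ BM.StageW.tw a) ++ [Ltr.z]),
    ((BM.StageW.tw a ++ v ++ BM.StageW.tw a) ++ v, v ++ (BM.StageW.tw a ++ v ++ BM.StageW.tw a)),
    ((BM.StageW.tw b ++ v ++ BM.StageW.tw b) ++ v, v ++ (BM.StageW.tw b ++ v ++ BM.StageW.tw b)),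
    (v ++ (BM.StageW.tw a ++ BM.StageW.tw b ++ v ++ BM.StageW.tw b ++ BM.StageW.tw a) ++ v,
      (BM.StageW.tw a ++ BM.StageW.tw b ++ v ++ BM.StageW.tw b ++ BM.StageW.tw a) ++ v ++
        (BM.StageW.tw a ++ BM.StageW.tw b ++ v ++ BM.StageW.tw b ++ BM.StageW.tw a))]

/-- The facts about a generator. -/
structure Fct (t : Gen) (cz : ℕ) : Prop where
  za : x t * D.z * x t = r (dec 11 cz)
  cb : ∀ k < 11, gW (cb t k) * x t = x t * gW (cb t k)

section

variable {F : Type*} [Field F] (h2 : (2 : F) ≠ 0)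

theorem pair_ofF {a b : Gen} {ca cb cr : ℕ} {v : List Ltr} {A B : List (List ℕ × ℕ)} (fa : Fct a ca) (fb : Fct b cb)
    (hab : x a * x b = x b * x a) (hv : v.all isq = true) (hcr : cw v = cr) (hr2 : gW v * gW v = 1)
    (hA : sideOK a cb A = true) (hB : sideOK b ca B = true) (ka : fm cr ca = false) (kb : fm cr cb = false)
    (hL : lanesOK (cr :: (A.map Prod.snd ++ B.map Prod.snd)) = true)
    (h5 : BMx.Fast.allEq (pairL a b v) = true) :
    Pair (sigma h2) D (x a) (x b) := by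
  have pal : ∀ w : List Ltr, gW (BM.StageW.tw a ++ BM.StageW.tw b ++ w ++ BM.StageW.tw b ++ BM.StageW.tw a) =
      x a * x b * gW w * x b * x a := by
    intro w
    rw [gW_append, gW_append, gW_append, gW_append]
    show x a * (x b * (gW w * (x b * x a))) = _
    simp only [mul_assoc]
  have hvR : gW v = r (dec 11 cr) := by rw [gW_R hv, hcr]
  have hvz : gW v * D.z = D.z * gW v := Qz _ (gW_mem_Q hv)
  have e1 := gW_eqF h5 (List.Mem.head _)
  rw [gW_append, gW_append ([.z] : List Ltr), pal, gW_z] at e1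
  have e2 := gW_eqF h5 (List.Mem.tail _ (List.Mem.head _))
  rw [gW_append, gW_append _ ([.z] : List Ltr), gW_append v, pal, gW_z] at e2
  have e3 := gW_eqF h5 (List.Mem.tail _ (List.Mem.tail _ (List.Mem.head _)))
  rw [gW_append _ v, gW_append v, x_pal] at e3
  have e4 := gW_eqF h5 (List.Mem.tail _ (List.Mem.tail _ (List.Mem.tail _ (List.Mem.head _))))
  rw [gW_append _ v, gW_append v, x_pal] at e4
  have e5 := gW_eqF h5 (List.Mem.tail _ (List.Mem.tail _ (List.Mem.tail _ (List.Mem.tail _ (List.Mem.head _)))))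
  rw [gW_append _ v, gW_append v, gW_append _ (BM.StageW.tw a ++ BM.StageW.tw b ++ v ++ BM.StageW.tw b ++ BM.StageW.tw a),
    gW_append _ v, pal] at e5
  obtain ⟨S, hS, haS, hbS, hvS, hq⟩ := D.double (a := x a) (b := x b) (r := gW v) (x_sq a) (x_sq b) hr2 hab
    z_sq Qz hvz e1 (by rw [fa.za, hvR]; exact comm_codes ka) (by rw [fb.za, hvR]; exact comm_codes kb)
    (e2.trans (mul_assoc _ _ _).symm) e3 e4 (by rw [mul_assoc, e5]; simp only [mul_assoc])
  have mem : ∀ q ∈ D.Q, q * (x a * D.z * x a) = (x a * D.z * x a) * q →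
      q * (x b * D.z * x b) = (x b * D.z * x b) * q →
      (q * x a = x a * q ∨ q * x b = x b * q) → q ∈ S := by
    intro q hqQ q1 q3 q4
    apply hq q hqQ q1 q3
    rcases q4 with q4 | q4
    · have h1 : x a * x b * D.z * x b * x a = x a * (x b * D.z * x b) * x a := by simp only [mul_assoc]
      rw [h1]
      calc q * (x a * (x b * D.z * x b) * x a) = q * x a * (x b * D.z * x b) * x a := by simp only [mul_assoc]
        _ = x a * (q * (x b * D.z * x b)) * x a := by rw [q4]; simp only [mul_assoc]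
        _ = x a * (x b * D.z * x b) * (q * x a) := by rw [q3]; simp only [mul_assoc]
        _ = _ := by rw [q4]; simp only [mul_assoc]
    · have h1 : x a * x b * D.z * x b * x a = x b * (x a * D.z * x a) * x b := by
        calc x a * x b * D.z * x b * x a = (x a * x b) * D.z * (x b * x a) := by simp only [mul_assoc]
          _ = (x b * x a) * D.z * (x a * x b) := by rw [hab]
          _ = _ := by simp only [mul_assoc]
      rw [h1]
      calc q * (x b * (x a * D.z * x a) * x b) = q * x b * (x a * D.z * x a) * x b := by simp only [mul_assoc]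
        _ = x b * (q * (x a * D.z * x a)) * x b := by rw [q4]; simp only [mul_assoc]
        _ = x b * (x a * D.z * x a) * (q * x b) := by rw [q1]; simp only [mul_assoc]
        _ = _ := by rw [q4]; simp only [mul_assoc]
  have qz : ∀ (q : G), q ∈ D.Q → ∀ t : Gen, q * x t = x t * q →
      q * (x t * D.z * x t) = (x t * D.z * x t) * q := by
    intro q hqQ t ht
    calc q * (x t * D.z * x t) = (q * x t) * D.z * x t := by simp only [mul_assoc]
      _ = x t * (q * D.z) * x t := by rw [ht]; simp only [mul_assoc]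
      _ = x t * D.z * (q * x t) := by rw [Qz q hqQ]; simp only [mul_assoc]
      _ = _ := by rw [ht]; simp only [mul_assoc]
  refine ⟨S, hS, haS, hbS, fun w hw => ?_⟩
  have hzS : D.z ∈ S := by
    apply hq _ z_Q
    · rw [fa.za]; exact (Qz _ (r_mem_Q _)).symm
    · rw [fb.za]; exact (Qz _ (r_mem_Q _)).symm
    · exact e1
  apply fixed_in h2 hL (hw _ z_Q hzS)
  intro c hc
  apply hw _ (r_mem_Q _)
  rcases List.mem_cons.1 hc with rfl | hc
  · rw [← hvR]; exact hvS
  · rcases List.mem_append.1 hc with hc | hc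
    · obtain ⟨p, hp, rfl⟩ := List.mem_map.1 hc
      obtain ⟨s1, s2, s3⟩ := side_spec hA hp
      have h3 := wd_comm fa.cb p.1 s3
      rw [s1] at h3
      exact mem _ (r_mem_Q _) (qz _ (r_mem_Q _) a h3) (by rw [fb.za]; exact comm_codes s2) (Or.inl h3)
    · obtain ⟨p, hp, rfl⟩ := List.mem_map.1 hc
      obtain ⟨s1, s2, s3⟩ := side_spec hB hp
      have h3 := wd_comm fb.cb p.1 s3
      rw [s1] at h3
      exact mem _ (r_mem_Q _) (by rw [fa.za]; exact comm_codes s2) (qz _ (r_mem_Q _) b h3) (Or.inr h3)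

end

end Cfsg.Agent.H863.SMod
end

-- part: H863/SKer
section
prune_inst 0x10004500640000000000050032000000200000000000000090000000094980000000000002001000100400800000000002180000400000000a000000000600000000000000000000000000002000000000000000000000000000000000000000000000000
set_option linter.all false
open scoped Cfsg.Agent.FastGrp

/-!
# The kernel of `(1 - t5)(1 - ta)(1 - tb)` on `U`: the engine (helper863, for S5590)
-/

set_option autoImplicit false

namespace Cfsg.Agent.H863.SKer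

open Cfsg.Agent.Monster Cfsg.Agent.Monster.VecEngine Cfsg.Agent.Monster.VecSpace
open Cfsg.Agent.BabyM.Conc Cfsg.Agent.BabyM.KTab Cfsg.Agent.BabyM.KRow
open Cfsg.Agent.BabyM
open Cfsg.Agent.H863.BRed Cfsg.Agent.H863.BRep Cfsg.Agent.H863.BVec Cfsg.Agent.H863.BGrp
open Cfsg.Agent.H863.SLift Cfsg.Agent.H863.SMod Cfsg.Agent.H863.BInst Cfsg.Agent.H863.BCheck
open Cfsg.Spor.BabyMonster

/-- `x - w x` -/
noncomputable def dl (w : List Prog) (x : Pl) (k : Pl → Bool) : Bool :=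
  runL w x fun y => go (add x (neg U y) 0) k

theorem dl_W {v : List Ltr} {x : Pl} {k : Pl → Bool} (h : dl (v.map Ltr.prog) x k = true) :
    ∃ z : Pl, W v (up ℚ (zv x)) = up ℚ (zv x - zv z) ∧ k z = true := by
  obtain ⟨y, hy, hk⟩ := runL_sound ℚ two_ne_zero (m := 2 ^ 13) (v.map Ltr.prog)
    (fun P hP => (good_progs v P hP).ok) x _ h
  have hk' := go_true hk
  refine ⟨_, ?_, hk'⟩
  rw [W_apply]
  have h1 : (up ℚ (zv x) : Lane U → ℚ) = res ℚ U (vec ℚ x) := rfl
  rw [h1, ← res_semL ℚ (m := 2 ^ 13) (fun P hP => (good_progs v P hP).pres), ← hy]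
  funext i
  show (val y i.1 : ℚ) = ((val x i.1 - val (norm (add x (neg U y) 0)) i.1 : ℤ) : ℚ)
  congr 1
  rw [val_norm, val_add, val_neg, if_pos i.2, bt_zero']
  ring

section

variable {F : Type*} [Field F] (h2 : (2 : F) ≠ 0)

theorem dl_sound {v : List Ltr} {x : Pl} {k : Pl → Bool} (h : dl (v.map Ltr.prog) x k = true) :
    ∃ z : Pl, Δ (sigma h2) (gW v) (up F (zv x)) = up F (zv z) ∧ k z = true := by
  obtain ⟨z, hz, hk⟩ := dl_W h
  refine ⟨z, ?_, hk⟩
  have h1 := tr h2 (gW v) (x := zv x) (y := zv x - zv z) hz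
  rw [Δ, h1, up_sub, sub_sub_cancel]

end

/-! ### Reading lanes -/

/-- Bit `i` of `p`. -/
noncomputable def bit (p i : ℕ) : ℕ := Nat.land 1 (Nat.shiftRight p i)

theorem bit_eq (p i : ℕ) : (bit p i : ℤ) = bt p i := by
  unfold bit bt
  show ((1 &&& (p >>> i) : ℕ) : ℤ) = _
  rw [Nat.testBit, Nat.one_and_eq_mod_two]
  rcases Nat.mod_two_eq_zero_or_one (p >>> i) with h | h <;> simp [h]

/-- Compare the lane `i` with `e - off`. -/
noncomputable def rd (L : Pl) (i : ℕ) : ℕ → ℕ → ℕ → Bool :=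
  Pl.rec (motive := fun _ => ℕ → ℕ → ℕ → Bool)
    (fun s w acc e => Nat.beq acc (Nat.add e (Nat.mul w (bit s i))))
    (fun p _ ih w acc e => ih (Nat.mul 2 w) (Nat.add acc (Nat.mul w (bit p i))) e) L

theorem rd_spec {L : Pl} {i w acc e : ℕ} (h : rd L i w acc e = true) :
    (w : ℤ) * val L i = (e : ℤ) - acc := by
  induction L generalizing w acc with
  | sgn s =>
    have h1 : Nat.beq acc (Nat.add e (Nat.mul w (bit s i))) = true := h
    have h3 : acc = e + w * bit s i := Nat.eq_of_beq_eq_true h1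
    rw [val_sgn, ← bit_eq, h3]
    push_cast
    ring
  | cons p L ih =>
    have h1 := ih (w := Nat.mul 2 w) (acc := Nat.add acc (Nat.mul w (bit p i))) h
    have h3 : ((Nat.mul 2 w : ℕ) : ℤ) = 2 * w := by
      show ((2 * w : ℕ) : ℤ) = _
      push_cast; rfl
    have h4 : ((Nat.add acc (Nat.mul w (bit p i)) : ℕ) : ℤ) = acc + w * bt p i := by
      rw [← bit_eq]
      show ((acc + w * bit p i : ℕ) : ℤ) = _
      push_cast; rfl
    rw [h3, h4] at h1
    rw [val_cons]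
    linarith

/-! ### Packed matrices -/

/-- Entry `i` of width `w`. -/
noncomputable def pk (B w i : ℕ) : ℕ := Nat.land (Nat.shiftRight B (Nat.mul w i)) (Nat.sub (Nat.shiftLeft 1 w) 1)

/-- The entry of the matrix of `T`. -/
noncomputable def entM (M r j : ℕ) : ℤ := (pk M 8 (Nat.add (Nat.mul 22 r) j) : ℤ) - 64

/-- The entry of the inverse. -/
noncomputable def entN (N j r : ℕ) : ℤ := (pk N 4 (Nat.add (Nat.mul 20 j) r) : ℤ) - 8

/-- A check for all `j < 20`. -/
noncomputable def all20 (p : ℕ → Bool) : Bool := allN 5 (fun j => Bool.rec true (p j) (Nat.blt j 20)) 0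

theorem all20_spec {p : ℕ → Bool} (h : all20 p = true) (j : Fin 20) : p j.1 = true := by
  have h1 := allN_spec h (Nat.zero_le j.1) (by have := j.2; omega)
  have h3 : Nat.blt j.1 20 = true := by
    have := j.2
    simp [Nat.blt]
  simp only [h3] at h1
  exact h1

/-- `64 e_i` -/
def e64 (i : ℕ) : Pl :=
  .cons 0 (.cons 0 (.cons 0 (.cons 0 (.cons 0 (.cons 0 (.cons (Nat.shiftLeft 1 i) (.sgn 0)))))))

theorem zv_e64 (i : Lane U) : zv (e64 i.1) = (64 : ℤ) • Pi.single i 1 := by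
  funext k
  rw [Pi.smul_apply, single_z]
  show bt 0 k.1 + 2 * (bt 0 k.1 + 2 * (bt 0 k.1 + 2 * (bt 0 k.1 + 2 * (bt 0 k.1 + 2 * (bt 0 k.1 + 2 *
    (bt (Nat.shiftLeft 1 i.1) k.1 + 2 * - bt 0 k.1)))))) = _
  rw [bt_zero', bt_one_shiftLeft, smul_eq_mul]
  ring

theorem up_e64 (F : Type*) [Field F] (i : Lane U) : up F (zv (e64 i.1)) = (64 : F) • Pi.single i 1 := by
  rw [zv_e64, up_zsmul, up_one]
  push_cast
  rfl

/-- The three differences. -/
noncomputable def d3 (w5 wa wb : List Prog) (x : Pl) (k : Pl → Bool) : Bool :=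
  dl wb x fun y => dl wa y fun y => dl w5 y k

section

variable {F : Type*} [Field F] (h2 : (2 : F) ≠ 0)

theorem d3_sound {v5 va vb : List Ltr} {x : Pl} {k : Pl → Bool}
    (h : d3 (v5.map Ltr.prog) (va.map Ltr.prog) (vb.map Ltr.prog) x k = true) :
    ∃ z : Pl, Δ (sigma h2) (gW v5) (Δ (sigma h2) (gW va) (Δ (sigma h2) (gW vb) (up F (zv x)))) = up F (zv z) ∧
      k z = true := by
  obtain ⟨z1, h1, k1⟩ := dl_sound h2 h
  obtain ⟨z2, h3, k2⟩ := dl_sound h2 k1
  obtain ⟨z3, h4, k3⟩ := dl_sound h2 k2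
  exact ⟨z3, by rw [h1, h3, h4], k3⟩

end

section

variable {F : Type*} [Field F] (h2 : (2 : F) ≠ 0)

/-- `(1 - t5)(1 - a)(1 - b)` -/
noncomputable def T3 (t5 a b : G) : Module.End F (Lane U → F) :=
  (1 - sigma h2 t5) * (1 - sigma h2 a) * (1 - sigma h2 b)

theorem T3_apply (t5 a b : G) (v : Lane U → F) :
    T3 h2 t5 a b v = Δ (sigma h2) t5 (Δ (sigma h2) a (Δ (sigma h2) b v)) := rfl

theorem expand {u : Lane U → F} (hu : ∀ i, ¬ Cd.isU i → u i = 0) (h0 : u bI = 0) :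
    u = ∑ j : Fin 22, u (bA j) • Pi.single (bA j) 1 := by
  funext i
  rw [Finset.sum_apply]
  simp only [Pi.smul_apply, smul_eq_mul]
  by_cases hi : Cd.isU i
  · rcases BTI.U_cases i hi with rfl | ⟨j, rfl⟩
    · rw [h0, Finset.sum_eq_zero]
      intro j _
      rw [Pi.single_eq_of_ne, mul_zero]
      intro h
      have := congrArg Subtype.val h
      change 1344 = 1344 + (j.1 + 1) at this
      omega
    · rw [Finset.sum_eq_single j]
      · rw [Pi.single_eq_same, mul_one]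
      · intro k _ hk
        rw [Pi.single_eq_of_ne, mul_zero]
        intro h
        have := congrArg Subtype.val h
        change 1344 + (j.1 + 1) = 1344 + (k.1 + 1) at this
        exact hk (Fin.ext (by omega))
      · intro h; exact absurd (Finset.mem_univ _) h
  · rw [hu i hi, Finset.sum_eq_zero]
    intro j _
    rw [Pi.single_eq_of_ne, mul_zero]
    rintro rfl
    exact hi (BTI.isU_A j)

include h2 in
theorem kernel_zero (T : Module.End F (Lane U → F)) {p q L M N : ℕ}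
    (hL : ∀ r : Fin 20, U.testBit (pk L 13 r.1) = true)
    (hc : ∀ j : Fin 22, j.1 ≠ p → j.1 ≠ q → ∃ y : Pl, (64 : F) • T (Pi.single (bA j) 1) = up F (zv y) ∧
      ∀ r : Fin 20, val y (pk L 13 r.1) = entM M r.1 j.1)
    (hN : ∀ j k : Fin 22, k.1 ≠ p → k.1 ≠ q →
      ∑ r : Fin 20, entN N j.1 r.1 * entM M r.1 k.1 = if j = k then 32 else 0)
    {u : Lane U → F} (hu : ∀ i, ¬ Cd.isU i → u i = 0) (h0 : u bI = 0)
    (hpq : ∀ j : Fin 22, j.1 = p ∨ j.1 = q → u (bA j) = 0) (hT : T u = 0) : u = 0 := by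
  have hrow : ∀ r : Fin 20, ∑ j : Fin 22, u (bA j) * (entM M r.1 j.1 : F) = 0 := by
    intro r
    have h1 : (64 : F) • T u = ∑ j : Fin 22, u (bA j) • ((64 : F) • T (Pi.single (bA j) 1)) := by
      conv_lhs => rw [expand hu h0]
      rw [map_sum, Finset.smul_sum]
      refine Finset.sum_congr rfl fun j _ => ?_
      rw [map_smul, smul_comm]
    rw [hT, smul_zero] at h1
    obtain ⟨ln, hln⟩ : ∃ l : Lane U, l.1 = pk L 13 r.1 := ⟨⟨_, hL r⟩, rfl⟩
    have h3 := congrFun h1 ln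
    rw [Finset.sum_apply, Pi.zero_apply] at h3
    rw [h3]
    refine Finset.sum_congr rfl fun j _ => ?_
    rw [Pi.smul_apply, smul_eq_mul]
    by_cases hj : j.1 = p ∨ j.1 = q
    · rw [hpq j hj, zero_mul, zero_mul]
    · push Not at hj
      obtain ⟨y, hy, hv⟩ := hc j hj.1 hj.2
      rw [hy]
      show _ = _ * ((val y ln.1 : ℤ) : F)
      rw [hln, hv r]
  have h32 : (32 : F) ≠ 0 := by
    have : (32 : F) = 2 ^ 5 := by norm_num
    rw [this]; exact pow_ne_zero 5 h2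
  have hz : ∀ j : Fin 22, u (bA j) = 0 := by
    intro j
    have h1 : ∑ r : Fin 20, (entN N j.1 r.1 : F) * ∑ k : Fin 22, u (bA k) * (entM M r.1 k.1 : F) = 0 :=
      Finset.sum_eq_zero fun r _ => by rw [hrow r, mul_zero]
    have h3 : ∑ r : Fin 20, (entN N j.1 r.1 : F) * ∑ k : Fin 22, u (bA k) * (entM M r.1 k.1 : F) =
        ∑ k : Fin 22, u (bA k) * ((∑ r : Fin 20, entN N j.1 r.1 * entM M r.1 k.1 : ℤ) : F) := by
      simp only [Finset.mul_sum]
      rw [Finset.sum_comm]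
      refine Finset.sum_congr rfl fun k _ => ?_
      rw [Int.cast_sum, Finset.mul_sum]
      refine Finset.sum_congr rfl fun r _ => ?_
      rw [Int.cast_mul]
      ring
    rw [h3, Finset.sum_eq_single j] at h1
    · by_cases hj : j.1 = p ∨ j.1 = q
      · exact hpq j hj
      · push Not at hj
        rw [hN j j hj.1 hj.2, if_pos rfl, Int.cast_ofNat] at h1
        exact (mul_eq_zero.1 h1).resolve_right h32
    · intro k _ hk
      by_cases hj : k.1 = p ∨ k.1 = q
      · rw [hpq k hj, zero_mul]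
      · push Not at hj
        rw [hN j k hj.1 hj.2, if_neg (Ne.symm hk), Int.cast_zero, mul_zero]
    · intro h; exact absurd (Finset.mem_univ _) h
  rw [expand hu h0]
  exact Finset.sum_eq_zero fun j _ => by rw [hz j, zero_smul]

theorem kc_of {t5 a b : G} (h5a : t5 * a = a * t5) (h5b : t5 * b = b * t5) (hab : a * b = b * a)
    {Ia Ib : Lane U → F} (fa : sigma h2 a Ia = Ia) (fb : sigma h2 b Ib = Ib)
    (f5 : sigma h2 t5 (Pi.single bI 1) = Pi.single bI 1)
    (Ua : ∀ i, ¬ Cd.isU i → Ia i = 0) (Ub : ∀ i, ¬ Cd.isU i → Ib i = 0) {p q : Fin 22} {sa sb : F}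
    (hsa : sa ≠ 0) (hsb : sb ≠ 0)
    (ap : Ia (bA p) = sa) (aq : Ia (bA q) = 0) (bp : Ib (bA p) = 0) (bq : Ib (bA q) = sb)
    (ker : ∀ u : Lane U → F, (∀ i, ¬ Cd.isU i → u i = 0) → u bI = 0 → (∀ j : Fin 22, j.1 = p.1 ∨ j.1 = q.1 → u (bA j) = 0) →
      T3 h2 t5 a b u = 0 → u = 0) :
    Kc (sigma h2) D t5 (Pi.single bI 1 : Lane U → F) a b := by
  intro u hu hT
  rw [inU_iff, BE.mem_U] at hu
  have hu' : ∀ i, ¬ Cd.isU i → u i = 0 := by
    have : u ∈ BE.U (M h2) := by rw [BE.mem_U]; exact hu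
    exact this
  have e5a : (1 - sigma h2 t5) * (1 - sigma h2 a) = (1 - sigma h2 a) * (1 - sigma h2 t5) := by
    have : sigma h2 t5 * sigma h2 a = sigma h2 a * sigma h2 t5 := by rw [← map_mul, h5a, map_mul]
    rw [sub_mul, sub_mul, one_mul, one_mul, mul_sub, mul_sub, mul_one, mul_one, this]
    abel
  have e5b : (1 - sigma h2 t5) * (1 - sigma h2 b) = (1 - sigma h2 b) * (1 - sigma h2 t5) := by
    have : sigma h2 t5 * sigma h2 b = sigma h2 b * sigma h2 t5 := by rw [← map_mul, h5b, map_mul]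
    rw [sub_mul, sub_mul, one_mul, one_mul, mul_sub, mul_sub, mul_one, mul_one, this]
    abel
  have eab : (1 - sigma h2 a) * (1 - sigma h2 b) = (1 - sigma h2 b) * (1 - sigma h2 a) := by
    have : sigma h2 a * sigma h2 b = sigma h2 b * sigma h2 a := by rw [← map_mul, hab, map_mul]
    rw [sub_mul, sub_mul, one_mul, one_mul, mul_sub, mul_sub, mul_one, mul_one, this]
    abel
  have za : (1 - sigma h2 a) Ia = 0 := by
    show Ia - sigma h2 a Ia = 0
    rw [fa, sub_self]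
  have zb : (1 - sigma h2 b) Ib = 0 := by
    show Ib - sigma h2 b Ib = 0
    rw [fb, sub_self]
  have z5 : (1 - sigma h2 t5) (Pi.single bI 1 : Lane U → F) = 0 := by
    show (Pi.single bI 1 : Lane U → F) - sigma h2 t5 (Pi.single bI 1) = 0
    rw [f5, sub_self]
  have hABa : ((1 - sigma h2 a) * (1 - sigma h2 b)) Ia = 0 := by
    rw [eab, Module.End.mul_apply, za, map_zero]
  have hABb : ((1 - sigma h2 a) * (1 - sigma h2 b)) Ib = 0 := by
    rw [Module.End.mul_apply, zb, map_zero]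
  have hT0 : T3 h2 t5 a b (Pi.single bI 1) = 0 := by
    unfold T3
    rw [e5a, mul_assoc, e5b, Module.End.mul_apply, Module.End.mul_apply, z5, map_zero, map_zero]
  have hTa : T3 h2 t5 a b Ia = 0 := by
    unfold T3
    rw [mul_assoc, Module.End.mul_apply, hABa, map_zero]
  have hTb : T3 h2 t5 a b Ib = 0 := by
    unfold T3
    rw [mul_assoc, Module.End.mul_apply, hABb, map_zero]
  set α : F := u (bA p) / sa with hα
  set β : F := u (bA q) / sb with hβ
  set c : F := u bI - α * Ia bI - β * Ib bI with hc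
  have hne : ∀ j, bA j ≠ bI := by
    intro j h
    have := congrArg Subtype.val h
    change 1344 + (j.1 + 1) = 1344 at this
    omega
  have hker := ker (u - c • (Pi.single bI 1 : Lane U → F) - α • Ia - β • Ib) ?_ ?_ ?_ ?_
  · refine ⟨c, ?_⟩
    have h1 : u = c • (Pi.single bI 1 : Lane U → F) + α • Ia + β • Ib := by
      rw [sub_sub, sub_sub, sub_eq_zero] at hker
      rw [hker]
      abel
    have h3 : ∀ v : Lane U → F, Δ (sigma h2) a (Δ (sigma h2) b v) = ((1 - sigma h2 a) * (1 - sigma h2 b)) v :=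
      fun v => rfl
    rw [h3, h3]
    conv_lhs => rw [h1]
    rw [map_add, map_add, map_smul _ α, map_smul _ β, hABa, hABb, smul_zero, smul_zero, add_zero, add_zero]
  · intro i hi
    have h1 : (Pi.single bI 1 : Lane U → F) i = 0 := by
      rw [Pi.single_eq_of_ne]
      rintro rfl
      exact hi BTI.isU_I
    rw [Pi.sub_apply, Pi.sub_apply, Pi.sub_apply, Pi.smul_apply, Pi.smul_apply, Pi.smul_apply, hu' i hi, h1, Ua i hi,
      Ub i hi]
    simp
  · rw [Pi.sub_apply, Pi.sub_apply, Pi.sub_apply, Pi.smul_apply, Pi.smul_apply, Pi.smul_apply, Pi.single_eq_same,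
      smul_eq_mul, smul_eq_mul, smul_eq_mul, hc]
    ring
  · intro j hj
    rw [Pi.sub_apply, Pi.sub_apply, Pi.sub_apply, Pi.smul_apply, Pi.smul_apply, Pi.smul_apply,
      Pi.single_eq_of_ne (hne j), smul_eq_mul, smul_eq_mul, smul_eq_mul]
    rcases hj with hj | hj
    · obtain rfl : j = p := Fin.ext hj
      rw [ap, bp, hα]
      field_simp
      ring
    · obtain rfl : j = q := Fin.ext hj
      rw [aq, bq, hβ]
      field_simp
      ring
  · rw [map_sub, map_sub, map_sub, map_smul, map_smul, map_smul, hT0, hTa, hTb, T3_apply, hT]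
    simp

end

end Cfsg.Agent.H863.SKer

private theorem dce_8163b88e3524 : _root_.True := by
  try have : _root_.True := by simp only [_root_.Cfsg.Agent.H863.SKer.entM.eq_1]
  try have : _root_.True := by simp only [_root_.Cfsg.Agent.H863.SLift.Δ.eq_1]
  exact _root_.True.intro
end
end
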