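import Mathlib
import Cfsg.Agent.H863.SKer
import Cfsg.Agent.BMx.FastV
import Cfsg.Agent.ChevalleyStructure.CoxeterGeom
import Cfsg.Agent.H723.Pair.BChar
import Cfsg.Agent.Lib.ListFast
import Cfsg.Agent.FastGrp
import Cfsg.Agent.Prune
set_option linter.all false

-- part: H863/SPair
section
prune_inst 0x7fffffffffffffffffffffffffffdffffffffffffffffffffffdfffffffffffffffffbfffffffffffff7f77fffff7fdfffffffffe3ffffffffffffffdffffffffffffd7d73ffbfffdfff7ffffbffffee7f3fffffffffffffffffffffffffffffffffffffffff
set_option linter.all false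
open scoped Cfsg.Agent.FastGrp

-- part: H863/SPair
section
/-!
# The pair conditions for the even generators (helper863, for S5590)
-/

set_option autoImplicit false
set_option Elab.async false

namespace Cfsg.Agent.H863.SPair

open Cfsg.Agent.Monster Cfsg.Agent.Monster.VecEngine Cfsg.Agent.Monster.VecSpace
open Cfsg.Agent.Monster.PauliBasic Cfsg.Agent.Monster.PauliRep Cfsg.Agent.Monster.PauliClif Cfsg.Agent.Monster.PauliBits
open Cfsg.Agent.BabyM.QAct Cfsg.Agent.BabyM.QData Cfsg.Agent.BabyM.QData.Good Cfsg.Agent.BabyM.KRow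
open Cfsg.Agent.BabyM.Conc Cfsg.Agent.BabyM.KTab Cfsg.Agent.BabyM.KQ
open Cfsg.Agent.BabyM
open Cfsg.Agent.H863.BRep Cfsg.Agent.H863.BCode
open Cfsg.Agent.H863.STT Cfsg.Agent.H863.SLift Cfsg.Agent.H863.SData Cfsg.Agent.H863.SMod
open Cfsg.Spor.BabyMonster

theorem g1 : BMx.Fast.allEq (genL .t1) = true := by decide +kernel

theorem g3 : BMx.Fast.allEq (genL .t3) = true := by decide +kernel

theorem g5 : BMx.Fast.allEq (genL .t5) = true := by decide +kernel

theorem g7 : BMx.Fast.allEq (genL .t7) = true := by decide +kernel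

theorem g10 : BMx.Fast.allEq (genL .t10) = true := by decide +kernel

theorem sq_word {v : List Ltr} (h : (v ++ v).all isq = true) (h0 : cw (v ++ v) = 0) : gW v * gW v = 1 := by
  rw [← gW_append, gW_R h, h0, dec_zero, map_one]

theorem comm_x {a b : Gen} (h : BM.StageW.chk (BM.StageW.tw a ++ BM.StageW.tw b) (BM.StageW.tw b ++ BM.StageW.tw a) = true) :
    x a * x b = x b * x a := BM.StageW.comm_of Instance.all Instance.ok h

theorem braid_x {a b : Gen} (h : BM.StageW.chk (BM.StageW.tw a ++ BM.StageW.tw b ++ BM.StageW.tw a)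
    (BM.StageW.tw b ++ BM.StageW.tw a ++ BM.StageW.tw b) = true) :
    x a * x b * x a = x b * x a * x b := BM.StageW.braid_of Instance.all Instance.ok h

theorem f1 : Fct .t1 0x17742f where
  za := za_eqF (hz_of g1) (by decide +kernel) (by decide +kernel)
  cb := cb_of g1

theorem f3 : Fct .t3 0x1efdf3 where
  za := za_eqF (hz_of g3) (by decide +kernel) (by decide +kernel)
  cb := cb_of g3

theorem f5 : Fct .t5 0x400400 where
  za := za_eqF (hz_of g5) (by decide +kernel) (by decide +kernel)
  cb := cb_of g5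

theorem f7 : Fct .t7 0xfb42c where
  za := za_eqF (hz_of g7) (by decide +kernel) (by decide +kernel)
  cb := cb_of g7

theorem f10 : Fct .t10 0x5f7a49 where
  za := za_eqF (hz_of g10) (by decide +kernel) (by decide +kernel)
  cb := cb_of g10

theorem s1 : ∃ S : Subgroup G, TT S ∧ x .t1 ∈ S ∧ D.Q ≤ S :=
  singleF (hz_of g1) (by decide +kernel) (cz := 0x17742f) (by decide +kernel) (o := BM.StageW.tw .t2) (co := 0x6e3)
    (by decide +kernel) (by decide +kernel) (x_sq .t2) (braid_x BM.StageW.c1_2) (by decide +kernel)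

theorem s3 : ∃ S : Subgroup G, TT S ∧ x .t3 ∈ S ∧ D.Q ≤ S :=
  singleF (hz_of g3) (by decide +kernel) (cz := 0x1efdf3) (by decide +kernel) (o := BM.StageW.tw .t2) (co := 0x6e3)
    (by decide +kernel) (by decide +kernel) (x_sq .t2) ((braid_x BM.StageW.c2_3).symm) (by decide +kernel)

theorem s5 : ∃ S : Subgroup G, TT S ∧ x .t5 ∈ S ∧ D.Q ≤ S :=
  singleF (hz_of g5) (by decide +kernel) (cz := 0x400400) (by decide +kernel) (o := BM.StageW.tw .t4) (co := 0x26b4a8)
    (by decide +kernel) (by decide +kernel) (x_sq .t4) ((braid_x BM.StageW.c4_5).symm) (by decide +kernel)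

theorem s7 : ∃ S : Subgroup G, TT S ∧ x .t7 ∈ S ∧ D.Q ≤ S :=
  singleF (hz_of g7) (by decide +kernel) (cz := 0xfb42c) (by decide +kernel) (o := BM.StageW.tw .t6) (co := 0x35e448)
    (by decide +kernel) (by decide +kernel) (x_sq .t6) ((braid_x BM.StageW.c6_7).symm) (by decide +kernel)

theorem s10 : ∃ S : Subgroup G, TT S ∧ x .t10 ∈ S ∧ D.Q ≤ S :=
  singleF (hz_of g10) (by decide +kernel) (cz := 0x5f7a49) (by decide +kernel) (o := BM.StageW.tw .t9) (co := 0x21a14b)
    (by decide +kernel) (by decide +kernel) (x_sq .t9) ((braid_x BM.StageW.c9_10).symm) (by decide +kernel)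

theorem c1_3 : x .t1 * x .t3 = x .t3 * x .t1 := comm_x BM.StageW.c1_3

theorem l1_3 : lanesOK (0x201000 :: (A1_3.map Prod.snd ++ B1_3.map Prod.snd)) = true := by decide +kernel

theorem p1_3 {F : Type*} [Field F] (h2 : (2 : F) ≠ 0) : Pair (sigma h2) D (x .t1) (x .t3) :=
  pair_ofF h2 f1 f3 c1_3 (v := r1_3) (by decide +kernel) (cr := 0x201000) (by decide +kernel)
    (sq_word (by decide +kernel) (by decide +kernel)) (A := A1_3) (B := B1_3) (by decide +kernel) (by decide +kernel)
    (by decide +kernel) (by decide +kernel) l1_3 (by decide +kernel)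

theorem c1_5 : x .t1 * x .t5 = x .t5 * x .t1 := comm_x BM.StageW.c1_5

theorem l1_5 : lanesOK (0x99808 :: (A1_5.map Prod.snd ++ B1_5.map Prod.snd)) = true := by decide +kernel

theorem p1_5 {F : Type*} [Field F] (h2 : (2 : F) ≠ 0) : Pair (sigma h2) D (x .t1) (x .t5) :=
  pair_ofF h2 f1 f5 c1_5 (v := r1_5) (by decide +kernel) (cr := 0x99808) (by decide +kernel)
    (sq_word (by decide +kernel) (by decide +kernel)) (A := A1_5) (B := B1_5) (by decide +kernel) (by decide +kernel)
    (by decide +kernel) (by decide +kernel) l1_5 (by decide +kernel)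

theorem c1_7 : x .t1 * x .t7 = x .t7 * x .t1 := comm_x BM.StageW.c1_7

theorem l1_7 : lanesOK (0x220a20 :: (A1_7.map Prod.snd ++ B1_7.map Prod.snd)) = true := by decide +kernel

theorem p1_7 {F : Type*} [Field F] (h2 : (2 : F) ≠ 0) : Pair (sigma h2) D (x .t1) (x .t7) :=
  pair_ofF h2 f1 f7 c1_7 (v := r1_7) (by decide +kernel) (cr := 0x220a20) (by decide +kernel)
    (sq_word (by decide +kernel) (by decide +kernel)) (A := A1_7) (B := B1_7) (by decide +kernel) (by decide +kernel)
    (by decide +kernel) (by decide +kernel) l1_7 (by decide +kernel)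

theorem c1_10 : x .t1 * x .t10 = x .t10 * x .t1 := comm_x BM.StageW.c1_10

theorem l1_10 : lanesOK (0x340040 :: (A1_10.map Prod.snd ++ B1_10.map Prod.snd)) = true := by decide +kernel

theorem p1_10 {F : Type*} [Field F] (h2 : (2 : F) ≠ 0) : Pair (sigma h2) D (x .t1) (x .t10) :=
  pair_ofF h2 f1 f10 c1_10 (v := r1_10) (by decide +kernel) (cr := 0x340040) (by decide +kernel)
    (sq_word (by decide +kernel) (by decide +kernel)) (A := A1_10) (B := B1_10) (by decide +kernel) (by decide +kernel)
    (by decide +kernel) (by decide +kernel) l1_10 (by decide +kernel)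

theorem c3_5 : x .t3 * x .t5 = x .t5 * x .t3 := comm_x BM.StageW.c3_5

theorem l3_5 : lanesOK (0x15a040 :: (A3_5.map Prod.snd ++ B3_5.map Prod.snd)) = true := by decide +kernel

theorem p3_5 {F : Type*} [Field F] (h2 : (2 : F) ≠ 0) : Pair (sigma h2) D (x .t3) (x .t5) :=
  pair_ofF h2 f3 f5 c3_5 (v := r3_5) (by decide +kernel) (cr := 0x15a040) (by decide +kernel)
    (sq_word (by decide +kernel) (by decide +kernel)) (A := A3_5) (B := B3_5) (by decide +kernel) (by decide +kernel)
    (by decide +kernel) (by decide +kernel) l3_5 (by decide +kernel)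

theorem c3_7 : x .t3 * x .t7 = x .t7 * x .t3 := comm_x BM.StageW.c3_7

theorem l3_7 : lanesOK (0x304030 :: (A3_7.map Prod.snd ++ B3_7.map Prod.snd)) = true := by decide +kernel

theorem p3_7 {F : Type*} [Field F] (h2 : (2 : F) ≠ 0) : Pair (sigma h2) D (x .t3) (x .t7) :=
  pair_ofF h2 f3 f7 c3_7 (v := r3_7) (by decide +kernel) (cr := 0x304030) (by decide +kernel)
    (sq_word (by decide +kernel) (by decide +kernel)) (A := A3_7) (B := B3_7) (by decide +kernel) (by decide +kernel)
    (by decide +kernel) (by decide +kernel) l3_7 (by decide +kernel)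

theorem c3_10 : x .t3 * x .t10 = x .t10 * x .t3 := comm_x BM.StageW.c3_10

theorem l3_10 : lanesOK (0x201000 :: (A3_10.map Prod.snd ++ B3_10.map Prod.snd)) = true := by decide +kernel

theorem p3_10 {F : Type*} [Field F] (h2 : (2 : F) ≠ 0) : Pair (sigma h2) D (x .t3) (x .t10) :=
  pair_ofF h2 f3 f10 c3_10 (v := r3_10) (by decide +kernel) (cr := 0x201000) (by decide +kernel)
    (sq_word (by decide +kernel) (by decide +kernel)) (A := A3_10) (B := B3_10) (by decide +kernel) (by decide +kernel)
    (by decide +kernel) (by decide +kernel) l3_10 (by decide +kernel)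

theorem c5_7 : x .t5 * x .t7 = x .t7 * x .t5 := comm_x BM.StageW.c5_7

theorem l5_7 : lanesOK (0x167c00 :: (A5_7.map Prod.snd ++ B5_7.map Prod.snd)) = true := by decide +kernel

theorem p5_7 {F : Type*} [Field F] (h2 : (2 : F) ≠ 0) : Pair (sigma h2) D (x .t5) (x .t7) :=
  pair_ofF h2 f5 f7 c5_7 (v := r5_7) (by decide +kernel) (cr := 0x167c00) (by decide +kernel)
    (sq_word (by decide +kernel) (by decide +kernel)) (A := A5_7) (B := B5_7) (by decide +kernel) (by decide +kernel)
    (by decide +kernel) (by decide +kernel) l5_7 (by decide +kernel)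

theorem c5_10 : x .t5 * x .t10 = x .t10 * x .t5 := comm_x BM.StageW.c5_10

theorem l5_10 : lanesOK (0x99880 :: (A5_10.map Prod.snd ++ B5_10.map Prod.snd)) = true := by decide +kernel

theorem p5_10 {F : Type*} [Field F] (h2 : (2 : F) ≠ 0) : Pair (sigma h2) D (x .t5) (x .t10) :=
  pair_ofF h2 f5 f10 c5_10 (v := r5_10) (by decide +kernel) (cr := 0x99880) (by decide +kernel)
    (sq_word (by decide +kernel) (by decide +kernel)) (A := A5_10) (B := B5_10) (by decide +kernel) (by decide +kernel)
    (by decide +kernel) (by decide +kernel) l5_10 (by decide +kernel)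

theorem c7_10 : x .t7 * x .t10 = x .t10 * x .t7 := comm_x BM.StageW.c7_10

theorem l7_10 : lanesOK (0x340040 :: (A7_10.map Prod.snd ++ B7_10.map Prod.snd)) = true := by decide +kernel

theorem p7_10 {F : Type*} [Field F] (h2 : (2 : F) ≠ 0) : Pair (sigma h2) D (x .t7) (x .t10) :=
  pair_ofF h2 f7 f10 c7_10 (v := r7_10) (by decide +kernel) (cr := 0x340040) (by decide +kernel)
    (sq_word (by decide +kernel) (by decide +kernel)) (A := A7_10) (B := B7_10) (by decide +kernel) (by decide +kernel)
    (by decide +kernel) (by decide +kernel) l7_10 (by decide +kernel)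

end Cfsg.Agent.H863.SPair
end
end

-- part: H863/SKerD
section
set_option linter.all false
open scoped Cfsg.Agent.FastGrp

/-!
# The kernel of `(1 - t5)(1 - ta)(1 - tb)` on `U` (helper863, for S5590)
-/

set_option autoImplicit false
set_option maxRecDepth 20000
set_option Elab.async false

namespace Cfsg.Agent.H863.SKer

open Cfsg.Agent.Monster Cfsg.Agent.Monster.VecEngine Cfsg.Agent.Monster.VecSpace
open Cfsg.Agent.BabyM.Conc Cfsg.Agent.BabyM.KTab Cfsg.Agent.BabyM.KRow
open Cfsg.Agent.BabyM
open Cfsg.Agent.H863.BRed Cfsg.Agent.H863.BRep Cfsg.Agent.H863.BVec Cfsg.Agent.H863.BGrp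
open Cfsg.Agent.H863.SLift Cfsg.Agent.H863.SMod Cfsg.Agent.H863.BInst Cfsg.Agent.H863.BCheck
open Cfsg.Spor.BabyMonster

/-! ### The fast checks -/

namespace KD

open Cfsg.Agent.Lib.PermNet Cfsg.Agent.BMx.Fast Cfsg.Agent.BMx.FastV

/-- `x - w x` -/
noncomputable def dlF (w : List Ltr) (x : ℕ) (k : ℕ → Bool) : Bool := runW w x fun y => seqB (subF x y) k

theorem dl_sim {x c : ℕ} {y : Pl} (hx : Sim x y c) (hc : 4 * c < 1073741824) {w : List Ltr} {k : ℕ → Bool}
    (h : dlF w x k = true) : ∃ x' z, Sim x' z (4 * c) ∧ k x' = true ∧ ∀ K, dl (w.map Ltr.prog) y K = K z := by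
  obtain ⟨x', z, hz, hk, hK⟩ := hx.run (by omega) h
  rw [seqB_eq] at hk
  refine ⟨_, norm (add y (neg U z) 0), hx.sub hz hc fun i => ?_, hk, fun K => (hK _).trans (go_eq _ K)⟩
  show ((val (norm (add y (neg U z) 0)) i : ℤ) : ℚ) = (val y i : ℚ) - (val z i : ℚ)
  rw [val_norm, val_add, val_neg, bt_zero']
  split_ifs with hi
  · push_cast
    ring
  · have h1 : (val z i : ℚ) = 0 := hz.out hi
    push_cast
    rw [h1]
    ring

/-- the three differences -/
noncomputable def d3F (w5 wa wb : List Ltr) (j : ℕ) (k : ℕ → Bool) : Bool :=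
  seqB (ofPl (e64 (Nat.add 1344 j))) fun x => dlF wb x fun y => dlF wa y fun y => dlF w5 y k

theorem ok64 : allB (fun j => okV (e64 (Nat.add 1344 j)) 4096) 23 = true := by decide +kernel

theorem d3_sim {w5 wa wb : List Ltr} {j : ℕ} (hj : j < 23) {k : ℕ → Bool} (h : d3F w5 wa wb j k = true) :
    ∃ x z, (∀ l, U.testBit l = true → val z l = (rdF x l : ℤ) - 131072) ∧ k x = true ∧
      ∀ K, d3 (w5.map Ltr.prog) (wa.map Ltr.prog) (wb.map Ltr.prog) (e64 (Nat.add 1344 j)) K = K z := by
  unfold d3F at h
  rw [seqB_eq] at h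
  obtain ⟨x1, z1, h1, k1, e1⟩ := dl_sim (sim_of_okV (allB_sound ok64 j hj)).1 (by norm_num) h
  obtain ⟨x2, z2, h2, k2, e2⟩ := dl_sim h1 (by norm_num) k1
  obtain ⟨x3, z3, h3, k3, e3⟩ := dl_sim h2 (by norm_num) k2
  exact ⟨x3, z3, fun l hl => h3.val (sml_sound U_sml l hl), k3, fun K => (e1 _).trans ((e2 _).trans (e3 K))⟩

/-- the check of the columns -/
noncomputable def colsF (w5 wa wb : List Ltr) (L M p q : ℕ) : Bool :=
  all22 fun j => or (Nat.beq j p) (or (Nat.beq j q) (d3F w5 wa wb (Nat.add j 1) fun x => all20 fun r =>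
    Nat.beq (Nat.add (rdF x (pk L 13 r)) 64) (Nat.add (pk M 8 (Nat.add (Nat.mul 22 r) j)) 131072)))

theorem cols_fast {F : Type*} [Field F] (h2 : (2 : F) ≠ 0) {v5 va vb : List Ltr} {L M p q : ℕ}
    (hL : ∀ r : Fin 20, U.testBit (pk L 13 r.1) = true) (h : colsF v5 va vb L M p q = true) (j : Fin 22)
    (hp : j.1 ≠ p) (hq : j.1 ≠ q) :
    ∃ y : Pl, (64 : F) • T3 h2 (gW v5) (gW va) (gW vb) (Pi.single (bA j) 1) = up F (zv y) ∧
      ∀ r : Fin 20, val y (pk L 13 r.1) = entM M r.1 j.1 := by
  have h1 := all22_spec h j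
  rw [Bool.or_eq_true, Bool.or_eq_true] at h1
  rcases h1 with h1 | h1 | h1
  · exact absurd (Nat.eq_of_beq_eq_true h1) hp
  · exact absurd (Nat.eq_of_beq_eq_true h1) hq
  · obtain ⟨x, u, hu, hk, hK⟩ := d3_sim (Nat.succ_lt_succ j.2) h1
    obtain ⟨z, hz, hk'⟩ := d3_sound h2 ((hK fun y => decide (∀ r : Fin 20, val y (pk L 13 r.1) = entM M r.1 j.1)).trans
      (decide_eq_true fun r => by
        have h4 : rdF x (pk L 13 r.1) + 64 = pk M 8 (Nat.add (Nat.mul 22 r.1) j.1) + 131072 :=
          Nat.eq_of_beq_eq_true (all20_spec hk r)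
        rw [hu _ (hL r), entM]
        omega))
    refine ⟨z, ?_, of_decide_eq_true hk'⟩
    have h3 := up_e64 F (bA j)
    rw [← hz, ← map_smul, ← h3, T3_apply]
    rfl

/-- a sum -/
noncomputable def sm (f : ℕ → ℕ) (n : ℕ) : ℕ := Nat.rec (motive := fun _ => ℕ) 0 (fun r ih => Nat.add ih (f r)) n

theorem sm_eq (f : ℕ → ℕ) (n : ℕ) : sm f n = ∑ r ∈ Finset.range n, f r := by
  induction n with
  | zero => rfl
  | succ n ih => rw [Finset.sum_range_succ, ← ih]; rfl

/-- the check of the inverse -/
noncomputable def invF (N M p q : ℕ) : Bool :=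
  allB (fun j => allB (fun k => or (Nat.beq k p) (or (Nat.beq k q) (Nat.beq
    (sm (fun r => Nat.add 512 (Nat.mul (pk N 4 (Nat.add (Nat.mul 20 j) r)) (pk M 8 (Nat.add (Nat.mul 22 r) k)))) 20)
    (Nat.add (Bool.rec 0 32 (Nat.beq j k)) (sm (fun r => Nat.add (Nat.mul 64 (pk N 4 (Nat.add (Nat.mul 20 j) r)))
      (Nat.mul 8 (pk M 8 (Nat.add (Nat.mul 22 r) k)))) 20))))) 22) 22

theorem inv_fast {N M p q : ℕ} (h : invF N M p q = true) (j k : Fin 22) (hp : k.1 ≠ p) (hq : k.1 ≠ q) :
    ∑ r : Fin 20, entN N j.1 r.1 * entM M r.1 k.1 = if j = k then 32 else 0 := by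
  have h1 := allB_sound (allB_sound h j.1 j.2) k.1 k.2
  rw [Bool.or_eq_true, Bool.or_eq_true] at h1
  rcases h1 with h1 | h1 | h1
  · exact absurd (Nat.eq_of_beq_eq_true h1) hp
  · exact absurd (Nat.eq_of_beq_eq_true h1) hq
  · have h3 := Nat.eq_of_beq_eq_true h1
    rw [sm_eq, sm_eq] at h3
    have h4 : (Bool.rec 0 32 (Nat.beq j.1 k.1) : ℕ) = if j = k then 32 else 0 := by
      split_ifs with e
      · rw [e, Nat.beq_refl]
      · cases e' : Nat.beq j.1 k.1 with
        | false => rfl
        | true => exact absurd (Fin.ext (Nat.eq_of_beq_eq_true e')) e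
    rw [h4] at h3
    have h5 := congrArg (Nat.cast : ℕ → ℤ) h3
    rw [Fin.sum_univ_eq_sum_range (fun r => entN N j.1 r * entM M r k.1) 20]
    unfold entN entM
    generalize (fun r => pk N 4 (Nat.add (Nat.mul 20 j.1) r)) = a at h5
    simp only [Nat.add_eq, Nat.mul_eq] at h5 ⊢
    push_cast at h5
    rw [← sub_eq_iff_eq_add, ← Finset.sum_sub_distrib] at h5
    rw [← h5]
    exact Finset.sum_congr rfl fun r _ => by ring

end KD

/-! ### The axes -/

/-- Planes of a vector on `U`. -/
def pl3 (a b s : ℕ) : Pl := .cons (Nat.shiftLeft a 1344) (.cons (Nat.shiftLeft b 1344) (.sgn (Nat.shiftLeft s 1344)))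

theorem bt_out {a : ℕ} (ha : a < 2 ^ 23) {i : Lane U} (hi : ¬ Cd.isU i) : bt (Nat.shiftLeft a 1344) i.1 = 0 := by
  unfold bt
  rw [if_neg]
  intro h
  have h1 : (a <<< 1344).testBit i.1 = true := h
  rw [Nat.testBit_shiftLeft, Bool.and_eq_true, decide_eq_true_eq] at h1
  obtain ⟨h3, h4⟩ := h1
  have h5 : i.1 - 1344 < 23 := by
    by_contra hc
    rw [Nat.testBit_lt_two_pow (lt_of_lt_of_le ha (Nat.pow_le_pow_right (by norm_num) (not_lt.1 hc)))] at h4
    exact absurd h4 (by simp)
  apply hi
  by_cases h0 : i.1 = 1344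
  · have : i = bI := Subtype.ext h0
    rw [this]; exact BTI.isU_I
  · have : i = bA ⟨i.1 - 1345, by omega⟩ := by
      apply Subtype.ext
      show i.1 = 1344 + (i.1 - 1345 + 1)
      omega
    rw [this]; exact BTI.isU_A _

theorem pl3_out {a b s : ℕ} (ha : a < 2 ^ 23) (hb : b < 2 ^ 23) (hs : s < 2 ^ 23) {i : Lane U} (hi : ¬ Cd.isU i)
    (F : Type*) [Field F] : (up F (zv (pl3 a b s)) : Lane U → F) i = 0 := by
  show ((bt (Nat.shiftLeft a 1344) i.1 + 2 * (bt (Nat.shiftLeft b 1344) i.1 + 2 * - bt (Nat.shiftLeft s 1344) i.1) : ℤ) : F) = 0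
  rw [bt_out ha hi, bt_out hb hi, bt_out hs hi]
  simp

section

variable {F : Type*} [Field F] (h2 : (2 : F) ≠ 0)

theorem fix_word {v : List Ltr} {x : Pl} (h : checkFix (v.map Ltr.prog) x = true) :
    sigma h2 (gW v) (up F (zv x)) = up F (zv x) :=
  tr h2 (gW v) (x := zv x) (y := zv x) (W_fix_of_check h)

theorem up_val {x : Pl} {i : Lane U} {m : ℤ} (h : val x i.1 = m) : (up F (zv x) : Lane U → F) i = (m : F) := by
  show ((val x i.1 : ℤ) : F) = _
  rw [h]

end

/-- The axis of `t1`. -/
def I1 : Pl := pl3 0x223404 0x20401 0x20401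

theorem fix_I1 : checkFix ((BM.StageW.tw .t1).map Ltr.prog) I1 = true := by decide +kernel

/-- The axis of `t3`. -/
def I3 : Pl := pl3 0x41906 0x40003 0x40003

theorem fix_I3 : checkFix ((BM.StageW.tw .t3).map Ltr.prog) I3 = true := by decide +kernel

/-- The axis of `t7`. -/
def I7 : Pl := pl3 0x412016 0x412005 0x412004

theorem fix_I7 : checkFix ((BM.StageW.tw .t7).map Ltr.prog) I7 = true := by decide +kernel

/-- The axis of `t10`. -/
def I10 : Pl := pl3 0x21252 0x1201 0x1200

theorem fix_I10 : checkFix ((BM.StageW.tw .t10).map Ltr.prog) I10 = true := by decide +kernel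

theorem fix_5 : checkFix ((BM.StageW.tw .t5).map Ltr.prog) (p1 1344) = true := by decide +kernel

theorem f5 {F : Type*} [Field F] (h2 : (2 : F) ≠ 0) :
    sigma h2 (x .t5) (Pi.single bI 1 : Lane U → F) = Pi.single bI 1 := by
  have h1 := fix_word h2 fix_5
  have h3 := up_p1 F bI
  change up F (zv (p1 1344)) = _ at h3
  rw [h3] at h1
  exact h1

/-! ### `t1, t3` -/

def L1_3 : ℕ := 0x6820ed058829413208d03a817402a0007001f00a8a4a524690f42ba03d014150

def M1_3 : ℕ := 0x4038404050484040403850504040304040404040504038404040404040404040404040484038404840404040404040384040403848404040404040404040484040403840404040404040404040404038403840384040404038404040404040404040404040384048404840404040404048404040384040404040404040404840403840404040404840404048484040404040404040404840404040403840404038404040404040404040484040484040404040484040403838404040404040404040484040404040384040404840404040404040404048404038404048404040404040404040404040384038404840404040404048404040484040404040404040404840404840404040403840404048384040404040404040404840404040404040484040404040404840403840404040404040404040403840404040404048404038404040404040404040404038404040404040384040384040404040404040484040403840404038404040404040404040404040403840404038404040484040404040404040404040404038404040384040403840404040404040404040404040404040404040404040484040404040404040403840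

def N1_3 : ℕ := 0x878778888898888888888888888888888888a86888888987878988888888887888989888788888888888888888888a6888888888888888888888668888888787898988888888887888987888988888888898889878887888888888888888888888888a689888888888888688997a88888888888888a6888888888888888888888888898778888878888888888888888888888686888887879888887888888888888889898989888888888987988888988888888888988898988898888888888887898789888888889888888888888688997688888888888888888888

theorem lanes1_3 : ∀ r : Fin 20, U.testBit (pk L1_3 13 r.1) = true := by decide +kernel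

theorem KD.cols1_3 : KD.colsF (BM.StageW.tw .t5) (BM.StageW.tw .t1) (BM.StageW.tw .t3)
    L1_3 M1_3 9 0 = true := by decide +kernel

theorem inv1_3 : ∀ j k : Fin 22, k.1 ≠ 9 → k.1 ≠ 0 →
    ∑ r : Fin 20, entN N1_3 j.1 r.1 * entM M1_3 r.1 k.1 = if j = k then 32 else 0 :=
  KD.inv_fast (by decide +kernel)

theorem kc1_3 {F : Type*} [Field F] (h2 : (2 : F) ≠ 0) :
    Kc (sigma h2) D (x .t5) (Pi.single bI 1 : Lane U → F) (x .t1) (x .t3) :=
  kc_of h2 (t5 := x .t5) (a := x .t1) (b := x .t3) (p := 9) (q := 0) SPair.c1_5.symm SPair.c3_5.symm SPair.c1_3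
    (Ia := up F (zv I1)) (Ib := up F (zv I3))
    (fix_word h2 fix_I1) (fix_word h2 fix_I3) (f5 h2)
    (fun i hi => pl3_out (by norm_num) (by norm_num) (by norm_num) hi F)
    (fun i hi => pl3_out (by norm_num) (by norm_num) (by norm_num) hi F)
    (sa := ((-1 : ℤ) : F)) (sb := ((-1 : ℤ) : F)) (by simp) (by simp)
    (up_val (by decide +kernel)) ((up_val (m := 0) (by decide +kernel)).trans Int.cast_zero)
    ((up_val (m := 0) (by decide +kernel)).trans Int.cast_zero) (up_val (by decide +kernel))
    (fun u hu h0 hpq hT => kernel_zero h2 _ lanes1_3 (KD.cols_fast h2 lanes1_3 KD.cols1_3) inv1_3 hu h0 hpq hT)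

/-! ### `t1, t7` -/

def L1_7 : ℕ := 0x161217909884a423207902880c40520004c00f00202961498a0a4a62519218043

def M1_7 : ℕ := 0x3850404040503840405030404040404040404840504040404040484040404840404040484040484040404040404040404040404840404048404040484040404840404040404040404048404040484040403840404038404040404040484040403840404040384040484040404040404038484040404040404040404038404048404040404040404040404048404040384040403840404048404040404848404040404040404040403840403840404040404040404840404048404040403840403840404040404040384840404040404040404040484040384040404040403838404040404040404040403840403840404040404040403840404048404040403840404840404040404040404040404048404040384040404840404038404040484040403840404040384040404040404040404040404840404048404040404840404040404040404040404048404040484040404038404040404040404040404048404040404038404040404040404040404038404040484040404040484040404040404040404040484040404840404040403840404040404040404040404840404040404040404040404038404040404040404040404840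

def N1_7 : ℕ := 0x8888888888888888aa888888888888888aa88888888887898778888888888888898989788888888889889888988788888888888888888888868a888888888888888888888a6888998898888898888888898878889889888888889888888888888886997688888888888888a6888888998878888878888888888888888888888888888988788878878888888888888787897888888888889788788888988888888988988878898888888888888987877888888888888888888888888868a8889788988888788888889888888888888886997a88888888888888888888

theorem lanes1_7 : ∀ r : Fin 20, U.testBit (pk L1_7 13 r.1) = true := by decide +kernel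

theorem KD.cols1_7 : KD.colsF (BM.StageW.tw .t5) (BM.StageW.tw .t1) (BM.StageW.tw .t7)
    L1_7 M1_7 9 0 = true := by decide +kernel

theorem inv1_7 : ∀ j k : Fin 22, k.1 ≠ 9 → k.1 ≠ 0 →
    ∑ r : Fin 20, entN N1_7 j.1 r.1 * entM M1_7 r.1 k.1 = if j = k then 32 else 0 :=
  KD.inv_fast (by decide +kernel)

theorem kc1_7 {F : Type*} [Field F] (h2 : (2 : F) ≠ 0) :
    Kc (sigma h2) D (x .t5) (Pi.single bI 1 : Lane U → F) (x .t1) (x .t7) :=
  kc_of h2 (t5 := x .t5) (a := x .t1) (b := x .t7) (p := 9) (q := 0) SPair.c1_5.symm SPair.c5_7 SPair.c1_7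
    (Ia := up F (zv I1)) (Ib := up F (zv I7))
    (fix_word h2 fix_I1) (fix_word h2 fix_I7) (f5 h2)
    (fun i hi => pl3_out (by norm_num) (by norm_num) (by norm_num) hi F)
    (fun i hi => pl3_out (by norm_num) (by norm_num) (by norm_num) hi F)
    (sa := ((-1 : ℤ) : F)) (sb := ((1 : ℤ) : F)) (by simp) (by simp)
    (up_val (by decide +kernel)) ((up_val (m := 0) (by decide +kernel)).trans Int.cast_zero)
    ((up_val (m := 0) (by decide +kernel)).trans Int.cast_zero) (up_val (by decide +kernel))
    (fun u hu h0 hpq hT => kernel_zero h2 _ lanes1_7 (KD.cols_fast h2 lanes1_7 KD.cols1_7) inv1_7 hu h0 hpq hT)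

/-! ### `t1, t10` -/

def L1_10 : ℕ := 0x42a0fd076831418207103281740b204c8022120bc24fd26a91942ea0e906a170

def M1_10 : ℕ := 0x4048404040504040404830403850404050403040404040404038404040404040404040404848404040484040404048404040403840404048404040404048404040404040404840404040404040404040384840404048404040403840404040384040403840404040404840404040404040384040404040404040404038484040403840404040484040404038404040384040404040384040404048404040484038404840404040404040404040404040384040404840484048404040404040404040404040403840404048403840384040404040404040404040404048404040484048403840404040404040404040404040404038404040403840404048404040404038404040404040404840404040404040404040484840404038404040404040404040404040404040484040484038404040404040404040404040404040404840403840484040404040404040404040404040404038404038403840404040484040404040404038404048404040404040404040403840404040404040384040384040404040404040404048404040404040403840403840404040404040404040404040403840404040384040404040404040404040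

def N1_10 : ℕ := 0x88888889779888888888888888888888888886a888987898888788888888878987888888988888888888888999988888888898888888888886889976888888879798888888888878787888878888888888888889977888888888888888888888888866887888888888888a887796889878788889888888888888888888888888a8688888888888888aa888888987878888889888888889898988888898888888888888888888886688888898987888878888888888888888888886868888898987888888788888888888888888888888888888888888888888888888

theorem lanes1_10 : ∀ r : Fin 20, U.testBit (pk L1_10 13 r.1) = true := by decide +kernel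

theorem KD.cols1_10 : KD.colsF (BM.StageW.tw .t5) (BM.StageW.tw .t1) (BM.StageW.tw .t10)
    L1_10 M1_10 1 0 = true := by decide +kernel

theorem inv1_10 : ∀ j k : Fin 22, k.1 ≠ 1 → k.1 ≠ 0 →
    ∑ r : Fin 20, entN N1_10 j.1 r.1 * entM M1_10 r.1 k.1 = if j = k then 32 else 0 :=
  KD.inv_fast (by decide +kernel)

theorem kc1_10 {F : Type*} [Field F] (h2 : (2 : F) ≠ 0) :
    Kc (sigma h2) D (x .t5) (Pi.single bI 1 : Lane U → F) (x .t1) (x .t10) :=
  kc_of h2 (t5 := x .t5) (a := x .t1) (b := x .t10) (p := 1) (q := 0) SPair.c1_5.symm SPair.c5_10 SPair.c1_10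
    (Ia := up F (zv I1)) (Ib := up F (zv I10))
    (fix_word h2 fix_I1) (fix_word h2 fix_I10) (f5 h2)
    (fun i hi => pl3_out (by norm_num) (by norm_num) (by norm_num) hi F)
    (fun i hi => pl3_out (by norm_num) (by norm_num) (by norm_num) hi F)
    (sa := ((1 : ℤ) : F)) (sb := ((1 : ℤ) : F)) (by simp) (by simp)
    (up_val (by decide +kernel)) ((up_val (m := 0) (by decide +kernel)).trans Int.cast_zero)
    ((up_val (m := 0) (by decide +kernel)).trans Int.cast_zero) (up_val (by decide +kernel))
    (fun u hu h0 hpq hT => kernel_zero h2 _ lanes1_10 (KD.cols_fast h2 lanes1_10 KD.cols1_10) inv1_10 hu h0 hpq hT)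

/-! ### `t3, t7` -/

def L3_7 : ℕ := 0x69214509e84a422a07503081740620246241e2049296d49ea0942f216d006090

def M3_7 : ℕ := 0x4840404050404840404850504040404040404040305040404040404840403840404040404040404840484040404038404040403840404040483840404040404040404040404040384040384040404040404040484038404040403840404040384040404038484040404040404040404040404048404048404040404040404048403840404048403840404040404040404040403838404040404040384038404040404040404040404038484040404040404048404040403840404040484840404040404040404038404840404040404040404040403838404040404040384038404040404040404040404048384040404040404038404040404840404040484840404040404040404040404040484040384040404040404040384038404040404040484040404040484840404040404040404040404040404840404040403848404040404040404040404040404038404040404038484040404040404040404038404040404048404038404040404040404040404040484040404040384040384040404040404040404040403840404040403840404840404040404040404040404040404040404040404040404040404040404040404848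

def N3_7 : ℕ := 0x8888888888888888686888888897877888888888887878889887888888888888887789788888888888888888888888a6888889878988888898888888888888888888888886688878788878898888888887878988888878888888888888888888888866888888888888888a6888888888888888888a8a888888987888988988888888887898889889888888888888888888888888888888888877879888888888888888798778888888888989898888887888888888888888888888888888898787888888788888887888888888888a88777a9888888888888688999a

theorem lanes3_7 : ∀ r : Fin 20, U.testBit (pk L3_7 13 r.1) = true := by decide +kernel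

theorem KD.cols3_7 : KD.colsF (BM.StageW.tw .t5) (BM.StageW.tw .t3) (BM.StageW.tw .t7)
    L3_7 M3_7 7 3 = true := by decide +kernel

theorem inv3_7 : ∀ j k : Fin 22, k.1 ≠ 7 → k.1 ≠ 3 →
    ∑ r : Fin 20, entN N3_7 j.1 r.1 * entM M3_7 r.1 k.1 = if j = k then 32 else 0 :=
  KD.inv_fast (by decide +kernel)

theorem kc3_7 {F : Type*} [Field F] (h2 : (2 : F) ≠ 0) :
    Kc (sigma h2) D (x .t5) (Pi.single bI 1 : Lane U → F) (x .t3) (x .t7) :=
  kc_of h2 (t5 := x .t5) (a := x .t3) (b := x .t7) (p := 7) (q := 3) SPair.c3_5.symm SPair.c5_7 SPair.c3_7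
    (Ia := up F (zv I3)) (Ib := up F (zv I7))
    (fix_word h2 fix_I3) (fix_word h2 fix_I7) (f5 h2)
    (fun i hi => pl3_out (by norm_num) (by norm_num) (by norm_num) hi F)
    (fun i hi => pl3_out (by norm_num) (by norm_num) (by norm_num) hi F)
    (sa := ((1 : ℤ) : F)) (sb := ((1 : ℤ) : F)) (by simp) (by simp)
    (up_val (by decide +kernel)) ((up_val (m := 0) (by decide +kernel)).trans Int.cast_zero)
    ((up_val (m := 0) (by decide +kernel)).trans Int.cast_zero) (up_val (by decide +kernel))
    (fun u hu h0 hpq hT => kernel_zero h2 _ lanes3_7 (KD.cols_fast h2 lanes3_7 KD.cols3_7) inv3_7 hu h0 hpq hT)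

/-! ### `t3, t10` -/

def L3_10 : ℕ := 0x40a4752309174892405030817407202c9021d10b0a43920882d4112011002160

def M3_10 : ℕ := 0x4040404048504040404050384030384050404040403040404038404038404040404048404040403840404040484840404040404840404040404040404040403840404040384040404040384840404040403840404040404038384040404040484040404040404040404040384040384840404040404840404040404040404040404840404040403840404840404040403840404040384040404040403840404040404838404040404038404040404040404040484040484040404040484040404038404040404040484040404040484840404040403840404040404048384040404040484040404040404040404040484040404048404040404038384040404040384040404040404040404840403840404040403840404040384040404040404040404840404040404040384040384040404040404040404840404040404048404048404040404040404040404038404040404040384040484040404040404040404040484040404040403840404840404040404040404040404038404040404040403840404840404040404040404040484040404040404048404048404040404040404040404040404040484040404040404040404048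

def N3_10 : ℕ := 0x889877888898888888888898798888788888888888878887898988888888878888789888988888888888888888888886a8888888888888888a8888a8878888989888788888888898998888988888888888878889898788888888888988878987888888889888888888888699766a88888888888888a86888898888789888788888888888888888888688868888888888888888aa88888887888787878888888888888888888888888aa8878888787888788888888888888888888888888888787988889888888888888888888888888888887888888888888a779aaa

theorem lanes3_10 : ∀ r : Fin 20, U.testBit (pk L3_10 13 r.1) = true := by decide +kernel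

theorem KD.cols3_10 : KD.colsF (BM.StageW.tw .t5) (BM.StageW.tw .t3) (BM.StageW.tw .t10)
    L3_10 M3_10 1 3 = true := by decide +kernel

theorem inv3_10 : ∀ j k : Fin 22, k.1 ≠ 1 → k.1 ≠ 3 →
    ∑ r : Fin 20, entN N3_10 j.1 r.1 * entM M3_10 r.1 k.1 = if j = k then 32 else 0 :=
  KD.inv_fast (by decide +kernel)

theorem kc3_10 {F : Type*} [Field F] (h2 : (2 : F) ≠ 0) :
    Kc (sigma h2) D (x .t5) (Pi.single bI 1 : Lane U → F) (x .t3) (x .t10) :=
  kc_of h2 (t5 := x .t5) (a := x .t3) (b := x .t10) (p := 1) (q := 3) SPair.c3_5.symm SPair.c5_10 SPair.c3_10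
    (Ia := up F (zv I3)) (Ib := up F (zv I10))
    (fix_word h2 fix_I3) (fix_word h2 fix_I10) (f5 h2)
    (fun i hi => pl3_out (by norm_num) (by norm_num) (by norm_num) hi F)
    (fun i hi => pl3_out (by norm_num) (by norm_num) (by norm_num) hi F)
    (sa := ((1 : ℤ) : F)) (sb := ((1 : ℤ) : F)) (by simp) (by simp)
    (up_val (by decide +kernel)) ((up_val (m := 0) (by decide +kernel)).trans Int.cast_zero)
    ((up_val (m := 0) (by decide +kernel)).trans Int.cast_zero) (up_val (by decide +kernel))
    (fun u hu h0 hpq hT => kernel_zero h2 _ lanes3_10 (KD.cols_fast h2 lanes3_10 KD.cols3_10) inv3_10 hu h0 hpq hT)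

/-! ### `t7, t10` -/

def L7_10 : ℕ := 0x40a1a509e848423a0bd05082740720045c025001829ad49aa2d4372185012032

def M7_10 : ℕ := 0x3840404040503840403850404030404040403040403040404040404040384040404040403848404840404040404840404840404048404040484040404040404040404040404040404048404040404040384840384040404040384040484040403840404048404040404040404040404048484040404040404048404040404040404840404040483840404040404040484040404040404038404040404040404040484040404040403838404840404040404840403840404038404040484040404040404040404040384840404040404040484040404040404038404040484040484040403840404038404040404040404040404038384040404040404048404040404040404840404040404040404048404040404040484840484040404040404040404840404040484040484040404040404040404040404048404040404840403840404040404040404040404040484040404038404048404040404040404048404040404038404048404040404040404040404040384040404040384040484040404040404040404040404840404040403840403840404040404040404040404040404040404040404040404040404040404038404048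

def N7_10 : ℕ := 0x8888888888888888a6888898788898988888888888888998878788888888888889788987888888888898988878988888888888888888888888aa88888888888888888888866887898889888898888888889878887878888888888888888888888888a8688888888888888a86888888888998898988888888889898889878888888888888888888888a6888888787888788889888888889898887888898888888888888888888888888888987888988889888888878888888888888a87996888889788789888888888888888888888888888878888888888888a8799a

theorem lanes7_10 : ∀ r : Fin 20, U.testBit (pk L7_10 13 r.1) = true := by decide +kernel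

theorem KD.cols7_10 : KD.colsF (BM.StageW.tw .t5) (BM.StageW.tw .t7) (BM.StageW.tw .t10)
    L7_10 M7_10 1 5 = true := by decide +kernel

theorem inv7_10 : ∀ j k : Fin 22, k.1 ≠ 1 → k.1 ≠ 5 →
    ∑ r : Fin 20, entN N7_10 j.1 r.1 * entM M7_10 r.1 k.1 = if j = k then 32 else 0 :=
  KD.inv_fast (by decide +kernel)

theorem kc7_10 {F : Type*} [Field F] (h2 : (2 : F) ≠ 0) :
    Kc (sigma h2) D (x .t5) (Pi.single bI 1 : Lane U → F) (x .t7) (x .t10) :=
  kc_of h2 (t5 := x .t5) (a := x .t7) (b := x .t10) (p := 1) (q := 5) SPair.c5_7 SPair.c5_10 SPair.c7_10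
    (Ia := up F (zv I7)) (Ib := up F (zv I10))
    (fix_word h2 fix_I7) (fix_word h2 fix_I10) (f5 h2)
    (fun i hi => pl3_out (by norm_num) (by norm_num) (by norm_num) hi F)
    (fun i hi => pl3_out (by norm_num) (by norm_num) (by norm_num) hi F)
    (sa := ((-1 : ℤ) : F)) (sb := ((1 : ℤ) : F)) (by simp) (by simp)
    (up_val (by decide +kernel)) ((up_val (m := 0) (by decide +kernel)).trans Int.cast_zero)
    ((up_val (m := 0) (by decide +kernel)).trans Int.cast_zero) (up_val (by decide +kernel))
    (fun u hu h0 hpq hT => kernel_zero h2 _ lanes7_10 (KD.cols_fast h2 lanes7_10 KD.cols7_10) inv7_10 hu h0 hpq hT)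

/-! ### Nonvanishing -/

theorem nz_of {F : Type*} [Field F] (h2 : (2 : F) ≠ 0) {v1 va vb : List Ltr} {l e : ℕ} {m : ℤ}
    (hl : U.testBit l = true) (he : (e : ℤ) - 64 = m) (hm : (m : F) ≠ 0)
    (h : d3 (v1.map Ltr.prog) (va.map Ltr.prog) (vb.map Ltr.prog) (e64 1344) (fun y => rd y l 1 64 e) = true) :
    Δ (sigma h2) (gW v1) (Δ (sigma h2) (gW va) (Δ (sigma h2) (gW vb) (Pi.single bI 1 : Lane U → F))) ≠ 0 := by
  obtain ⟨z, hz, hk⟩ := d3_sound h2 h
  have h1 := rd_spec hk
  push_cast at h1
  rw [one_mul, he] at h1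
  have h3 := up_e64 F bI
  change up F (zv (e64 1344)) = _ at h3
  rw [h3] at hz
  intro h0
  have hs : ∀ (g : G) (c : F) (v : Lane U → F), Δ (sigma h2) g (c • v) = c • Δ (sigma h2) g v := fun g c v => by
    unfold Δ; rw [map_smul, smul_sub]
  rw [hs, hs, hs, h0, smul_zero] at hz
  obtain ⟨ln, hln⟩ : ∃ i : Lane U, i.1 = l := ⟨⟨l, hl⟩, rfl⟩
  have h4 := congrFun hz ln
  rw [← hln] at h1
  rw [Pi.zero_apply, up_val h1] at h4
  exact hm h4.symm

theorem nz3_7' : d3 ((BM.StageW.tw .t1).map Ltr.prog) ((BM.StageW.tw .t3).map Ltr.prog)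
    ((BM.StageW.tw .t7).map Ltr.prog) (e64 1344) (fun y => rd y 0 1 64 62) = true := by decide +kernel

theorem nz3_7 {F : Type*} [Field F] (h2 : (2 : F) ≠ 0) :
    Δ (sigma h2) (x .t1) (Δ (sigma h2) (x .t3) (Δ (sigma h2) (x .t7) (Pi.single bI 1 : Lane U → F))) ≠ 0 :=
  nz_of h2 (l := 0) (m := -2) (by decide +kernel) (e := 62) (by norm_num)
    (by have h4 : ((-2 : ℤ) : F) = -(2 : F) ^ 1 := by push_cast; norm_num
        rw [h4]; exact neg_ne_zero.2 (pow_ne_zero _ h2)) nz3_7'

theorem nz3_10' : d3 ((BM.StageW.tw .t1).map Ltr.prog) ((BM.StageW.tw .t3).map Ltr.prog)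
    ((BM.StageW.tw .t10).map Ltr.prog) (e64 1344) (fun y => rd y 35 1 64 62) = true := by decide +kernel

theorem nz3_10 {F : Type*} [Field F] (h2 : (2 : F) ≠ 0) :
    Δ (sigma h2) (x .t1) (Δ (sigma h2) (x .t3) (Δ (sigma h2) (x .t10) (Pi.single bI 1 : Lane U → F))) ≠ 0 :=
  nz_of h2 (l := 35) (m := -2) (by decide +kernel) (e := 62) (by norm_num)
    (by have h4 : ((-2 : ℤ) : F) = -(2 : F) ^ 1 := by push_cast; norm_num
        rw [h4]; exact neg_ne_zero.2 (pow_ne_zero _ h2)) nz3_10'

theorem nz7_10' : d3 ((BM.StageW.tw .t1).map Ltr.prog) ((BM.StageW.tw .t7).map Ltr.prog)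
    ((BM.StageW.tw .t10).map Ltr.prog) (e64 1344) (fun y => rd y 242 1 64 60) = true := by decide +kernel

theorem nz7_10 {F : Type*} [Field F] (h2 : (2 : F) ≠ 0) :
    Δ (sigma h2) (x .t1) (Δ (sigma h2) (x .t7) (Δ (sigma h2) (x .t10) (Pi.single bI 1 : Lane U → F))) ≠ 0 :=
  nz_of h2 (l := 242) (m := -4) (by decide +kernel) (e := 60) (by norm_num)
    (by have h4 : ((-4 : ℤ) : F) = -(2 : F) ^ 2 := by push_cast; norm_num
        rw [h4]; exact neg_ne_zero.2 (pow_ne_zero _ h2)) nz7_10'

end Cfsg.Agent.H863.SKer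
end

-- part: H138/CoxEng
section
prune_inst 0x7f00000000000000000000000000000000000000000000000000000000000000000000000000000000000000000000000000000000000000000000000000000000000000000000000000000000000000003fffffffffffffffffffffffffffbeffbdffffffff
set_option linter.all false
open scoped Cfsg.Agent.FastGrp

/-!
# Word identities in the Coxeter group of type `Y433` (the spider with 11 nodes)

`wordEq` : if two words in the 11 nodes act in the same way on the root lattice, then the corresponding products agree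
in every group whose elements `x 1, ..., x 11` satisfy the Coxeter relations of the diagram `edges`.
-/

set_option autoImplicit false

namespace Cfsg.Agent.H138.CoxEng

open Cfsg.Agent.ChevalleyStructure.CoxeterGeom

/-- The edges of the diagram `Y433`. -/
def edges : List (ℕ × ℕ) := [(1,2),(2,3),(3,4),(4,5),(5,6),(6,7),(7,8),(5,9),(9,10),(10,11)]

/-- The rows of the Cartan matrix. -/
def rows : List (List ℤ) :=
  [[2, -1, 0, 0, 0, 0, 0, 0, 0, 0, 0],
   [-1, 2, -1, 0, 0, 0, 0, 0, 0, 0, 0],
   [0, -1, 2, -1, 0, 0, 0, 0, 0, 0, 0],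
   [0, 0, -1, 2, -1, 0, 0, 0, 0, 0, 0],
   [0, 0, 0, -1, 2, -1, 0, 0, -1, 0, 0],
   [0, 0, 0, 0, -1, 2, -1, 0, 0, 0, 0],
   [0, 0, 0, 0, 0, -1, 2, -1, 0, 0, 0],
   [0, 0, 0, 0, 0, 0, -1, 2, 0, 0, 0],
   [0, 0, 0, 0, -1, 0, 0, 0, 2, -1, 0],
   [0, 0, 0, 0, 0, 0, 0, 0, -1, 2, -1],
   [0, 0, 0, 0, 0, 0, 0, 0, 0, -1, 2]]

/-- The Cartan matrix. -/
def A (i j : Fin 11) : ℤ := (rows.getD i []).getD j 0

/-- The Coxeter numbers. -/
def m (i j : Fin 11) : ℕ := if i = j then 1 else if A i j = -1 then 3 else 2

/-- The Coxeter matrix. -/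
def M : CoxeterMatrix (Fin 11) where
  M := Matrix.of m
  isSymm := by
    have h : ∀ i j : Fin 11, m j i = m i j := by decide +kernel
    ext i j
    exact h i j
  diagonal := by
    intro i
    simp [m]
  off_diagonal := by
    intro i j hij
    simp only [Matrix.of_apply, m, if_neg hij]
    split_ifs <;> omega

theorem M_apply (i j : Fin 11) : M i j = m i j := rfl

theorem cartan : IsCartan M A where
  diag := by decide +kernel
  rel := by
    have h : ∀ i j : Fin 11, i ≠ j → (m i j = 2 ∧ A i j = 0 ∧ A j i = 0) ∨ (m i j = 3 ∧ A i j = -1 ∧ A j i = -1) := by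
      decide +kernel
    intro i j hij
    rw [M_apply]
    rcases h i j hij with h1 | h1
    · exact Or.inl h1
    · exact Or.inr (Or.inl h1)

/-! ### Computing with the heights of the images of the simple roots -/

/-- If `f j` is the height of `w (α_j)`, then `st i f` gives the heights of `(w s_i) (α_j)`. -/
def st (i : ℕ) (f : List ℤ) : List ℤ := List.zipWith (fun a b => b - a * f.getD i 0) (rows.getD i []) f

/-- A word (letters `1, ..., 11`) acting on the heights. -/
def act : List ℕ → List ℤ → List ℤ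
  | [], f => f
  | n :: w, f => act w (st (n - 1) f)

/-- All letters lie in `1, ..., 11`. -/
def good (w : List ℕ) : Bool := w.all fun n => Nat.ble 1 n && Nat.ble n 11

/-- All entries are `1`. -/
def ones : List ℤ → Bool
  | [] => true
  | a :: as => (decide (a = 1)) && ones as

/-- The check. -/
def chk (u v : List ℕ) : Bool := good u && good v && ones (act (u ++ v.reverse) [1,1,1,1,1,1,1,1,1,1,1])

/-! ### The abstract Coxeter group -/

/-- The Coxeter system. -/
noncomputable def cs : CoxeterSystem M M.Group := M.toCoxeterSystem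

/-- The node of a letter. -/
def nd (n : ℕ) : Fin 11 := Fin.ofNat 11 (n - 1)

/-- The element of the Coxeter group of a word. -/
noncomputable def W (w : List ℕ) : M.Group := (w.map fun n => cs.simple (nd n)).prod

theorem nd_val {n : ℕ} (h1 : 1 ≤ n) (h2 : n ≤ 11) : ((nd n : Fin 11) : ℕ) = n - 1 := by
  simp only [nd, Fin.val_ofNat]
  exact Nat.mod_eq_of_lt (by omega)

theorem good_cons {n : ℕ} {w : List ℕ} (h : good (n :: w) = true) : (1 ≤ n ∧ n ≤ 11) ∧ good w = true := by
  simp only [good, List.all_cons, Bool.and_eq_true, Nat.ble_eq] at h ⊢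
  exact h

/-- The height. -/
def ht (v : Fin 11 → ℤ) : ℤ := ∑ k, v k

theorem ht_sub (v w : Fin 11 → ℤ) : ht (v - w) = ht v - ht w := by
  simp [ht]

theorem ht_smul (c : ℤ) (v : Fin 11 → ℤ) : ht (c • v) = c * ht v := by
  simp [ht, Finset.mul_sum]

/-- `f` lists the heights of the images of the simple roots under `g`. -/
def Hts (f : List ℤ) (g : M.Group) : Prop :=
  f.length = 11 ∧ ∀ j : Fin 11, f.getD j 0 = ht (rep cs cartan g (Pi.single j 1))

theorem Hts.step {f : List ℤ} {g : M.Group} (h : Hts f g) (i : Fin 11) : Hts (st i f) (g * cs.simple i) := by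
  have hlen : (rows.getD (i : ℕ) []).length = 11 := by
    revert i; decide +kernel
  refine ⟨?_, fun j => ?_⟩
  · rw [st, List.length_zipWith, hlen, h.1, min_self]
  · rw [rep_mul_apply, rep_simple, refl_single, mul_one]
    have h1 : (Pi.single i (A i j) : Fin 11 → ℤ) = A i j • Pi.single i 1 := by
      rw [← Pi.single_smul, smul_eq_mul, mul_one]
    rw [h1, map_sub, map_zsmul, ht_sub, ht_smul, ← h.2 j, ← h.2 i]
    have hj1 : (j : ℕ) < f.length := by rw [h.1]; exact j.2
    have hj2 : (j : ℕ) < (rows.getD (i : ℕ) []).length := by rw [hlen]; exact j.2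
    have hj3 : (j : ℕ) < (st i f).length := by simp only [st, List.length_zipWith]; omega
    rw [List.getD_eq_getElem _ _ hj3, List.getD_eq_getElem _ _ hj1]
    simp only [st, List.getElem_zipWith]
    rw [A, List.getD_eq_getElem _ _ hj2]

theorem Hts.act : ∀ (w : List ℕ) (f : List ℤ) (g : M.Group), good w = true → Hts f g →
    Hts (CoxEng.act w f) (g * W w) := by
  intro w
  induction w with
  | nil => intro f g _ h; simpa [W, CoxEng.act] using h
  | cons n w ih =>
    intro f g hw h
    obtain ⟨⟨h1, h2⟩, h3⟩ := good_cons hw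
    have hW : W (n :: w) = cs.simple (nd n) * W w := by simp [W]
    have := ih _ _ h3 (h.step (nd n))
    rw [nd_val h1 h2] at this
    rw [hW, ← mul_assoc]
    exact this

theorem ones_getD : ∀ (f : List ℤ), ones f = true → ∀ j < f.length, f.getD j 0 = 1 := by
  intro f
  induction f with
  | nil => intro _ j hj; simp at hj
  | cons a f ih =>
    intro h j hj
    simp only [ones, Bool.and_eq_true, decide_eq_true_eq] at h
    cases j with
    | zero => simpa using h.1
    | succ j => simpa using ih h.2 j (by simpa using hj)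

theorem W_append (u v : List ℕ) : W (u ++ v) = W u * W v := by
  simp [W]

theorem W_reverse (w : List ℕ) : W w.reverse = (W w)⁻¹ := by
  induction w with
  | nil => simp [W]
  | cons n w ih =>
    have hW : W (n :: w) = cs.simple (nd n) * W w := by simp [W]
    have h1 : W [n] = cs.simple (nd n) := by simp [W]
    rw [List.reverse_cons, W_append, ih, hW, mul_inv_rev, cs.inv_simple, h1]

theorem good_append {u v : List ℕ} (hu : good u = true) (hv : good v = true) : good (u ++ v) = true := by
  simp only [good, List.all_append, Bool.and_eq_true] at hu hv ⊢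
  exact ⟨hu, hv⟩

theorem good_reverse {u : List ℕ} (hu : good u = true) : good u.reverse = true := by
  simpa only [good, List.all_reverse] using hu

theorem W_eq (u v : List ℕ) (h : chk u v = true) : W u = W v := by
  simp only [chk, Bool.and_eq_true] at h
  obtain ⟨⟨hu, hv⟩, h⟩ := h
  have h0 : Hts [1,1,1,1,1,1,1,1,1,1,1] (1 : M.Group) := by
    refine ⟨rfl, fun j => ?_⟩
    rw [map_one, Module.End.one_apply, ht, Finset.sum_pi_single']
    simp only [Finset.mem_univ, if_true]
    revert j; decide +kernel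
  have h1 := Hts.act (u ++ v.reverse) _ 1 (good_append hu (good_reverse hv)) h0
  rw [one_mul, W_append, W_reverse] at h1
  refine mul_inv_eq_one.1 (eq_one_of_nonneg cs cartan _ fun j => ?_)
  have h2 := h1.2 j
  rw [ones_getD _ h j (by rw [h1.1]; exact j.2)] at h2
  rcases nonneg_or_nonpos cs cartan (W u * (W v)⁻¹) j with h3 | h3
  · exact h3
  · exfalso
    have : ht (rep cs cartan (W u * (W v)⁻¹) (Pi.single j 1)) ≤ 0 := Finset.sum_nonpos fun k _ => h3 k
    omega

/-! ### Transfer to a group with a system of elements satisfying the Coxeter relations -/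

section Transfer

variable {E : Type*} [Group E]

/-- The product of a word. -/
def P (x : ℕ → E) (w : List ℕ) : E := (w.map x).prod

variable (x : ℕ → E)

theorem P_append (u v : List ℕ) : P x (u ++ v) = P x u * P x v := by
  simp [P]

theorem P_nil : P x [] = 1 := rfl

theorem P_cons (n : ℕ) (w : List ℕ) : P x (n :: w) = x n * P x w := by
  simp [P]

theorem P_single (n : ℕ) : P x [n] = x n := by
  simp [P]

/-- The power of a word. -/
def pw (w : List ℕ) : ℕ → List ℕ
  | 0 => []
  | n + 1 => w ++ pw w n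

theorem P_pw (w : List ℕ) (n : ℕ) : P x (pw w n) = P x w ^ n := by
  induction n with
  | zero => simp [pw, P]
  | succ n ih => rw [pw, P_append, ih, pow_succ']

variable {x}
variable (sq : ∀ i, 1 ≤ i → i ≤ 11 → x i * x i = 1)
  (cm : ∀ i j, 1 ≤ i → i < j → j ≤ 11 → (i, j) ∉ edges → x i * x j = x j * x i)
  (br : ∀ i j, (i, j) ∈ edges → x i * x j * x i = x j * x i * x j)

include sq in
theorem P_reverse (w : List ℕ) (hw : good w = true) : P x w.reverse = (P x w)⁻¹ := by
  induction w with
  | nil => simp [P]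
  | cons n w ih =>
    obtain ⟨⟨h1, h2⟩, h3⟩ := good_cons hw
    rw [List.reverse_cons, P_append, P_single, P_cons, ih h3, mul_inv_rev]
    congr 1
    exact eq_inv_of_mul_eq_one_left (sq n h1 h2)

include sq cm br in
theorem liftable : M.IsLiftable (fun i : Fin 11 => x (i + 1)) := by
  have h : ∀ i j : Fin 11, (i : ℕ) < j →
      (((i : ℕ) + 1, (j : ℕ) + 1) ∉ edges ∧ m i j = 2 ∧ m j i = 2) ∨
      (((i : ℕ) + 1, (j : ℕ) + 1) ∈ edges ∧ m i j = 3 ∧ m j i = 3) := by
    decide +kernel
  intro i j
  rw [M_apply]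
  have hi := sq (i + 1) (by omega) (by omega)
  have hj := sq (j + 1) (by omega) (by omega)
  rcases lt_trichotomy (i : ℕ) (j : ℕ) with hij | hij | hij
  · rcases h i j hij with ⟨h1, h2, -⟩ | ⟨h1, h2, -⟩
    · have hc := cm (i + 1) (j + 1) (by omega) (by omega) (by omega) h1
      rw [h2, pow_two]
      calc x (i + 1) * x (j + 1) * (x (i + 1) * x (j + 1)) 
          = x (i + 1) * (x (j + 1) * x (i + 1)) * x (j + 1) := by group
        _ = x (i + 1) * (x (i + 1) * x (j + 1)) * x (j + 1) := by rw [hc]
        _ = (x (i + 1) * x (i + 1)) * (x (j + 1) * x (j + 1)) := by group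
        _ = 1 := by rw [hi, hj, one_mul]
    · have hc := br (i + 1) (j + 1) h1
      rw [h2]
      calc (x (i + 1) * x (j + 1)) ^ 3 
          = (x (i + 1) * x (j + 1) * x (i + 1)) * (x (j + 1) * x (i + 1) * x (j + 1)) := by
            rw [pow_succ, pow_two]; simp only [mul_assoc]
        _ = (x (j + 1) * x (i + 1) * x (j + 1)) * (x (j + 1) * x (i + 1) * x (j + 1)) := by rw [hc]
        _ = x (j + 1) * (x (i + 1) * (x (j + 1) * x (j + 1)) * x (i + 1)) * x (j + 1) := by group
        _ = 1 := by rw [hj, mul_one, hi, mul_one, hj]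
  · have hij' : i = j := Fin.ext hij
    subst hij'
    have : m i i = 1 := by simp [m]
    rw [this, pow_one, hi]
  · rcases h j i hij with ⟨h1, -, h2⟩ | ⟨h1, -, h2⟩
    · have hc := cm (j + 1) (i + 1) (by omega) (by omega) (by omega) h1
      rw [h2, pow_two]
      calc x (i + 1) * x (j + 1) * (x (i + 1) * x (j + 1)) 
          = x (i + 1) * (x (j + 1) * x (i + 1)) * x (j + 1) := by group
        _ = x (i + 1) * (x (i + 1) * x (j + 1)) * x (j + 1) := by rw [hc]
        _ = (x (i + 1) * x (i + 1)) * (x (j + 1) * x (j + 1)) := by group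
        _ = 1 := by rw [hi, hj, one_mul]
    · have hc := br (j + 1) (i + 1) h1
      rw [h2]
      calc (x (i + 1) * x (j + 1)) ^ 3 
          = (x (i + 1) * x (j + 1) * x (i + 1)) * (x (j + 1) * x (i + 1) * x (j + 1)) := by
            rw [pow_succ, pow_two]; simp only [mul_assoc]
        _ = (x (i + 1) * x (j + 1) * x (i + 1)) * (x (i + 1) * x (j + 1) * x (i + 1)) := by rw [hc]
        _ = x (i + 1) * (x (j + 1) * (x (i + 1) * x (i + 1)) * x (j + 1)) * x (i + 1) := by group
        _ = 1 := by rw [hi, mul_one, hj, mul_one, hi]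

include sq cm br in
/-- **Word identities.** -/
theorem wordEq (u v : List ℕ) (h : chk u v = true) : P x u = P x v := by
  have hL := liftable sq cm br
  have hP : ∀ w : List ℕ, good w = true → P x w = cs.lift ⟨_, hL⟩ (W w) := by
    intro w hw
    induction w with
    | nil => simp [P, W]
    | cons n w ih =>
      obtain ⟨⟨h1, h2⟩, h3⟩ := good_cons hw
      have : W (n :: w) = cs.simple (nd n) * W w := by simp [W]
      rw [P_cons, this, map_mul, ← ih h3, cs.lift_apply_simple hL, nd_val h1 h2, Nat.sub_add_cancel h1]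
  have h' := h
  simp only [chk, Bool.and_eq_true] at h'
  rw [hP u h'.1.1, hP v h'.1.2, W_eq u v h]

end Transfer

end Cfsg.Agent.H138.CoxEng

private theorem dce_e5be83ffccfb : _root_.True := by
  try have : _root_.True := by simp only [_root_.Cfsg.Agent.H138.CoxEng.act.eq_1]
  try have : _root_.True := by simp only [_root_.Cfsg.Agent.H138.CoxEng.pw.eq_1]
  try have : _root_.True := by simp only [_root_.Cfsg.Agent.H138.CoxEng.ones.eq_2]
  try have : _root_.True := by simp only [_root_.Cfsg.Agent.H138.CoxEng.st.eq_1]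
  try have : _root_.True := by simp only [_root_.Cfsg.Agent.H138.CoxEng.A.eq_1]
  try have : _root_.True := by simp only [_root_.Cfsg.Agent.H138.CoxEng.ht.eq_1]
  try have : _root_.True := by simp only [_root_.Cfsg.Agent.H138.CoxEng.pw.eq_def]
  try have : _root_.True := by simp only [_root_.Cfsg.Agent.H138.CoxEng.act.eq_2]
  try have : _root_.True := by simp only [_root_.Cfsg.Agent.H138.CoxEng.good.eq_1]
  try have : _root_.True := by simp only [_root_.Cfsg.Agent.H138.CoxEng.act.eq_def]
  try have : _root_.True := by simp only [_root_.Cfsg.Agent.H138.CoxEng.ones.eq_1]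
  try have : _root_.True := by simp only [_root_.Cfsg.Agent.H138.CoxEng.P.eq_1]
  try have : _root_.True := by simp only [_root_.Cfsg.Agent.H138.CoxEng.m.eq_1]
  try have : _root_.True := by simp only [_root_.Cfsg.Agent.H138.CoxEng.chk.eq_1]
  try have : _root_.True := by simp only [_root_.Cfsg.Agent.H138.CoxEng.pw.eq_2]
  try have : _root_.True := by simp only [_root_.Cfsg.Agent.H138.CoxEng.W.eq_1]
  try have : _root_.True := by simp only [_root_.Cfsg.Agent.H138.CoxEng.ones.eq_def]
  try have : _root_.True := by simp only [_root_.Cfsg.Agent.H138.CoxEng.nd.eq_1]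
  exact _root_.True.intro
end

-- part: H863/SAsm
section
prune_inst 0x7f00000000000000000000000000000000000000000000000000000000000000000000000000000000000000000000000000000000000000000000000000000000000000000000000000000000000000003fffffffffffffffffffffffffffbeffbdffffffff
set_option linter.all false
open scoped Cfsg.Agent.FastGrp

-- part: H138/Spider
section
/-!
# The spider relations in an abstract extension (for S5590)

If `x 1, ..., x 11` satisfy the Coxeter relations of `Y433` in `E`, if `π : E →* G` has abelian kernel without elements of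
order `2` or `3`, and if the three additional relators hold after applying `π`, then they hold in `E`.
-/

set_option autoImplicit false

namespace Cfsg.Agent.H138.Spider

open Cfsg.Agent.H138.CoxEng

section Cube

variable {E : Type*} [Group E]

/-- The conjugate `w ^ k * u * w ^ (-k)`. -/
def cj (u w : E) (k : ℕ) : E := w ^ k * u * (w ^ k)⁻¹

theorem cj_add (u w : E) (j k : ℕ) : cj u w (j + k) = w ^ j * cj u w k * (w ^ j)⁻¹ := by
  simp only [cj, pow_add, mul_inv_rev]
  group

theorem cj_commute {u w : E} {n : ℕ} (hc : ∀ k < n, Commute u (cj u w k)) :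
    ∀ j < n, ∀ k < n, Commute (cj u w j) (cj u w k) := by
  have key : ∀ j k : ℕ, j ≤ k → k < n → Commute (cj u w j) (cj u w k) := by
    intro j k hjk hk
    obtain ⟨i, rfl⟩ := Nat.exists_eq_add_of_le hjk
    have h := hc i (by omega)
    rw [cj_add]
    have h2 : cj u w j = w ^ j * u * (w ^ j)⁻¹ := rfl
    rw [h2]
    exact (Commute.conj_iff _).2 h
  intro j hj k hk
  rcases le_total j k with h | h
  · exact key j k h hk
  · exact (key k j h hj).symm

theorem cj_cube {u : E} (hu : u ^ 3 = 1) (w : E) (k : ℕ) : (cj u w k) ^ 3 = 1 := by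
  rw [cj, conj_pow, hu, mul_one, mul_inv_cancel]

theorem cube_pow {u w : E} {n : ℕ} (hu : u ^ 3 = 1) (hc : ∀ k < n, Commute u (cj u w k)) (hw : w ^ n = 1) :
    ((u * w) ^ n) ^ 3 = 1 := by
  have key : ∀ k ≤ n, (∀ m < n, Commute ((u * w) ^ k * (w ^ k)⁻¹) (cj u w m)) ∧
      ((u * w) ^ k * (w ^ k)⁻¹) ^ 3 = 1 := by
    intro k
    induction k with
    | zero =>
      intro _
      simp
    | succ k ih =>
      intro hk
      obtain ⟨h1, h2⟩ := ih (by omega)
      have hq : (u * w) ^ (k + 1) * (w ^ (k + 1))⁻¹ = ((u * w) ^ k * (w ^ k)⁻¹) * cj u w k := by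
        rw [pow_succ (u * w), pow_succ w, mul_inv_rev, cj]
        simp only [mul_assoc, mul_inv_cancel_left, inv_mul_cancel_left]
      rw [hq]
      refine ⟨fun m hm => (h1 m hm).mul_left (cj_commute hc k (by omega) m hm), ?_⟩
      rw [(h1 k (by omega)).mul_pow, h2, cj_cube hu, mul_one]
  have h := (key n le_rfl).2
  rwa [hw, inv_one, mul_one] at h

end Cube

/-! ### The words -/

def c1 : List ℕ := [5, 4, 3, 6, 7, 8, 9]
def c2 : List ℕ := [5, 9, 10, 6, 7, 8, 4]
def c3 : List ℕ := [5, 4, 3, 6, 9, 10, 11]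
def d6 : List ℕ := pw [5, 7, 4, 9, 6, 8] 5
def sW : List ℕ := [5, 4, 3, 5, 6, 7, 5, 9, 10]
def rA : List ℕ := [3, 4, 5, 6, 7, 8, 9, 5, 4, 3, 6, 5, 4, 7, 6, 5, 9, 5, 6, 7, 4, 5, 6, 3, 4, 5, 9, 8, 7, 6, 5, 4, 3]
def rB : List ℕ := [10, 9, 5, 4, 6, 5, 7, 6, 8, 7, 9, 5, 4, 6, 5, 9, 10, 9, 5, 6, 4, 5, 9, 7, 8, 6, 7, 5, 6, 4, 5, 9, 10]
def wD : List ℕ := [8, 7, 6, 5, 4, 3]
def tT : List ℕ := [9, 5, 4, 3, 6, 5, 4, 7, 6, 5, 9, 5, 6, 7, 4, 5, 6, 3, 4, 5, 9, 10]
def uW : List ℕ := [5, 4, 3, 4, 5, 6, 7, 9, 5, 4, 6, 5, 9, 10, 9, 5, 6, 4, 5, 9, 7, 6]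
def wW : List ℕ := [6, 7, 9, 5, 4, 6, 5, 9, 10, 9, 5, 6, 4, 5, 9, 7, 6, 5, 4, 5, 6, 7, 5, 9, 10]
def gW : List ℕ := [9, 6, 7, 5, 6, 4, 5, 9]

private noncomputable def _root_.Cfsg.Agent.LsF.fca9d1b_0 : {f // @Cfsg.Agent.H138.CoxEng.good = f} := ⟨_, by first | (delta Cfsg.Agent.H138.CoxEng.good; rewrite [Cfsg.Agent.LsF.and_eq, Cfsg.Agent.LsF.all_eq]; exact rfl) | exact rfl⟩
private noncomputable def _root_.Cfsg.Agent.LsF.fca9d1b_1 : {f // @Cfsg.Agent.H138.CoxEng.ones = f} := ⟨_, by first | (delta Cfsg.Agent.H138.CoxEng.ones List.brecOn List.brecOn.go Cfsg.Agent.H138.CoxEng.ones._f; rewrite [Cfsg.Agent.LsF.and_eq, Cfsg.Agent.LsF.instIDecEq_eq, Cfsg.Agent.LsF.decide_eq]; (try delta Cfsg.Agent.H138.CoxEng.ones.match_1); (try delta List.casesOn); first | dsimp -zeta only | exact rfl) | exact rfl⟩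
private noncomputable def _root_.Cfsg.Agent.LsF.fca9d1b_2 : {f // @Cfsg.Agent.H138.CoxEng.st = f} := ⟨_, by first | (delta Cfsg.Agent.H138.CoxEng.st; rewrite [Cfsg.Agent.LsF.imul_pat, Cfsg.Agent.LsF.isub_pat, Cfsg.Agent.LsF.zipWith_eq, Cfsg.Agent.LsF.getD_eq]; exact rfl) | exact rfl⟩
private noncomputable def _root_.Cfsg.Agent.LsF.fca9d1b_3 : {f // @Cfsg.Agent.H138.CoxEng.act = f} := ⟨_, by first | (delta Cfsg.Agent.H138.CoxEng.act List.brecOn List.brecOn.go Cfsg.Agent.H138.CoxEng.act._f; rewrite [Cfsg.Agent.LsF.fca9d1b_2.2, Cfsg.Agent.LsF.nsub_pat]; (try delta Cfsg.Agent.H138.CoxEng.act.match_1); (try delta List.casesOn); first | dsimp -zeta only | exact rfl) | exact rfl⟩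
private noncomputable def _root_.Cfsg.Agent.LsF.fca9d1b_4 : {f // @Cfsg.Agent.H138.CoxEng.chk = f} := ⟨_, by first | (delta Cfsg.Agent.H138.CoxEng.chk; rewrite [Cfsg.Agent.LsF.fca9d1b_0.2, Cfsg.Agent.LsF.fca9d1b_1.2, Cfsg.Agent.LsF.fca9d1b_3.2, Cfsg.Agent.LsF.lappend_pat, Cfsg.Agent.LsF.and_eq, Cfsg.Agent.LsF.reverse_eq]; exact rfl) | exact rfl⟩
private noncomputable def _root_.Cfsg.Agent.LsF.fca9d1b_5 : {f // @Cfsg.Agent.H138.CoxEng.pw = f} := ⟨_, by first | (delta Cfsg.Agent.H138.CoxEng.pw Nat.brecOn.go Nat.brecOn Cfsg.Agent.H138.CoxEng.pw._f; rewrite [Cfsg.Agent.LsF.lappend_pat]; (try delta Cfsg.Agent.H138.CoxEng.pw.match_1); (try delta Nat.casesOn); first | dsimp -zeta only | exact rfl) | exact rfl⟩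
theorem k1 : chk (pw c1 9) (pw c1 9).reverse = true := by ((try (rewrite [Cfsg.Agent.LsF.fca9d1b_4.2, Cfsg.Agent.LsF.fca9d1b_5.2, Cfsg.Agent.LsF.reverse_eq])); decide +kernel)
theorem k3 : chk (pw c3 9) (pw c3 9).reverse = true := by decide +kernel
theorem k4 : chk (pw c1 9) (d6 ++ rA) = true := by decide +kernel
theorem k5 : chk (pw c2 9) (d6 ++ rB) = true := by decide +kernel
theorem k6 : chk (rA ++ rA) [] = true := by decide +kernel
theorem k7 : chk (rB ++ rB) [] = true := by decide +kernel
theorem k8 : chk (pw (rB ++ [10]) 3) [] = true := by decide +kernel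
theorem k9 : chk (pw c2 9 ++ rB) (rB ++ pw c2 9) = true := by ((try (rewrite [Cfsg.Agent.LsF.fca9d1b_4.2, Cfsg.Agent.LsF.fca9d1b_5.2, Cfsg.Agent.LsF.lappend_pat])); decide +kernel)
theorem k10 : chk (pw c2 9 ++ [10]) ([10] ++ pw c2 9) = true := by decide +kernel
theorem k11 : chk (pw c2 9 ++ pw c2 9) [] = true := by decide +kernel
theorem k12 : chk (wD ++ (rA ++ ([10] ++ wD.reverse))) tT = true := by decide +kernel
theorem k13 : chk ([10] ++ (pw sW 10 ++ [10])) (pw sW 10 ++ pw tT.reverse 3) = true := by ((try (rewrite [Cfsg.Agent.LsF.fca9d1b_4.2, Cfsg.Agent.LsF.fca9d1b_5.2, Cfsg.Agent.LsF.lappend_pat, Cfsg.Agent.LsF.reverse_eq])); decide +kernel)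
theorem k14 : chk sW (uW ++ wW) = true := by decide +kernel
theorem k15 : chk uW (gW ++ (tT ++ gW.reverse)) = true := by decide +kernel
theorem k16 : chk (pw wW 10) [] = true := by ((try (rewrite [Cfsg.Agent.LsF.fca9d1b_4.2, Cfsg.Agent.LsF.fca9d1b_5.2])); decide +kernel)
theorem k17 : ∀ k : Fin 10, chk (uW ++ (pw wW k ++ (uW ++ (pw wW k).reverse)))
    ((pw wW k ++ (uW ++ (pw wW k).reverse)) ++ uW) = true := by (refine of_decide_eq_true ?_; (try (rewrite [Cfsg.Agent.LsF.fca9d1b_4.2, Cfsg.Agent.LsF.fca9d1b_5.2, Cfsg.Agent.LsF.lappend_pat, Cfsg.Agent.LsF.reverse_eq, Cfsg.Agent.LsF.dBoolEq_eq, Cfsg.Agent.LsF.dForallFin_eq, Cfsg.Agent.LsF.decide_eq])); decide +kernel)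

theorem gG : good tT = true ∧ good gW = true ∧ good wD = true ∧ good (pw c1 9) = true ∧ good (pw c3 9) = true := by
  decide +kernel

theorem gw (k : ℕ) : good (pw wW k) = true := by
  induction k with
  | zero => rfl
  | succ k ih =>
    have h : good wW = true := by decide +kernel
    simp only [pw, good, List.all_append, Bool.and_eq_true] at ih h ⊢
    exact ⟨h, ih⟩

/-- **The spider relations lift.** -/
theorem lift {E G : Type*} [Group E] [Group G] (π : E →* G) (x : ℕ → E)
    (sq : ∀ i, 1 ≤ i → i ≤ 11 → x i * x i = 1)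
    (cm : ∀ i j, 1 ≤ i → i < j → j ≤ 11 →
      (i, j) ∉ [(1,2),(2,3),(3,4),(4,5),(5,6),(6,7),(7,8),(5,9),(9,10),(10,11)] → x i * x j = x j * x i)
    (br : ∀ i j, (i, j) ∈ [(1,2),(2,3),(3,4),(4,5),(5,6),(6,7),(7,8),(5,9),(9,10),(10,11)] →
      x i * x j * x i = x j * x i * x j)
    (_ab : ∀ a b, π a = 1 → π b = 1 → a * b = b * a)
    (n2 : ∀ a, π a = 1 → a * a = 1 → a = 1) (n3 : ∀ a, π a = 1 → a * a * a = 1 → a = 1)
    (g0 : π ((x 5 * x 4 * x 3 * x 5 * x 6 * x 7 * x 5 * x 9 * x 10) ^ 10) = 1)
    (g1 : π ((x 5 * x 4 * x 3 * x 6 * x 7 * x 8 * x 9) ^ 9) = 1)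
    (g2 : π ((x 5 * x 4 * x 3 * x 6 * x 9 * x 10 * x 11) ^ 9) = 1) :
    (x 5 * x 4 * x 3 * x 5 * x 6 * x 7 * x 5 * x 9 * x 10) ^ 10 = 1 ∧
      (x 5 * x 4 * x 3 * x 6 * x 7 * x 8 * x 9) ^ 9 = 1 ∧
      (x 5 * x 4 * x 3 * x 6 * x 9 * x 10 * x 11) ^ 9 = 1 := by
  have sq' : ∀ i, 1 ≤ i → i ≤ 11 → x i * x i = 1 := sq
  have cm' : ∀ i j, 1 ≤ i → i < j → j ≤ 11 → (i, j) ∉ edges → x i * x j = x j * x i := cm
  have br' : ∀ i j, (i, j) ∈ edges → x i * x j * x i = x j * x i * x j := br
  clear cm br sq
  have we : ∀ u v : List ℕ, chk u v = true → P x u = P x v := wordEq sq' cm' br'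
  have hs : x 5 * x 4 * x 3 * x 5 * x 6 * x 7 * x 5 * x 9 * x 10 = P x sW := by
    simp [P, sW, mul_assoc]
  have h1 : x 5 * x 4 * x 3 * x 6 * x 7 * x 8 * x 9 = P x c1 := by
    simp [P, c1, mul_assoc]
  have h3 : x 5 * x 4 * x 3 * x 6 * x 9 * x 10 * x 11 = P x c3 := by
    simp [P, c3, mul_assoc]
  rw [hs] at g0 ⊢
  rw [h1] at g1 ⊢
  rw [h3] at g2 ⊢
  clear hs h1 h3
  -- (1)
  have z1 : P x c1 ^ 9 = 1 := by
    refine n2 _ g1 ?_
    have h := we _ _ k1
    rw [P_reverse sq' _ gG.2.2.2.1, P_pw] at h
    nth_rewrite 1 [h]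
    exact inv_mul_cancel _
  have z3 : P x c3 ^ 9 = 1 := by
    refine n2 _ g2 ?_
    have h := we _ _ k3
    rw [P_reverse sq' _ gG.2.2.2.2, P_pw] at h
    nth_rewrite 1 [h]
    exact inv_mul_cancel _
  refine ⟨?_, z1, z3⟩
  -- (2)
  obtain ⟨a, ha⟩ : ∃ a, a = P x rA := ⟨_, rfl⟩
  obtain ⟨b, hb⟩ : ∃ b, b = P x rB := ⟨_, rfl⟩
  obtain ⟨t, ht⟩ : ∃ t, t = x 10 := ⟨_, rfl⟩
  obtain ⟨z, hz⟩ : ∃ z, z = P x c2 ^ 9 := ⟨_, rfl⟩
  obtain ⟨d, hd⟩ : ∃ d, d = P x d6 := ⟨_, rfl⟩
  have e4 : 1 = d * a := by
    have h := we _ _ k4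
    rw [P_pw, z1, P_append] at h
    rw [hd, ha]; exact h
  have e5 : z = d * b := by
    have h := we _ _ k5
    rw [P_pw, P_append] at h
    rw [hd, hb, hz]; exact h
  have e6 : a * a = 1 := by
    have h := we _ _ k6
    rw [P_append, P_nil] at h
    rw [ha]; exact h
  have e7 : b * b = 1 := by
    have h := we _ _ k7
    rw [P_append, P_nil] at h
    rw [hb]; exact h
  have e8 : (b * t) ^ 3 = 1 := by
    have h := we _ _ k8
    rw [P_pw, P_append, P_single, P_nil] at h
    rw [hb, ht]; exact h
  have e9 : z * b = b * z := by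
    have h := we _ _ k9
    rw [P_append, P_append, P_pw] at h
    rw [hb, hz]; exact h
  have e10 : z * t = t * z := by
    have h := we _ _ k10
    rw [P_append, P_append, P_pw, P_single] at h
    rw [ht, hz]; exact h
  have e11 : z * z = 1 := by
    have h := we _ _ k11
    rw [P_append, P_pw, P_nil] at h
    rw [hz]; exact h
  -- (3)
  have ha' : a = z * b := by
    have h2 : d = a := by
      have : d * a = a * a := by rw [← e4, e6]
      exact mul_right_cancel this
    rw [e5, h2, mul_assoc, e7, mul_one]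
  have hat : (a * t) ^ 3 = z := by
    have hc : Commute z (b * t) := (show Commute z b from e9).mul_right (show Commute z t from e10)
    rw [ha', mul_assoc, hc.mul_pow, e8, mul_one, pow_succ, pow_two, e11, one_mul]
  -- (4)
  have e12 : P x wD * (a * (t * (P x wD)⁻¹)) = P x tT := by
    have h := we _ _ k12
    rw [P_append, P_append, P_append, P_single, P_reverse sq' _ gG.2.2.1] at h
    rw [ha, ht]; exact h
  have e12' : P x tT ^ 3 = P x wD * z * (P x wD)⁻¹ := by
    rw [← hat, ← conj_pow, ← e12]
    simp only [mul_assoc]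
  -- (5)
  have e13 : t * (P x sW ^ 10 * t) = P x sW ^ 10 * (P x tT)⁻¹ ^ 3 := by
    have h := we _ _ k13
    rw [P_append, P_append, P_append, P_pw, P_pw, P_single, P_reverse sq' _ gG.1] at h
    rw [ht]; exact h
  have hT : P x tT ^ 3 = 1 := by
    have h := congrArg π e13
    have htt : t * t = 1 := by rw [ht]; exact sq' 10 (by norm_num) (by norm_num)
    rw [map_mul, map_mul, map_mul, g0, one_mul, one_mul, ← map_mul, htt, map_one, inv_pow, map_inv, eq_comm,
      inv_eq_one, e12', map_mul, map_mul, map_inv, mul_inv_eq_one, mul_eq_left] at h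
    rw [e12', n2 z h e11, mul_one, mul_inv_cancel]
  -- (6), (7)
  have e14 : P x sW = P x uW * P x wW := by
    have h := we _ _ k14
    rw [P_append] at h
    exact h
  have hu : P x uW ^ 3 = 1 := by
    have h := we _ _ k15
    rw [P_append, P_append, P_reverse sq' _ gG.2.1, ← mul_assoc] at h
    rw [h, conj_pow, hT, mul_one, mul_inv_cancel]
  have hw : P x wW ^ 10 = 1 := by
    have h := we _ _ k16
    rw [P_pw, P_nil] at h
    exact h
  have hcm : ∀ k < 10, Commute (P x uW) (cj (P x uW) (P x wW) k) := by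
    intro k hk
    have h := we _ _ (k17 ⟨k, hk⟩)
    simp only [P_append, P_reverse sq' _ (gw k), P_pw] at h
    rw [commute_iff_eq, cj]
    simp only [mul_assoc] at h ⊢
    exact h
  have hfin : (P x sW ^ 10) ^ 3 = 1 := by
    rw [e14]
    exact cube_pow hu hcm hw
  refine n3 _ g0 ?_
  rwa [pow_succ, pow_two] at hfin

end Cfsg.Agent.H138.Spider
end

-- part: H863/SAsm
section
/-!
# The splitting of extensions of the Baby Monster by the module of degree 4371 (helper863, for S5590)
-/

set_option autoImplicit false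

namespace Cfsg.Agent.H863.SAsm

open Cfsg Cfsg.Agent.Monster Cfsg.Agent.Monster.VecEngine Cfsg.Agent.Monster.VecSpace
open Cfsg.Agent.BabyM.Conc Cfsg.Agent.BabyM.KTab Cfsg.Agent.BabyM.KRow Cfsg.Agent.BabyM.KQ
open Cfsg.Agent.BabyM
open Cfsg.Agent.H863.BRep Cfsg.Agent.H863.BVec Cfsg.Agent.H863.BGrp Cfsg.Agent.H863.BCode
open Cfsg.Agent.H863.SExt Cfsg.Agent.H863.STT Cfsg.Agent.H863.SLift Cfsg.Agent.H863.SMod
open Cfsg.Spor Cfsg.Spor.BabyMonster

theorem pair_symm {F V H : Type*} [Field F] [AddCommGroup V] [Module F V] [Group H] [Finite H]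
    {σ : H →* Module.End F V} {D : QD H} {a b : H} (h : Pair σ D a b) : Pair σ D b a := by
  obtain ⟨S, h1, h3, h4, h5⟩ := h
  exact ⟨S, h1, h4, h3, h5⟩

/-! ### Coxeter relations -/

section cox

variable {E : Type*} [Group E]

theorem comm_of_two {a b : E} (ha : a * a = 1) (hb : b * b = 1) (h : (a * b) ^ 2 = 1) : a * b = b * a := by
  have h1 : a * b * (a * b) = 1 := by rw [← pow_two]; exact h
  calc a * b = a * b * ((a * b) * (b * a)) := by
        rw [show (a * b) * (b * a) = a * (b * b) * a by simp only [mul_assoc], hb, mul_one, ha, mul_one]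
    _ = (a * b * (a * b)) * (b * a) := by simp only [mul_assoc]
    _ = b * a := by rw [h1, one_mul]

theorem two_of_comm {a b : E} (ha : a * a = 1) (hb : b * b = 1) (h : a * b = b * a) : (a * b) ^ 2 = 1 := by
  calc (a * b) ^ 2 = a * (b * a) * b := by rw [pow_two]; simp only [mul_assoc]
    _ = (a * a) * (b * b) := by rw [← h]; simp only [mul_assoc]
    _ = 1 := by rw [ha, hb, one_mul]

theorem braid_of_three {a b : E} (ha : a * a = 1) (hb : b * b = 1) (h : (a * b) ^ 3 = 1) :
    a * b * a = b * a * b := by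
  have h1 : (a * b * a) * (b * a * b) = 1 := by
    rw [← h, pow_succ, pow_two]; simp only [mul_assoc]
  have h3 : (b * a * b) * (b * a * b) = 1 := by
    calc (b * a * b) * (b * a * b) = b * a * (b * b) * (a * b) := by simp only [mul_assoc]
      _ = b * (a * a) * b := by rw [hb]; simp only [mul_assoc, one_mul]
      _ = 1 := by rw [ha, mul_one, hb]
  exact mul_right_cancel (h1.trans h3.symm)

theorem pow_swap {a b : E} (ha : a * a = 1) (hb : b * b = 1) {m : ℕ} (h : (a * b) ^ m = 1) : (b * a) ^ m = 1 := by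
  have e : b * a = (a * b)⁻¹ := by
    rw [mul_inv_rev, ← eq_inv_of_mul_eq_one_left ha, ← eq_inv_of_mul_eq_one_left hb]
  rw [e, inv_pow, h, inv_one]

end cox

/-- The number of a generator. -/
def gen : ℕ → Gen
  | 1 => .t1
  | 2 => .t2
  | 3 => .t3
  | 4 => .t4
  | 5 => .t5
  | 6 => .t6
  | 7 => .t7
  | 8 => .t8
  | 9 => .t9
  | 10 => .t10
  | 11 => .t11
  | _ => .t1

theorem lab2' : ∀ i j : Fin 12, i.1 < j.1 → 1 ≤ i.1 →
    (i.1, j.1) ∉ [(1,2),(2,3),(3,4),(4,5),(5,6),(6,7),(7,8),(5,9),(9,10),(10,11)] →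
    coxLabel edges (gen i.1) (gen j.1) = 2 := by
  decide +kernel

theorem lab2 (i : ℕ) (hi : i < 12) (j : ℕ) (hj : j < 12) (h : i < j) (h1 : 1 ≤ i)
    (h3 : (i, j) ∉ [(1,2),(2,3),(3,4),(4,5),(5,6),(6,7),(7,8),(5,9),(9,10),(10,11)]) :
    coxLabel edges (gen i) (gen j) = 2 := lab2' ⟨i, hi⟩ ⟨j, hj⟩ h h1 h3

theorem lab3 : ∀ p ∈ [(1,2),(2,3),(3,4),(4,5),(5,6),(6,7),(7,8),(5,9),(9,10),(10,11)],
    coxLabel edges (gen p.1) (gen p.2) = 3 := by
  decide +kernel

/-- The even generators. -/
def ev : Gen → Bool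
  | .t1 => true
  | .t3 => true
  | .t5 => true
  | .t7 => true
  | .t10 => true
  | _ => false

theorem odd_q {t : Gen} (h : ev t = false) : (BM.StageW.tw t).all isq = true := by
  cases t <;> first | exact absurd h (by decide) | decide

theorem ev_label {a b : Gen} (ha : ev a = true) (hb : ev b = true) (h : a ≠ b) : coxLabel edges a b = 2 := by
  revert ha hb h
  cases a <;> cases b <;> decide

section

variable {F : Type*} [Field F] (h2 : (2 : F) ≠ 0) {E : Type*} [Group E] (X : _root_.Cfsg.Agent.H863.SExt.Ext (sigma h2) E)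

section

variable {sQ : D.Q →* E} (hQs : X.IsSec sQ) {y : Gen → E}
  (ho : ∀ (t : Gen) (h : ev t = false), y t = sQ ⟨x t, gW_mem_Q (odd_q h)⟩)
  (he : ∀ t : Gen, ev t = true → _root_.Cfsg.Agent.H863.SLift.Good X D sQ (x t) (y t))
  (hc : ∀ a b : Gen, ev a = true → ev b = true → a ≠ b → y a * y b = y b * y a)

include ho he in
theorem sq_E (t : Gen) : y t * y t = 1 := by
  cases h : ev t
  · rw [ho t h, ← map_mul]
    have : (⟨x t, gW_mem_Q (odd_q h)⟩ : D.Q) * ⟨x t, gW_mem_Q (odd_q h)⟩ = 1 := Subtype.ext (x_sq t)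
    rw [this, map_one]
  · exact (he t h).sq (x_sq t)

include hQs ho he in
theorem π_E (t : Gen) : X.π (y t) = x t := by
  cases h : ev t
  · rw [ho t h, hQs]
  · exact (he t h).π

theorem cox_G (a b : Gen) : (x a * x b) ^ coxLabel edges a b = 1 :=
  BM.StageW.cox Instance.all Instance.ok a b

include ho he hc in
theorem cox_E (a b : Gen) : (y a * y b) ^ coxLabel edges a b = 1 := by
  cases h : ev a
  · cases h' : ev b
    · rw [ho a h, ho b h', ← map_mul, ← map_pow]
      have : ((⟨x a, gW_mem_Q (odd_q h)⟩ : D.Q) * ⟨x b, gW_mem_Q (odd_q h')⟩) ^ coxLabel edges a b = 1 :=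
        Subtype.ext (cox_G a b)
      rw [this, map_one]
    · rw [ho a h]
      exact (he b h').rel ⟨x a, gW_mem_Q (odd_q h)⟩ _ (cox_G a b)
  · cases h' : ev b
    · apply pow_swap (sq_E h2 X ho he b) (sq_E h2 X ho he a)
      rw [ho b h']
      exact (he a h).rel ⟨x b, gW_mem_Q (odd_q h')⟩ _ (pow_swap (x_sq a) (x_sq b) (cox_G a b))
    · by_cases hab : a = b
      · subst hab
        have : coxLabel edges a a = 1 := if_pos rfl
        rw [this, pow_one]
        exact sq_E h2 X ho he a
      · rw [ev_label h h' hab]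
        exact two_of_comm (sq_E h2 X ho he a) (sq_E h2 X ho he b) (hc a b h h' hab)

include hQs ho he hc in
theorem long (h3 : (3 : F) ≠ 0) :
    (y .t5 * y .t4 * y .t3 * y .t5 * y .t6 * y .t7 * y .t5 * y .t9 * y .t10) ^ 10 = 1 ∧
      (y .t5 * y .t4 * y .t3 * y .t6 * y .t7 * y .t8 * y .t9) ^ 9 = 1 ∧
      (y .t5 * y .t4 * y .t3 * y .t6 * y .t9 * y .t10 * y .t11) ^ 9 = 1 := by
  have hsq := sq_E h2 X ho he
  have hcox := cox_E h2 X ho he hc
  have hπ := π_E h2 X hQs ho he
  have key := H138.Spider.lift X.π (fun i => y (gen i)) (fun i _ _ => hsq _)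
    (fun i j h1 h4 h5 h6 => comm_of_two (hsq _) (hsq _) (by
      have := hcox (gen i) (gen j)
      rwa [lab2 i (by omega) j (by omega) h4 h1 h6] at this))
    (fun i j h => braid_of_three (hsq _) (hsq _) (by
      have := hcox (gen i) (gen j)
      rwa [lab3 (i, j) h] at this))
    (fun a b ha hb => by
      obtain ⟨u, rfl⟩ := X.ker a ha
      obtain ⟨v, rfl⟩ := X.ker b hb
      exact X.j_comm u v)
    (fun a ha haa => by
      obtain ⟨u, rfl⟩ := X.ker a ha
      rw [← X.j_add, ← X.j_zero] at haa
      have h1 := X.j_inj haa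
      rw [← two_smul F] at h1
      rw [(smul_eq_zero.1 h1).resolve_left h2, X.j_zero])
    (fun a ha haa => by
      obtain ⟨u, rfl⟩ := X.ker a ha
      rw [← X.j_add, ← X.j_add, ← X.j_zero] at haa
      have h1 := X.j_inj haa
      have h4 : (3 : F) • u = 0 := by
        rw [← h1]
        have : (3 : F) = 1 + 1 + 1 := by norm_num
        rw [this, add_smul, add_smul, one_smul]
      rw [(smul_eq_zero.1 h4).resolve_left h3, X.j_zero])
    (by
      simp only [gen, map_pow, map_mul, hπ]
      exact BM.StageW.spider Instance.all Instance.ok)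
    (by
      simp only [gen, map_pow, map_mul, hπ]
      exact BM.StageW.e7a Instance.all Instance.ok)
    (by
      simp only [gen, map_pow, map_mul, hπ]
      exact BM.StageW.e7b Instance.all Instance.ok)
  exact key

include hQs ho he hc in
theorem rel_E (h3 : (3 : F) ≠ 0) :
    ∀ r ∈ coxRelators BabyMonster.edges ∪ {r | r ∈ BabyMonster.extra}, FreeGroup.lift y r = 1 := by
  obtain ⟨k1, k2, k3⟩ := long h2 X hQs ho he hc h3
  rintro r (⟨a, -, b, -, rfl⟩ | hr)
  · rw [map_pow, map_mul, FreeGroup.lift_apply_of, FreeGroup.lift_apply_of]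
    exact cox_E h2 X ho he hc a b
  · have hr' : r ∈ BabyMonster.extra := hr
    unfold BabyMonster.extra at hr'
    simp only [List.mem_cons, List.not_mem_nil, or_false] at hr'
    rcases hr' with rfl | rfl | rfl
    · simpa only [map_pow, map_mul, FreeGroup.lift_apply_of] using k1
    · simpa only [map_pow, map_mul, FreeGroup.lift_apply_of] using k2
    · simpa only [map_pow, map_mul, FreeGroup.lift_apply_of] using k3

end

/-- **The section.** -/
theorem split (h3 : (3 : F) ≠ 0) : ∃ s : BabyMonster →* E, ∀ g, X.π (s g) = BGL.iso g := by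
  obtain ⟨S1, hS1, -, hQ1⟩ := SPair.s1
  have hQF : (Nat.card D.Q : F) ≠ 0 := (hS1.mono hQ1).ne_zero h2 h3
  obtain ⟨sQ, hQs⟩ := X.exists_sec D.Q hQF
  have good : ∀ {t : Gen}, (∃ S : Subgroup G, TT S ∧ x t ∈ S ∧ D.Q ≤ S) → ∃ z, _root_.Cfsg.Agent.H863.SLift.Good X D sQ (x t) z := by
    rintro t ⟨S, hS, ht, hQ⟩
    exact good_exists h2 h3 hQs hS ht hQ
  have hI : InU (sigma h2) D (Pi.single bI 1 : Lane U → F) := by
    rw [inU_iff]
    show ∀ i, ¬ Cd.isU i → (Pi.single bI 1 : Lane U → F) i = 0
    intro i hi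
    rw [Pi.single_eq_of_ne]
    rintro rfl
    exact hi BTI.isU_I
  obtain ⟨x1, x3, x5, x7, x10, g1, g3, g5, g7, g10, c13, c15, c17, c110, c35, c37, c310, c57, c510, c710⟩ :=
    five h2 h3 hQs (t1 := x .t1) (t3 := x .t3) (t5 := x .t5) (t7 := x .t7) (t10 := x .t10) hI (SKer.f5 h2)
    (by
      rintro a (rfl | rfl | rfl | rfl | rfl)
      exacts [good SPair.s1, good SPair.s3, good SPair.s5, good SPair.s7, good SPair.s10])
    SPair.c3_5.symm SPair.c1_5.symm SPair.c5_7 SPair.c5_10 SPair.c1_3 SPair.c1_7 SPair.c1_10 SPair.c3_7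
    SPair.c3_10 SPair.c7_10 (pair_symm (SPair.p3_5 h2)) (pair_symm (SPair.p1_5 h2)) (SPair.p5_7 h2)
    (SPair.p5_10 h2) (SPair.p1_3 h2) (SPair.p1_7 h2) (SPair.p1_10 h2) (SPair.p3_7 h2) (SPair.p3_10 h2)
    (SPair.p7_10 h2) (SKer.kc1_3 h2) (SKer.kc1_7 h2) (SKer.kc1_10 h2) (SKer.kc3_7 h2) (SKer.kc3_10 h2)
    (SKer.kc7_10 h2) (SKer.nz3_7 h2) (SKer.nz3_10 h2) (SKer.nz7_10 h2)
  let yo : (t : Gen) → ev t = false → E := fun t h => sQ ⟨x t, gW_mem_Q (odd_q h)⟩
  let y : Gen → E := fun t => match t with
    | .t1 => x1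
    | .t2 => yo .t2 rfl
    | .t3 => x3
    | .t4 => yo .t4 rfl
    | .t5 => x5
    | .t6 => yo .t6 rfl
    | .t7 => x7
    | .t8 => yo .t8 rfl
    | .t9 => yo .t9 rfl
    | .t10 => x10
    | .t11 => yo .t11 rfl
  have ho : ∀ (t : Gen) (h : ev t = false), y t = sQ ⟨x t, gW_mem_Q (odd_q h)⟩ := by
    intro t h
    cases t <;> first | exact absurd h (by decide) | rfl
  have he : ∀ t : Gen, ev t = true → _root_.Cfsg.Agent.H863.SLift.Good X D sQ (x t) (y t) := by
    intro t h
    cases t
    · exact g1
    · exact absurd h (by decide)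
    · exact g3
    · exact absurd h (by decide)
    · exact g5
    · exact absurd h (by decide)
    · exact g7
    · exact absurd h (by decide)
    · exact absurd h (by decide)
    · exact g10
    · exact absurd h (by decide)
  have hc : ∀ a b : Gen, ev a = true → ev b = true → a ≠ b → y a * y b = y b * y a := by
    intro a b ha hb hab
    cases a <;> first | exact absurd ha (by decide) | skip
    all_goals cases b <;> first | exact absurd hb (by decide) | exact absurd rfl hab | skip
    exacts [c13, c15, c17, c110, c13.symm, c35, c37, c310, c15.symm, c35.symm, c57, c510, c17.symm, c37.symm,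
      c57.symm, c710, c110.symm, c310.symm, c510.symm, c710.symm]
  let s : BabyMonster →* E := PresentedGroup.toGroup (rel_E h2 X hQs ho he hc h3)
  have hs : ∀ t : Gen, s (PresentedGroup.of t) = y t := fun t => PresentedGroup.toGroup.of _
  refine ⟨s, fun g => ?_⟩
  have h4 : X.π.comp s = (BGL.iso : BabyMonster →* G) := by
    apply PresentedGroup.ext
    intro t
    show X.π (s (PresentedGroup.of t)) = BGL.iso (PresentedGroup.of t)
    rw [hs, π_E h2 X hQs ho he]
    exact (BM.KHAll.iso_gB t).symm
  exact DFunLike.congr_fun h4 g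

end

end Cfsg.Agent.H863.SAsm
end

private theorem dce_d51830ba0f17 : _root_.True := by
  try have : _root_.True := by simp only [_root_.Cfsg.Agent.H863.SAsm.gen.eq_1]
  try have : _root_.True := by simp only [_root_.Cfsg.Agent.H863.SAsm.gen.eq_5]
  try have : _root_.True := by simp only [_root_.Cfsg.Agent.H863.SAsm.gen.eq_2]
  try have : _root_.True := by simp only [_root_.Cfsg.Agent.H863.SAsm.gen.eq_3]
  try have : _root_.True := by simp only [_root_.Cfsg.Agent.H138.Spider.cj.eq_1]
  try have : _root_.True := by simp only [_root_.Cfsg.Agent.H863.SAsm.gen.eq_7]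
  try have : _root_.True := by simp only [_root_.Cfsg.Agent.H863.SAsm.gen.eq_9]
  try have : _root_.True := by simp only [_root_.Cfsg.Agent.H863.SAsm.gen.eq_12]
  try have : _root_.True := by simp only [_root_.Cfsg.Agent.H138.Spider.c3.eq_1]
  try have : _root_.True := by simp only [_root_.Cfsg.Agent.H863.SAsm.gen.eq_10]
  try have : _root_.True := by simp only [_root_.Cfsg.Agent.H138.Spider.c1.eq_1]
  try have : _root_.True := by simp only [_root_.Cfsg.Agent.H138.Spider.sW.eq_1]
  try have : _root_.True := by simp only [_root_.Cfsg.Agent.H863.SAsm.gen.eq_11]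
  try have : _root_.True := by simp only [_root_.Cfsg.Agent.H863.SAsm.gen.eq_4]
  try have : _root_.True := by simp only [_root_.Cfsg.Agent.H863.SAsm.gen.eq_8]
  try have : _root_.True := by simp only [_root_.Cfsg.Agent.H863.SAsm.gen.eq_6]
  exact _root_.True.intro
end

-- part: H863/SFin
section
set_option linter.all false
open scoped Cfsg.Agent.FastGrp

/-!
# Extensions of the Baby Monster (helper863, for S5590)
-/

set_option autoImplicit false

namespace Cfsg.Agent.H863.SFin

open Cfsg Cfsg.Agent.Monster Cfsg.Agent.Monster.VecEngine Cfsg.Agent.Monster.VecSpace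
open Cfsg.Agent.BabyM.Conc Cfsg.Agent.BabyM.KTab Cfsg.Agent.BabyM.KRow
open Cfsg.Agent.BabyM
open Cfsg.Agent.H863.BRep Cfsg.Agent.H863.SExt

section

variable {F : Type*} [Field F] (h2 : (2 : F) ≠ 0) {n : Type} [Fintype n] [DecidableEq n]
  {ρ : Cfsg.Spor.BabyMonster →* GL n F}
  (e₀ : (Lane U → F) ≃ₗ[F] (n → F))
  (he₀ : ∀ g m, (ρ g : Matrix n n F).mulVec (e₀ m) = e₀ (sigma h2 (BGL.iso g) m))
  {E : Type*} [Group E] (A : Subgroup E) [A.Normal] (e : E ⧸ A ≃* Cfsg.Spor.BabyMonster)
  (φ : Additive ↥A ≃+ (n → F))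
  (hφ : ∀ (g : E) (a b : ↥A), (b : E) = g * a * g⁻¹ → φ (Additive.ofMul b) =
      (ρ (e (QuotientGroup.mk g)) : Matrix n n F).mulVec (φ (Additive.ofMul a)))

/-- The projection. -/
noncomputable def pi : E →* G := (BGL.iso : Cfsg.Spor.BabyMonster →* G).comp
  ((e : E ⧸ A →* Cfsg.Spor.BabyMonster).comp (QuotientGroup.mk' A))

theorem pi_apply (x : E) : pi A e x = BGL.iso (e (QuotientGroup.mk x)) := rfl

theorem pi_eq_one (x : E) : pi A e x = 1 ↔ x ∈ A := by
  rw [pi_apply, map_eq_one_iff _ BGL.iso.injective, map_eq_one_iff _ e.injective, QuotientGroup.eq_one_iff]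

include he₀ hφ in
theorem exists_ext : ∃ X : Ext (sigma h2) E, X.π = pi A e := by
  refine ⟨{ π := pi A e, surj := ?_, j := fun v => ((φ.symm (e₀ v)).toMul : E), j_add := ?_, j_inj := ?_, ker := ?_, π_j := ?_, conj := ?_ }, rfl⟩
  · intro g
    obtain ⟨x, hx⟩ := QuotientGroup.mk_surjective (e.symm (BGL.iso.symm g))
    exact ⟨x, by rw [pi_apply, hx, MulEquiv.apply_symm_apply, MulEquiv.apply_symm_apply]⟩
  · intro a b
    show ((φ.symm (e₀ (a + b))).toMul : E) = ((φ.symm (e₀ a)).toMul : E) * ((φ.symm (e₀ b)).toMul : E)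
    rw [map_add, map_add, toMul_add]
    rfl
  · intro a b h
    have h1 : (φ.symm (e₀ a)).toMul = (φ.symm (e₀ b)).toMul := Subtype.ext h
    exact e₀.injective (φ.symm.injective (Additive.toMul.injective h1))
  · intro x hx
    rw [pi_eq_one] at hx
    refine ⟨e₀.symm (φ (Additive.ofMul ⟨x, hx⟩)), ?_⟩
    show x = ((φ.symm (e₀ (e₀.symm (φ (Additive.ofMul ⟨x, hx⟩))))).toMul : E)
    rw [LinearEquiv.apply_symm_apply, AddEquiv.symm_apply_apply]
    rfl
  · intro v
    rw [pi_eq_one]
    exact Subtype.property _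
  · intro x v
    set a : A := (φ.symm (e₀ v)).toMul with ha
    have hb : x * a * x⁻¹ ∈ A := Subgroup.Normal.conj_mem inferInstance _ a.2 x
    have h1 := hφ x a ⟨_, hb⟩ rfl
    have h3 : φ (Additive.ofMul a) = e₀ v := by
      rw [ha]
      exact φ.apply_symm_apply _
    rw [h3, he₀, ← pi_apply A e x] at h1
    have h4 : φ.symm (e₀ (sigma h2 (pi A e x) v)) = Additive.ofMul ⟨_, hb⟩ := by
      rw [← h1, AddEquiv.symm_apply_apply]
    show x * (a : E) = ((φ.symm (e₀ (sigma h2 (pi A e x) v))).toMul : E) * x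
    rw [h4]
    show x * (a : E) = x * a * x⁻¹ * x
    rw [inv_mul_cancel_right]

include he₀ hφ in
theorem complement (h3 : (3 : F) ≠ 0) : ∃ K : Subgroup E, A.IsComplement' K := by
  obtain ⟨X, hX⟩ := exists_ext h2 e₀ he₀ A e φ hφ
  obtain ⟨s, hs⟩ := SAsm.split h2 X h3
  refine ⟨s.range, Subgroup.isComplement'_of_disjoint_and_mul_eq_univ ?_ ?_⟩
  · rw [Subgroup.disjoint_def]
    rintro x hx ⟨g, rfl⟩
    rw [← pi_eq_one A e, ← hX, hs, map_eq_one_iff _ BGL.iso.injective] at hx
    rw [hx, map_one]
  · rw [Set.eq_univ_iff_forall]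
    intro x
    refine Set.mem_mul.2 ⟨x * (s (BGL.iso.symm (X.π x)))⁻¹, ?_, s (BGL.iso.symm (X.π x)), ⟨_, rfl⟩,
      inv_mul_cancel_right _ _⟩
    show _ ∈ A
    rw [← pi_eq_one A e, ← hX, map_mul, map_inv, hs, MulEquiv.apply_symm_apply, mul_inv_cancel]

end

end Cfsg.Agent.H863.SFin
end
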